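import Cfsg.Agent.Lib.CIT.TwoNilp.UFour.Structure

/-!
# Sylow subgroups of unitary type with an automorphism of order five: interfaces

`FiveLocal` is the local hypothesis, `FiveRows` the arithmetic data read off the principal block.
-/

set_option autoImplicit false

open Subgroup
open scoped BigOperators

namespace CfsgLib.UFourFive

open CfsgLib.TwoNilp

universe u

/-- The odd core of the centralizer of `u`, as a subgroup of `G`. -/
def coreC {G : Type u} [Group G] (u : G) : Subgroup G :=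
  (Cfsg.oddCore ↥(centralizer ({u} : Set G))).map (centralizer ({u} : Set G)).subtype

/-- `f` induces an automorphism of order five of `S`, trivial on `U`, and each centralizer of an involution
of `U` is `S` and `f` over its odd core. -/
structure FiveLocal {G : Type u} [Group G] (S : Sylow 2 G) (U : Subgroup G) (f : G) : Prop where
  uFour : UFour S U
  odd : Odd (orderOf f)
  five : ∀ u ∈ U, u ≠ 1 → f ^ 5 ∈ coreC u
  norm : ∀ x ∈ (S : Subgroup G), f * x * f⁻¹ ∈ (S : Subgroup G)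
  fix : ∀ u ∈ U, f * u = u * f
  free : ∀ x ∈ (S : Subgroup G), x ∉ U → f * x * f⁻¹ * x⁻¹ ∉ U
  cent : ∀ u ∈ U, u ≠ 1 → centralizer ({u} : Set G) ≤ coreC u ⊔ ((S : Subgroup G) ⊔ zpowers f)

/-- The fixed space of the core in a character with degree `x` and values `z`, `b` exists: `n` is the
dimension of its part where the second involution is `-1`. -/
def Admissible (x z b : ℤ) : Prop :=
  ∃ n : ℤ, 0 ≤ n ∧ 4 ∣ n ∧ 4 * n < x - z ∧ 0 ≤ n + z ∧ 4 * (n + z) ≤ x + 3 * z ∧
    64 * ((n + z) % 5) ≤ x + 3 * z + 60 * b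

/-- Columns of the principal block at `1`, an involution, an element of order four, and the five projections
of the columns at the products of the involution with the elements of order five. -/
structure FiveRows (ι : Type*) [Fintype ι] where
  o : ι
  x : ι → ℤ
  z : ι → ℤ
  b : ι → ℤ
  a : ι → Fin 5 → ℤ
  g : Equiv.Perm ι
  g_o : g o = o
  g_x : ∀ i, x (g i) = x i
  g_z : ∀ i, z (g i) = z i
  g_b : ∀ i, b (g i) = b i
  g_a : ∀ i k, a (g i) k = a i (3 * k)
  x_o : x o = 1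
  z_o : z o = 1
  b_o : b o = 1
  a_o : ∀ k, a o k = if k = 0 then 1 else 0
  x_pos : ∀ i, 0 < x i
  abs_z : ∀ i, |z i| ≤ x i
  sum_a : ∀ i, 4 * ∑ k, a i k = 5 * b i - z i
  cong : ∀ i, (64 : ℤ) ∣ x i + 3 * z i + 60 * b i
  val : ∀ i, ∃ q w : ℤ, Odd q ∧ Odd w ∧ x i * q = z i * w
  big : ∀ i, i ≠ o → Admissible (x i) (z i) (b i)
  norm_b : ∑ i, b i ^ 2 = 16
  norm_z : ∑ i, z i ^ 2 = 320
  bz : ∑ i, b i * z i = 0
  gram : ∀ k l, ∑ i, a i k * a i l = if k = l then 5 else 1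
  ab : ∀ k, ∑ i, a i k * b i = 4
  az : ∀ k, ∑ i, a i k * z i = -16
  lin_b : ∑ i, x i * b i = 0
  lin_z : ∑ i, x i * z i = 0
  lin_a : ∀ k, ∑ i, x i * a i k = 0
  quad_b : ∑ i, (b i : ℚ) * (z i : ℚ) ^ 2 / (x i : ℚ) = 0
  quad_a : ∀ k, ∑ i, (a i k : ℚ) * (z i : ℚ) ^ 2 / (x i : ℚ) < 0
  quad_eq : ∀ k l, ∑ i, (a i k : ℚ) * (z i : ℚ) ^ 2 / (x i : ℚ) =
    ∑ i, (a i l : ℚ) * (z i : ℚ) ^ 2 / (x i : ℚ)

end CfsgLib.UFourFive
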