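import Cfsg.Agent.Lib.CIT.UFourFive.Complete
import Cfsg.Agent.Lib.CIT.UFourFive.Defs

/-!
# There are no admissible columns
-/

set_option autoImplicit false
set_option maxHeartbeats 800000

open Finset

namespace CfsgLib.UFourFive

open Search

theorem totSum_list {α : Type*} (l : List α) (f : α → Row) : totSum (l.map f) =
    ⟨(l.map fun i => (f i).tot.aa).sum, (l.map fun i => (f i).tot.aA).sum, (l.map fun i => (f i).tot.ab).sum,
      (l.map fun i => (f i).tot.AA).sum, (l.map fun i => (f i).tot.Ab).sum, (l.map fun i => (f i).tot.bb).sum,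
      (l.map fun i => (f i).tot.qq).sum⟩ := by
  induction l with
  | nil => rfl
  | cons i l ih =>
    simp only [List.map_cons, totSum, ih, Tot.add, List.sum_cons]

theorem mem_smallInts {x : ℤ} (h : x ^ 2 ≤ 8) : x ∈ smallInts := by
  have h1 : -2 ≤ x := by nlinarith
  have h2 : x ≤ 2 := by nlinarith
  simp only [smallInts, List.mem_cons, List.not_mem_nil, or_false]
  omega

theorem dvd_iff_of_odd {x z q w : ℤ} (hq : Odd q) (hw : Odd w) (h : x * q = z * w) (i : ℕ) :
    (2 : ℤ) ^ i ∣ x ↔ (2 : ℤ) ^ i ∣ z := by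
  have key : ∀ {a c r : ℤ}, Odd r → (2 : ℤ) ^ i ∣ a * r → a = c → (2 : ℤ) ^ i ∣ c := by
    rintro a c r ⟨m, rfl⟩ hd rfl
    exact (IsCoprime.pow_left (show IsCoprime (2 : ℤ) (2 * m + 1) from ⟨-m, 1, by ring⟩)).dvd_of_dvd_mul_right hd
  exact ⟨fun hx => key hw (h ▸ hx.mul_right q) rfl, fun hz => key hq (h.symm ▸ hz.mul_right w) rfl⟩

theorem evenPart_eq_true {x z : ℤ} (h : ∀ i : ℕ, i ≤ 5 → ((2 : ℤ) ^ i ∣ x ↔ (2 : ℤ) ^ i ∣ z)) :
    evenPart x z = true := by
  have hb : ∀ {p q : Prop} [Decidable p] [Decidable q], (p ↔ q) → (decide p == decide q) = true := by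
    intro p q _ _ hpq
    simp [hpq]
  have h1 := h 1 (by norm_num)
  have h2 := h 2 (by norm_num)
  have h3 := h 3 (by norm_num)
  have h4 := h 4 (by norm_num)
  have h5 := h 5 (by norm_num)
  norm_num only at h1 h2 h3 h4 h5
  unfold evenPart
  rw [hb (show x % 2 = 0 ↔ z % 2 = 0 by omega), hb (show x % 4 = 0 ↔ z % 4 = 0 by omega),
    hb (show x % 8 = 0 ↔ z % 8 = 0 by omega), hb (show x % 16 = 0 ↔ z % 16 = 0 by omega),
    hb (show x % 32 = 0 ↔ z % 32 = 0 by omega)]
  rfl

theorem okX_eq_true {x z b : ℤ} (hx : 0 < x) (hz : |z| ≤ x) (h : Admissible x z b) : okX x z b = true := by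
  obtain ⟨n, h0, h4, hlt, hnz, hle, hmod⟩ := h
  obtain ⟨m, rfl⟩ := h4
  lift m to ℕ using (by omega) with m'
  obtain ⟨hz1, hz2⟩ := abs_le.1 hz
  simp only [okX, admB, Bool.and_eq_true, decide_eq_true_eq, List.any_eq_true, List.mem_range]
  refine ⟨⟨⟨hx, hz1⟩, hz2⟩, m', ?_, ⟨⟨by omega, hnz⟩, hle⟩, hmod⟩
  omega

theorem exists_var {u : Row} {x : ℤ} (hx : 0 < x) (hcong : (64 : ℤ) ∣ x + 3 * u.z + 60 * u.b)
    (hev : ∀ i : ℕ, i ≤ 5 → ((2 : ℤ) ^ i ∣ x ↔ (2 : ℤ) ^ i ∣ u.z)) (hok : okX x u.z u.b = true) :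
    ∃ v ∈ Var.ofRow u, Var.Mem v (u, x) := by
  obtain ⟨t, ht⟩ := hcong
  have hr0 : 0 ≤ res u ∧ res u < 64 := ⟨Int.emod_nonneg _ (by norm_num), Int.emod_lt_of_pos _ (by norm_num)⟩
  obtain ⟨s, hs⟩ : (64 : ℤ) ∣ x - res u := by
    unfold res; omega
  lift s to ℕ using (by omega) with k
  have hep : evenPart (res u) u.z = true := evenPart_eq_true fun i hi => by
    have hd : (2 : ℤ) ^ i ∣ 64 * (k : ℤ) :=
      (dvd_trans (pow_dvd_pow 2 hi) (by norm_num : (2 : ℤ) ^ 5 ∣ 64)).mul_right _
    rw [show res u = x - 64 * (k : ℤ) by omega, dvd_sub_left hd]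
    exact hev i hi
  have hk : x = res u + 64 * (k : ℤ) := by omega
  unfold Var.ofRow
  rcases hf : (List.range 8).find? (fun j : ℕ => okX (res u + 64 * (j : ℤ)) u.z u.b) with _ | j
  · have hb : base u = some (res u + 512) := by simp [base, hep, hf]
    have h8 : 8 ≤ k := by
      by_contra hk8
      have := List.find?_eq_none.1 hf k (List.mem_range.2 (by omega))
      rw [← hk] at this
      exact this hok
    rw [hb]
    refine ⟨_, List.mem_singleton_self _, rfl, by simp only; omega, k - 8, Nat.zero_le _, ?_, ?_⟩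
    · intro h he; simp at he
    · simp only; omega
  · have hb : base u = some (res u + 64 * (j : ℤ)) := by simp [base, hep, hf]
    obtain ⟨hj, i, hi, hij, hlt⟩ := List.find?_eq_some_iff_getElem.1 hf
    simp only [List.getElem_range] at hij hlt
    subst hij
    have hle : i ≤ k := by
      by_contra hik
      have := hlt k (by omega)
      rw [← hk] at this
      simp [hok] at this
    rw [hb]
    refine ⟨_, List.mem_singleton_self _, rfl, ?_, k - i, Nat.zero_le _, ?_, ?_⟩
    · simp only [okX, Bool.and_eq_true, decide_eq_true_eq] at hj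
      exact hj.1.1.1
    · intro h he; simp at he
    · simp only; omega

namespace FiveRows

variable {ι : Type*} [Fintype ι] (D : FiveRows ι)

/-- The last four coordinates. -/
def quad (i : ι) : Quad := (D.a i 1, D.a i 2, D.a i 3, D.a i 4)

def sumA (i : ι) : ℤ := D.a i 1 + D.a i 2 + D.a i 3 + D.a i 4

def sumQ (i : ι) : ℤ := D.a i 1 * D.a i 1 + D.a i 2 * D.a i 2 + D.a i 3 * D.a i 3 + D.a i 4 * D.a i 4

theorem z_eq (i : ι) : D.z i = 5 * D.b i - 4 * (D.a i 0 + D.sumA i) := by
  have h := D.sum_a i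
  rw [Fin.sum_univ_five] at h
  simp only [sumA]; linarith

theorem z_ne (i : ι) : D.z i ≠ 0 := by
  obtain ⟨q, w, ⟨m, rfl⟩, -, h⟩ := D.val i
  intro h0
  rw [h0, zero_mul] at h
  rcases mul_eq_zero.1 h with h | h
  · exact (D.x_pos i).ne' h
  · omega

theorem quad_g (i : ι) : D.quad (D.g i) = rot (D.quad i) := by
  have h1 := D.g_a i 1
  have h2 := D.g_a i 2
  have h3 := D.g_a i 3
  have h4 := D.g_a i 4
  rw [show (3 * 1 : Fin 5) = 3 by decide] at h1
  rw [show (3 * 2 : Fin 5) = 1 by decide] at h2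
  rw [show (3 * 3 : Fin 5) = 4 by decide] at h3
  rw [show (3 * 4 : Fin 5) = 2 by decide] at h4
  simp only [quad, rot, h1, h2, h3, h4]

theorem a_zero_g (i : ι) : D.a (D.g i) 0 = D.a i 0 := by
  rw [D.g_a i 0, show (3 * 0 : Fin 5) = 0 by decide]

theorem sumA_g (i : ι) : D.sumA (D.g i) = D.sumA i := by
  have h := D.quad_g i
  simp only [quad, rot, Prod.mk.injEq] at h
  obtain ⟨h1, h2, h3, h4⟩ := h
  simp only [sumA, h1, h2, h3, h4]; ring

theorem sumQ_g (i : ι) : D.sumQ (D.g i) = D.sumQ i := by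
  have h := D.quad_g i
  simp only [quad, rot, Prod.mk.injEq] at h
  obtain ⟨h1, h2, h3, h4⟩ := h
  simp only [sumQ, h1, h2, h3, h4]; ring

theorem quad_pow (d : ℕ) (i : ι) : D.quad ((D.g ^ d) i) = rotN d (D.quad i) := by
  induction d with
  | zero => rfl
  | succ d ih => rw [pow_succ', Equiv.Perm.mul_apply, D.quad_g, ih]; rfl

theorem a_sq_le (i : ι) (hi : i ≠ D.o) (k : Fin 5) : D.a i k ^ 2 + D.a D.o k ^ 2 ≤ 5 := by
  classical
  have h := D.gram k k
  rw [if_pos rfl] at h
  have h2 := Finset.sum_le_sum_of_subset_of_nonneg (Finset.subset_univ {i, D.o})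
    (f := fun j => D.a j k * D.a j k) fun j _ _ => mul_self_nonneg _
  rw [h, Finset.sum_pair hi] at h2
  linarith [sq (D.a i k), sq (D.a D.o k)]

theorem quad_mem (i : ι) : D.quad i ∈ quads := by
  have hk : ∀ k : Fin 5, D.a i k ∈ smallInts := fun k => by
    by_cases hi : i = D.o
    · rw [hi, D.a_o]; split <;> decide
    · exact mem_smallInts (by nlinarith [D.a_sq_le i hi k, sq_nonneg (D.a D.o k)])
  simp only [quads, List.mem_flatMap, List.mem_map]
  exact ⟨_, hk 1, _, hk 2, _, hk 3, _, hk 4, rfl⟩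

theorem a_zero_small (i : ι) (hi : i ≠ D.o) : D.a i 0 ∈ ([-1, 0, 1] : List ℤ) := by
  classical
  have h := D.a_sq_le i hi 0
  rw [D.a_o, if_pos rfl] at h
  have h1 : -2 ≤ D.a i 0 := by nlinarith
  have h2 : D.a i 0 ≤ 2 := by nlinarith
  simp only [List.mem_cons, List.not_mem_nil, or_false]
  by_contra hne
  have hsq : D.a i 0 = 2 ∨ D.a i 0 = -2 := by omega
  have hg := D.gram 0 0
  rw [if_pos rfl, ← Finset.add_sum_erase univ _ (mem_univ D.o),
    ← Finset.add_sum_erase (univ.erase D.o) _ (mem_erase.2 ⟨hi, mem_univ i⟩), D.a_o, if_pos rfl] at hg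
  have h0 : ∑ j ∈ (univ.erase D.o).erase i, D.a j 0 * D.a j 0 = 0 := by
    rcases hsq with e | e <;> rw [e] at hg <;> linarith
  rw [Finset.sum_eq_zero_iff_of_nonneg fun j _ => mul_self_nonneg _] at h0
  have hl := D.lin_a 0
  rw [← Finset.add_sum_erase univ _ (mem_univ D.o),
    ← Finset.add_sum_erase (univ.erase D.o) _ (mem_erase.2 ⟨hi, mem_univ i⟩), D.a_o, if_pos rfl, D.x_o,
    Finset.sum_eq_zero (s := (univ.erase D.o).erase i) fun j hj => by
      rw [mul_self_eq_zero.1 (h0 j hj), mul_zero]] at hl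
  have := D.x_pos i
  rcases hsq with e | e <;> rw [e] at hl <;> omega

theorem b_small (i : ι) (hi : i ≠ D.o) : D.b i ∈ ([-3, -2, -1, 0, 1, 2, 3] : List ℤ) := by
  classical
  have h2 := Finset.sum_le_sum_of_subset_of_nonneg (Finset.subset_univ {i, D.o})
    (f := fun j => D.b j ^ 2) fun j _ _ => sq_nonneg _
  rw [D.norm_b, Finset.sum_pair hi, D.b_o] at h2
  have h1 : -3 ≤ D.b i := by nlinarith
  have h3 : D.b i ≤ 3 := by nlinarith
  simp only [List.mem_cons, List.not_mem_nil, or_false]
  omega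

/-- The row of an index. -/
def row (i : ι) : Row := rowOf (D.a i 0) (D.b i) (D.quad i)

theorem row_eq (i : ι) : D.row i =
    ⟨(period (D.quad i) : ℤ), D.a i 0, D.sumA i, D.b i, D.z i, D.sumQ i⟩ := by
  rw [D.z_eq i]; rfl

/-- Representatives of the orbits of rows. -/
noncomputable def reps : List ι :=
  haveI := Classical.decEq ι
  ((univ.erase D.o).filter fun i => isRep (D.quad i) = true).toList

/-- A sum over the nontrivial indices as a weighted sum over representatives. -/
theorem sum_reps {R : Type*} [CommRing R] (F : ι → R) (hF : ∀ i, F (D.g i) = F i) :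
    ∑ i, F i = F D.o + (D.reps.map fun i => (period (D.quad i) : R) * F i).sum := by
  classical
  rw [reps, Finset.sum_map_toList, ← Finset.add_sum_erase univ F (mem_univ D.o)]
  congr 1
  have hgd : ∀ (d : ℕ) (i : ι), F ((D.g ^ d) i) = F i := fun d i => by
    induction d with
    | zero => rfl
    | succ d ih => rw [pow_succ', Equiv.Perm.mul_apply, hF, ih]
  have hgo : ∀ d : ℕ, (D.g ^ d) D.o = D.o := fun d => by
    induction d with
    | zero => rfl
    | succ d ih => rw [pow_succ', Equiv.Perm.mul_apply, ih, D.g_o]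
  have hone : ∀ i : ι, ∑ d ∈ Finset.range 4, (if counts (D.quad i) d then (1 : R) else 0) = 1 := fun i => by
    rw [Finset.sum_boole]
    have h := List.all_eq_true.1 count_ok _ (D.quad_mem i)
    simp only [decide_eq_true_eq] at h
    have h2 : ((Finset.range 4).filter fun d => counts (D.quad i) d = true).card = 1 := by
      rw [← List.toFinset_range, ← List.toFinset_filter, List.toFinset_card_of_nodup
        (List.nodup_range.filter _)]
      exact h
    rw [h2, Nat.cast_one]
  calc ∑ i ∈ univ.erase D.o, F i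
      = ∑ d ∈ Finset.range 4, ∑ i ∈ univ.erase D.o, (if counts (D.quad i) d then F i else 0) := by
        rw [Finset.sum_comm]
        refine Finset.sum_congr rfl fun i _ => ?_
        calc F i = F i * ∑ d ∈ Finset.range 4, (if counts (D.quad i) d then (1 : R) else 0) := by
              rw [hone, mul_one]
          _ = _ := by rw [Finset.mul_sum]; simp only [mul_ite, mul_one, mul_zero]
    _ = ∑ d ∈ Finset.range 4, ∑ j ∈ univ.erase D.o,
          (if d < period (D.quad j) ∧ isRep (D.quad j) = true then F j else 0) := by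
        refine Finset.sum_congr rfl fun d _ => ?_
        refine Finset.sum_equiv (D.g ^ d) (fun i => ?_) fun i _ => ?_
        · simp only [mem_erase, mem_univ, and_true]
          constructor
          · intro h e; exact h ((D.g ^ d).injective (e.trans (hgo d).symm))
          · intro h e; exact h (e ▸ hgo d)
        · rw [D.quad_pow, hgd]
          simp only [counts, Bool.and_eq_true, decide_eq_true_eq]
    _ = ∑ j ∈ (univ.erase D.o).filter (fun i => isRep (D.quad i) = true), (period (D.quad j) : R) * F j := by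
        rw [Finset.sum_comm, Finset.sum_filter]
        refine Finset.sum_congr rfl fun j _ => ?_
        by_cases hr : isRep (D.quad j) = true
        · simp only [hr, and_true, if_true]
          rw [← Finset.sum_filter, Finset.sum_const, nsmul_eq_mul]
          congr 2
          have hp : period (D.quad j) ≤ 4 := by unfold period; split_ifs <;> norm_num
          rw [show (Finset.range 4).filter (fun d => d < period (D.quad j)) = Finset.range (period (D.quad j)) by
            ext d; simp only [Finset.mem_filter, Finset.mem_range]; omega, Finset.card_range]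
        · simp [hr]

theorem sum_a_mul (i : ι) : ∑ k : Fin 5, D.a i k = D.a i 0 + D.sumA i := by
  rw [Fin.sum_univ_five]; simp only [sumA]; ring

theorem totSum_reps : totSum (D.reps.map D.row) = target := by
  have h0 : ∀ (k : Fin 5), k ≠ 0 → D.a D.o k = 0 := fun k hk => by rw [D.a_o, if_neg hk]
  have hA : D.sumA D.o = 0 := by
    simp only [sumA, h0 1 (by decide), h0 2 (by decide), h0 3 (by decide), h0 4 (by decide)]; rfl
  have hQ : D.sumQ D.o = 0 := by
    simp only [sumQ, h0 1 (by decide), h0 2 (by decide), h0 3 (by decide), h0 4 (by decide)]; rfl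
  have ha0 : D.a D.o 0 = 1 := by rw [D.a_o, if_pos rfl]
  have hga := D.a_zero_g
  have G : ∀ k l : Fin 5, k ≠ l → ∑ i, D.a i k * D.a i l = 1 := fun k l h => by rw [D.gram, if_neg h]
  have G' : ∀ k : Fin 5, ∑ i, D.a i k * D.a i k = 5 := fun k => by rw [D.gram, if_pos rfl]
  have t1 := D.sum_reps (fun i => D.a i 0 * D.a i 0) fun i => by simp only [hga]
  have t2 := D.sum_reps (fun i => D.a i 0 * D.sumA i) fun i => by simp only [hga, D.sumA_g]
  have t3 := D.sum_reps (fun i => D.a i 0 * D.b i) fun i => by simp only [hga, D.g_b]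
  have t4 := D.sum_reps (fun i => D.sumA i * D.sumA i) fun i => by simp only [D.sumA_g]
  have t5 := D.sum_reps (fun i => D.sumA i * D.b i) fun i => by simp only [D.sumA_g, D.g_b]
  have t6 := D.sum_reps (fun i => D.b i * D.b i) fun i => by simp only [D.g_b]
  have t7 := D.sum_reps (fun i => D.sumQ i) D.sumQ_g
  have s1 : ∑ i, D.a i 0 * D.a i 0 = 5 := G' 0
  have s2 : ∑ i, D.a i 0 * D.sumA i = 4 := by
    simp only [sumA, mul_add, Finset.sum_add_distrib]
    rw [G 0 1 (by decide), G 0 2 (by decide), G 0 3 (by decide), G 0 4 (by decide)]; rfl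
  have s3 : ∑ i, D.a i 0 * D.b i = 4 := D.ab 0
  have s4 : ∑ i, D.sumA i * D.sumA i = 32 := by
    simp only [sumA, mul_add, add_mul, Finset.sum_add_distrib]
    rw [G' 1, G' 2, G' 3, G' 4, G 1 2 (by decide), G 1 3 (by decide), G 1 4 (by decide), G 2 1 (by decide),
      G 2 3 (by decide), G 2 4 (by decide), G 3 1 (by decide), G 3 2 (by decide), G 3 4 (by decide),
      G 4 1 (by decide), G 4 2 (by decide), G 4 3 (by decide)]
    rfl
  have s5 : ∑ i, D.sumA i * D.b i = 16 := by
    simp only [sumA, add_mul, Finset.sum_add_distrib]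
    rw [D.ab 1, D.ab 2, D.ab 3, D.ab 4]; rfl
  have s6 : ∑ i, D.b i * D.b i = 16 := by rw [← D.norm_b]; simp only [sq]
  have s7 : ∑ i, D.sumQ i = 20 := by
    simp only [sumQ, Finset.sum_add_distrib]
    rw [G' 1, G' 2, G' 3, G' 4]; rfl
  simp only [s1, ha0] at t1
  simp only [s2, ha0, hA] at t2
  simp only [s3, ha0, D.b_o] at t3
  simp only [s4, hA] at t4
  simp only [s5, hA] at t5
  simp only [s6, D.b_o] at t6
  simp only [s7, hQ] at t7
  rw [totSum_list]
  simp only [Row.tot, D.row_eq, target, Tot.mk.injEq]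
  exact ⟨by linarith, by linarith, by linarith, by linarith, by linarith, by linarith, by linarith⟩

theorem z_sum : (D.reps.map fun i => (period (D.quad i) : ℤ) * (D.z i * D.z i)).sum = 319 := by
  have t := D.sum_reps (fun i => D.z i * D.z i) fun i => by simp only [D.g_z]
  have hn := D.norm_z
  simp only [sq] at hn
  rw [hn, D.z_o] at t
  linarith

theorem row_sane (i : ι) : (D.row i).Sane := by
  rw [D.row_eq]
  refine ⟨Int.natCast_nonneg _, ?_, ?_⟩
  · simp only [sumA, sumQ]
    nlinarith [sq_nonneg (D.a i 1 - D.a i 2), sq_nonneg (D.a i 1 - D.a i 3), sq_nonneg (D.a i 1 - D.a i 4),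
      sq_nonneg (D.a i 2 - D.a i 3), sq_nonneg (D.a i 2 - D.a i 4), sq_nonneg (D.a i 3 - D.a i 4)]
  · simp only [sumQ]
    nlinarith [mul_self_nonneg (D.a i 1), mul_self_nonneg (D.a i 2), mul_self_nonneg (D.a i 3),
      mul_self_nonneg (D.a i 4)]

theorem good_rep {i : ι} (hi : i ∈ D.reps) : Good (D.row i, D.x i) := by
  classical
  obtain ⟨hio, hrep⟩ : i ≠ D.o ∧ isRep (D.quad i) = true := by simpa [reps] using hi
  refine ⟨?_, ?_⟩
  · have hb := List.all_eq_true.1 box_ok _ (D.quad_mem i)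
    simp only [hrep, Bool.not_true, Bool.false_or, List.all_eq_true] at hb
    have hb' := hb _ (D.a_zero_small i hio) _ (D.b_small i hio)
    suffices hs : smallRow (D.row i) = true by
      simp only [Bool.or_eq_true, Bool.not_eq_true', decide_eq_true_eq] at hb'
      rcases hb' with hb' | hb'
      · exact absurd hs (by simp [row, hb'])
      · exact hb'
    simp only [smallRow, Bool.and_eq_true, decide_eq_true_eq]
    refine ⟨⟨?_, ?_⟩, by rw [D.row_eq]; exact D.z_ne i⟩
    · obtain ⟨l1, l2, he⟩ := List.append_of_mem hi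
      have ht := D.totSum_reps
      have hp : (D.reps.map D.row).Perm (D.row i :: (l1 ++ l2).map D.row) := by
        rw [he]; exact (List.perm_middle (a := i)).map D.row
      rw [totSum_perm hp, totSum] at ht
      rw [← ht, Tot.add_sub]
      exact fits_totSum _ fun u hu => by
        obtain ⟨j, -, rfl⟩ := List.mem_map.1 hu
        exact D.row_sane j
    · rw [D.row_eq, ← D.z_sum]
      refine List.single_le_sum (fun x hx => ?_) _ (List.mem_map.2 ⟨i, hi, rfl⟩)
      obtain ⟨j, -, rfl⟩ := List.mem_map.1 hx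
      exact mul_nonneg (Int.natCast_nonneg _) (mul_self_nonneg _)
  · obtain ⟨q, w, hq, hw, h⟩ := D.val i
    rw [D.row_eq]
    exact exists_var (D.x_pos i) (D.cong i) (fun j _ => dvd_iff_of_odd hq hw h j)
      (okX_eq_true (D.x_pos i) (D.abs_z i) (D.big i hio))

theorem cons_reps : Cons (D.reps.map fun i => (D.row i, D.x i)) := by
  intro e he
  have hga := D.a_zero_g
  have hlin : ∑ i, (D.x i : ℚ) * ((e.p * D.a i 0 + e.q * D.sumA i + e.r * D.b i : ℤ) : ℚ) = 0 := by
    have e0 : ∀ k, ∑ i, (D.x i : ℚ) * (D.a i k : ℚ) = 0 := fun k => by exact_mod_cast D.lin_a k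
    have eb : ∑ i, (D.x i : ℚ) * (D.b i : ℚ) = 0 := by exact_mod_cast D.lin_b
    simp only [sumA, Int.cast_add, Int.cast_mul, mul_add, Finset.sum_add_distrib, mul_left_comm (D.x _ : ℚ),
      ← Finset.mul_sum, e0, eb, mul_zero, add_zero]
  have hquad : ∑ i, ((e.p * D.a i 0 + e.q * D.sumA i + e.r * D.b i : ℤ) : ℚ) * (D.z i : ℚ) ^ 2 / (D.x i : ℚ) =
      ((e.p + 4 * e.q : ℤ) : ℚ) * ∑ i, (D.a i 0 : ℚ) * (D.z i : ℚ) ^ 2 / (D.x i : ℚ) := by
    have hb := D.quad_b
    simp only [sumA, Int.cast_add, Int.cast_mul, mul_add, add_mul, add_div, Finset.sum_add_distrib, mul_assoc,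
      mul_div_assoc, ← Finset.mul_sum] at hb ⊢
    have q : ∀ k, ∑ i, (D.a i k : ℚ) * ((D.z i : ℚ) ^ 2 / (D.x i : ℚ)) =
        ∑ i, (D.a i 0 : ℚ) * ((D.z i : ℚ) ^ 2 / (D.x i : ℚ)) := fun k => by
      have := D.quad_eq k 0
      simp only [mul_div_assoc] at this
      exact this
    rw [hb, q 1, q 2, q 3, q 4]
    push_cast
    ring
  have hgc : ∀ i, ((e.p * D.a (D.g i) 0 + e.q * D.sumA (D.g i) + e.r * D.b (D.g i) : ℤ) : ℚ) =
      ((e.p * D.a i 0 + e.q * D.sumA i + e.r * D.b i : ℤ) : ℚ) := fun i => by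
    rw [hga, D.sumA_g, D.g_b]
  have ho : D.sumA D.o = 0 := by simp [sumA, D.a_o]
  have ha0 : D.a D.o 0 = 1 := by rw [D.a_o, if_pos rfl]
  have hzero : ∀ F : ι → ℚ, ∀ c : ℚ, (∀ i, F (D.g i) = F i) → ∑ i, F i = c →
      F D.o + (D.reps.map fun i => (period (D.quad i) : ℚ) * F i).sum = c :=
    fun F c hF hc => (D.sum_reps F hF).symm.trans hc
  have hlin' := hzero _ _ (fun i => by rw [hgc, D.g_x]) hlin
  have hquad' := hzero _ _ (fun i => by rw [hgc, D.g_x, D.g_z]) hquad
  have hneg := D.quad_a 0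
  rw [ha0, ho, D.b_o, D.x_o] at hlin'
  rw [ha0, ho, D.b_o, D.x_o, D.z_o] at hquad'
  push_cast at hlin' hquad'
  have hkind : (e.kind = .quad → e.p + 4 * e.q = 0) ∧ (e.kind = .neg → e.p + 4 * e.q = 1) := by
    simp only [Search.eqns, List.mem_cons, List.not_mem_nil, or_false] at he
    rcases he with rfl | rfl | rfl | rfl | rfl | rfl | rfl | rfl | rfl | rfl <;> decide
  simp only [total, List.map_map]
  by_cases hk : e.kind = .lin
  · rw [if_neg (by rw [hk]; decide)]
    rw [List.map_congr_left (g := fun i => (period (D.quad i) : ℚ) *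
      ((D.x i : ℚ) * ((e.p * D.a i 0 + e.q * D.sumA i + e.r * D.b i : ℤ) : ℚ))) fun i _ => by
        simp only [Function.comp_apply, term, hk, Eqn.coef, D.row_eq]; push_cast; ring]
    have hst : (e.start : ℚ) = (e.p : ℚ) + e.r := by simp only [Eqn.start, hk]; push_cast; ring
    push_cast at hlin' ⊢
    linarith
  · rw [List.map_congr_left (g := fun i => (scale : ℚ) * ((period (D.quad i) : ℚ) *
      (((e.p * D.a i 0 + e.q * D.sumA i + e.r * D.b i : ℤ) : ℚ) * (D.z i : ℚ) ^ 2 / (D.x i : ℚ)))) fun i _ => by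
        have hk' : e.kind = .quad ∨ e.kind = .neg := by cases h : e.kind <;> simp_all
        rcases hk' with hk' | hk' <;>
          (simp only [Function.comp_apply, term, hk', Eqn.coef, D.row_eq]; push_cast; ring),
      List.sum_map_mul_left]
    have hst : (e.start : ℚ) = (scale : ℚ) * ((e.p : ℚ) + e.r) := by
      have hk' : e.kind = .quad ∨ e.kind = .neg := by cases h : e.kind <;> simp_all
      rcases hk' with hk' | hk' <;> (simp only [Eqn.start, hk']; push_cast; ring)
    have hs : (0 : ℚ) < (scale : ℚ) := by norm_num [scale]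
    have hsum : (e.start : ℚ) + (scale : ℚ) * (D.reps.map fun i => (period (D.quad i) : ℚ) *
        (((e.p * D.a i 0 + e.q * D.sumA i + e.r * D.b i : ℤ) : ℚ) * (D.z i : ℚ) ^ 2 / (D.x i : ℚ))).sum =
        (scale : ℚ) * (((e.p : ℚ) + 4 * e.q) * ∑ i, (D.a i 0 : ℚ) * (D.z i : ℚ) ^ 2 / (D.x i : ℚ)) := by
      rw [hst, ← mul_add]
      congr 1
      push_cast at hquad' ⊢
      linarith
    rw [hsum]
    rcases hek : e.kind with _ | _ | _
    · exact absurd hek hk
    · have h0 : (e.p : ℚ) + 4 * e.q = 0 := by exact_mod_cast hkind.1 hek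
      simp [h0]
    · have h0 : (e.p : ℚ) + 4 * e.q = 1 := by exact_mod_cast hkind.2 hek
      rw [if_pos rfl, h0, one_mul]
      exact mul_neg_of_pos_of_neg hs hneg

end FiveRows

/-- There are no columns with only admissible rows. -/
theorem FiveRows.false {ι : Type*} [Fintype ι] (D : FiveRows ι) : False :=
  no_items (l := D.reps.map fun i => (D.row i, D.x i))
    (fun it hit => by
      obtain ⟨i, hi, rfl⟩ := List.mem_map.1 hit
      exact D.good_rep hi)
    (by rw [List.map_map]; exact D.totSum_reps)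
    D.cons_reps

end CfsgLib.UFourFive
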