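import Cfsg.Agent.Lib.CIT.UFourFive.Search
import Mathlib.Data.List.Range

/-!
# Rows up to the action of the Galois group
-/

set_option autoImplicit false

namespace CfsgLib.UFourFive.Search

/-- The last four coordinates of a row. -/
abbrev Quad := ℤ × ℤ × ℤ × ℤ

/-- The Galois action: coordinate `k` becomes coordinate `3 k` mod `5`. -/
def rot : Quad → Quad
  | (a1, a2, a3, a4) => (a3, a1, a4, a2)

def rotN : ℕ → Quad → Quad
  | 0, w => w
  | n + 1, w => rot (rotN n w)

def code : Quad → ℤ
  | (a1, a2, a3, a4) => ((a1 * 5 + a2) * 5 + a3) * 5 + a4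

def period (w : Quad) : ℕ := if rot w = w then 1 else if rotN 2 w = w then 2 else 4

def isRep (w : Quad) : Bool :=
  decide (code w ≤ code (rot w)) && decide (code w ≤ code (rotN 2 w)) && decide (code w ≤ code (rotN 3 w))

/-- Position `d` of the orbit counts. -/
def counts (w : Quad) (d : ℕ) : Bool := decide (d < period (rotN d w)) && isRep (rotN d w)

def smallInts : List ℤ := [-2, -1, 0, 1, 2]

def quads : List Quad :=
  smallInts.flatMap fun p => smallInts.flatMap fun q => smallInts.flatMap fun r => smallInts.map fun s => (p, q, r, s)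

def rowOf (a b : ℤ) : Quad → Row
  | w@(a1, a2, a3, a4) =>
    ⟨(period w : ℤ), a, a1 + a2 + a3 + a4, b, 5 * b - 4 * (a + (a1 + a2 + a3 + a4)),
      a1 * a1 + a2 * a2 + a3 * a3 + a4 * a4⟩

def Row.canon (u : Row) : Row := if u.z < 0 then u.neg else u

def smallRow (u : Row) : Bool :=
  (target.sub u.tot).fits && decide (u.L * (u.z * u.z) ≤ 319) && decide (u.z ≠ 0)

def boxOK : Bool :=
  quads.all fun w => !isRep w ||
    ([-1, 0, 1] : List ℤ).all fun a => ([-3, -2, -1, 0, 1, 2, 3] : List ℤ).all fun b =>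
      !smallRow (rowOf a b w) || decide ((rowOf a b w).canon ∈ units)

def countOK : Bool :=
  quads.all fun w => decide (((List.range 4).filter (counts w)).length = 1)

def Row.ok (u : Row) : Bool :=
  decide (0 ≤ u.L) && decide (u.A * u.A ≤ 4 * u.Q) && decide (0 ≤ u.Q) &&
    (decide (u.tot.aa ≠ 0) || decide (u.tot.bb ≠ 0) || decide (u.tot.AA ≠ 0) || decide (u.tot.qq ≠ 0))

end CfsgLib.UFourFive.Search
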