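import Cfsg.Agent.Lib.CIT.UFourFive.Box

/-!
# The computations
-/

set_option autoImplicit false
set_option maxRecDepth 100000
set_option maxHeartbeats 0

namespace CfsgLib.UFourFive.Search

theorem count_ok : countOK = true := by decide +kernel

theorem box_ok : boxOK = true := by decide +kernel

theorem units_ok : units.all Row.ok = true := by decide +kernel

theorem patterns_killed : patterns.all checkPattern = true := by decide +kernel

end CfsgLib.UFourFive.Search
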