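import Cfsg.Agent.Lib.CIT.UFourFive.Sound
import Cfsg.Agent.Lib.CIT.UFourFive.Tables

/-!
# Completeness of the patterns
-/

set_option autoImplicit false

namespace CfsgLib.UFourFive.Search

def Tot.add (r s : Tot) : Tot :=
  ⟨r.aa + s.aa, r.aA + s.aA, r.ab + s.ab, r.AA + s.AA, r.Ab + s.Ab, r.bb + s.bb, r.qq + s.qq⟩

def totSum : List Row → Tot
  | [] => ⟨0, 0, 0, 0, 0, 0, 0⟩
  | u :: l => u.tot.add (totSum l)

theorem totSum_perm {l l' : List Row} (h : l.Perm l') : totSum l = totSum l' := by
  induction h with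
  | nil => rfl
  | cons u _ ih => simp only [totSum, ih]
  | swap u v l => simp only [totSum, Tot.add]; congr 1 <;> ring
  | trans _ _ ih1 ih2 => exact ih1.trans ih2

theorem Tot.add_sub (r s : Tot) : (r.add s).sub r = s := by
  simp [Tot.add, Tot.sub]

/-- The part of `Row.ok` that survives sums. -/
def Row.Sane (u : Row) : Prop := 0 ≤ u.L ∧ u.A * u.A ≤ 4 * u.Q ∧ 0 ≤ u.Q

theorem cs_step {p q r L x y : ℤ} (hp : 0 ≤ p) (hr : 0 ≤ r) (hL : 0 ≤ L) (h : q * q ≤ p * r) :
    (L * (x * y) + q) * (L * (x * y) + q) ≤ (L * (x * x) + p) * (L * (y * y) + r) := by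
  have h2 : 2 * (q * (x * y)) ≤ p * (y * y) + r * (x * x) := by
    rcases le_or_gt (q * (x * y)) 0 with hn | hn
    · nlinarith [mul_nonneg hp (mul_self_nonneg y), mul_nonneg hr (mul_self_nonneg x)]
    · have h3 : (2 * (q * (x * y))) ^ 2 ≤ (p * (y * y) + r * (x * x)) ^ 2 := by
        nlinarith [sq_nonneg (p * (y * y) - r * (x * x)), mul_le_mul_of_nonneg_right h
          (mul_nonneg (mul_self_nonneg x) (mul_self_nonneg y))]
      exact (abs_le_of_sq_le_sq' h3
        (add_nonneg (mul_nonneg hp (mul_self_nonneg y)) (mul_nonneg hr (mul_self_nonneg x)))).2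
  nlinarith [mul_le_mul_of_nonneg_left h2 hL]

theorem fits_totSum : ∀ (l : List Row), (∀ u ∈ l, u.Sane) → (totSum l).fits = true := by
  intro l hl
  suffices H : 0 ≤ (totSum l).aa ∧ 0 ≤ (totSum l).AA ∧ 0 ≤ (totSum l).bb ∧ 0 ≤ (totSum l).qq ∧
      (totSum l).aA * (totSum l).aA ≤ (totSum l).aa * (totSum l).AA ∧
      (totSum l).ab * (totSum l).ab ≤ (totSum l).aa * (totSum l).bb ∧
      (totSum l).Ab * (totSum l).Ab ≤ (totSum l).AA * (totSum l).bb ∧
      (totSum l).AA ≤ 4 * (totSum l).qq by
    obtain ⟨h1, h2, h3, h4, h5, h6, h7, h8⟩ := H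
    simp [Tot.fits, h1, h2, h3, h4, h5, h6, h7, h8]
  induction l with
  | nil => simp [totSum]
  | cons u l ih =>
    obtain ⟨hL, hAQ, hQ⟩ := hl u List.mem_cons_self
    obtain ⟨h1, h2, h3, h4, h5, h6, h7, h8⟩ := ih fun v hv => hl v (List.mem_cons_of_mem _ hv)
    simp only [totSum, Tot.add, Row.tot]
    refine ⟨?_, ?_, ?_, ?_, cs_step h1 h2 hL h5, cs_step h1 h3 hL h6, cs_step h2 h3 hL h7, ?_⟩
    · nlinarith [mul_nonneg hL (mul_self_nonneg u.a)]
    · nlinarith [mul_nonneg hL (mul_self_nonneg u.A)]
    · nlinarith [mul_nonneg hL (mul_self_nonneg u.b)]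
    · nlinarith [mul_nonneg hL hQ]
    · nlinarith [mul_le_mul_of_nonneg_left hAQ hL]

theorem sane_of_ok {u : Row} (h : u.ok = true) : u.Sane := by
  simp only [Row.ok, Bool.and_eq_true, decide_eq_true_eq] at h
  exact ⟨h.1.1.1, h.1.1.2, h.1.2⟩

theorem unit_ok {u : Row} (h : u ∈ units) : u.ok = true := List.all_eq_true.1 units_ok u h

/-- A coordinate used by a phase. -/
structure Coord (col : Tot → ℤ) : Prop where
  add : ∀ r s, col (r.add s) = col r + col s
  zero : col ⟨0, 0, 0, 0, 0, 0, 0⟩ = 0
  nonneg : ∀ u : Row, u.Sane → 0 ≤ col u.tot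

theorem col_totSum_eq_zero {col : Tot → ℤ} (hc : Coord col) : ∀ {l : List Row}, (∀ u ∈ l, u.Sane) →
    col (totSum l) = 0 → ∀ u ∈ l, col u.tot = 0 := by
  intro l
  induction l with
  | nil => simp
  | cons v l ih =>
    intro hl h u hu
    rw [totSum, hc.add] at h
    have h1 := hc.nonneg v (hl v List.mem_cons_self)
    have h2 : 0 ≤ col (totSum l) := by
      clear ih h hu
      induction l with
      | nil => simp [totSum, hc.zero]
      | cons w l ih =>
        rw [totSum, hc.add]
        have := hc.nonneg w (hl w (by simp))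
        have := ih fun x hx => hl x (by
          rcases List.mem_cons.1 hx with rfl | hx
          · simp
          · simp [hx])
        omega
    rcases List.mem_cons.1 hu with rfl | hu
    · omega
    · exact ih (fun x hx => hl x (List.mem_cons_of_mem _ hx)) (by omega) u hu

theorem col_nonneg {col : Tot → ℤ} (hc : Coord col) : ∀ {l : List Row}, (∀ u ∈ l, u.Sane) →
    0 ≤ col (totSum l) := by
  intro l
  induction l with
  | nil => simp [totSum, hc.zero]
  | cons v l ih =>
    intro hl
    rw [totSum, hc.add]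
    have := hc.nonneg v (hl v List.mem_cons_self)
    have := ih fun x hx => hl x (List.mem_cons_of_mem _ hx)
    omega

theorem fill_complete {col : Tot → ℤ} (hc : Coord col) : ∀ (fuel : ℕ) (us : List Row) (r : Tot)
    (acc rest : List Row), (∀ u ∈ rest, u.Sane) → totSum rest = r →
    (∀ u ∈ rest, col u.tot ≠ 0 → u ∈ us) → us.length + (col r).toNat ≤ fuel →
    ∃ r' acc' rest', (r', acc') ∈ fill col fuel us r acc ∧ (acc' ++ rest').Perm (acc ++ rest) ∧
      totSum rest' = r' ∧ (∀ u ∈ rest', u.Sane) ∧ (∀ u ∈ rest', u ∈ rest) ∧ ∀ u ∈ rest', col u.tot = 0 := by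
  intro fuel
  induction fuel with
  | zero =>
    intro us r acc rest hs hr _ hfuel
    have h0 := col_nonneg hc hs
    rw [hr] at h0
    have hz : col r = 0 := by omega
    exact ⟨r, acc, rest, by simp [fill], List.Perm.refl _, hr, hs, fun _ h => h,
      col_totSum_eq_zero hc hs (hr ▸ hz)⟩
  | succ fuel ih =>
    intro us r acc rest hs hr hus hfuel
    by_cases hz : col r = 0
    · exact ⟨r, acc, rest, by simp [fill, hz], List.Perm.refl _, hr, hs, fun _ h => h,
        col_totSum_eq_zero hc hs (hr ▸ hz)⟩
    match us with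
    | [] =>
      exfalso
      refine hz (hr ▸ ?_)
      clear hr hfuel hs ih hz
      induction rest with
      | nil => simp [totSum, hc.zero]
      | cons v l ihl =>
        rw [totSum, hc.add, ihl fun u hu => hus u (List.mem_cons_of_mem _ hu)]
        have : col v.tot = 0 := by
          by_contra hne
          simpa using hus v List.mem_cons_self hne
        omega
    | u :: us' =>
      rw [fill.eq_def]
      simp only [hz, if_false, List.mem_append]
      by_cases hu : u ∈ rest ∧ col u.tot ≠ 0
      · have hperm := List.perm_cons_erase hu.1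
        have hr' : r.sub u.tot = totSum (rest.erase u) := by
          rw [← hr, totSum_perm hperm, totSum, Tot.add_sub]
        have hs' : ∀ v ∈ rest.erase u, v.Sane := fun v hv => hs v (List.mem_of_mem_erase hv)
        have hpos : 0 < col u.tot := lt_of_le_of_ne (hc.nonneg u (hs u hu.1)) (Ne.symm hu.2)
        have hcol : col r = col u.tot + col (r.sub u.tot) := by
          rw [hr', ← hc.add, ← totSum, ← totSum_perm hperm, hr]
        have h0 := col_nonneg hc hs'
        rw [← hr'] at h0
        obtain ⟨r', acc', rest', hmem, hp, h1, h2, h2', h3⟩ := ih (u :: us') (r.sub u.tot) (u :: acc) (rest.erase u)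
          hs' hr'.symm (fun v hv => hus v (List.mem_of_mem_erase hv))
          (by simp only [List.length_cons] at hfuel ⊢; omega)
        refine ⟨r', acc', rest', Or.inl ?_, hp.trans ?_, h1, h2,
          fun v hv => List.mem_of_mem_erase (h2' v hv), h3⟩
        · rw [if_pos (hr' ▸ fits_totSum _ hs')]; exact hmem
        · rw [List.cons_append]
          exact List.perm_middle.symm.trans (hperm.symm.append_left acc)
      · obtain ⟨r', acc', rest', hmem, hp, h1, h2, h2', h3⟩ := ih us' r acc rest hs hr (fun v hv hne => by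
          rcases List.mem_cons.1 (hus v hv hne) with rfl | h
          · exact absurd ⟨hv, hne⟩ hu
          · exact h) (by simp only [List.length_cons] at hfuel; omega)
        exact ⟨r', acc', rest', Or.inr hmem, hp, h1, h2, h2', h3⟩

theorem phase_complete {col : Tot → ℤ} (hc : Coord col) (st : List (Tot × List Row)) {r : Tot}
    {acc rest : List Row} (hst : (r, acc) ∈ st) (hu : ∀ u ∈ rest, u ∈ units) (hr : totSum rest = r)
    (hb : units.length + (col r).toNat ≤ 200) :
    ∃ r' acc' rest', (r', acc') ∈ phase col st ∧ (acc' ++ rest').Perm (acc ++ rest) ∧ totSum rest' = r' ∧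
      (∀ u ∈ rest', u ∈ units) ∧ (∀ u ∈ rest', u ∈ rest) ∧ ∀ u ∈ rest', col u.tot = 0 := by
  obtain ⟨r', acc', rest', hmem, hp, h1, -, h2', h3⟩ := fill_complete hc 200
    (units.filter fun u => decide (col u.tot ≠ 0)) r acc rest (fun u h => sane_of_ok (unit_ok (hu u h))) hr
    (fun u h hne => List.mem_filter.2 ⟨hu u h, decide_eq_true hne⟩)
    (le_trans (Nat.add_le_add_right (List.length_filter_le _ _) _) hb)
  exact ⟨r', acc', rest', List.mem_flatMap.2 ⟨(r, acc), hst, hmem⟩, hp, h1,
    fun u h => hu u (h2' u h), h2', h3⟩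

theorem coord_aa : Coord Tot.aa := ⟨fun _ _ => rfl, rfl, fun u h => mul_nonneg h.1 (mul_self_nonneg u.a)⟩
theorem coord_bb : Coord Tot.bb := ⟨fun _ _ => rfl, rfl, fun u h => mul_nonneg h.1 (mul_self_nonneg u.b)⟩
theorem coord_AA : Coord Tot.AA := ⟨fun _ _ => rfl, rfl, fun u h => mul_nonneg h.1 (mul_self_nonneg u.A)⟩
theorem coord_qq : Coord Tot.qq := ⟨fun _ _ => rfl, rfl, fun _ h => mul_nonneg h.1 h.2.2⟩

theorem sub_le {col : Tot → ℤ} (hc : Coord col) {p : List Row} (hu : ∀ u ∈ p, u ∈ units)
    (hp : totSum p = target) {s : List Row} (hs : ∀ u ∈ s, u ∈ units) {t : List Row}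
    (h : (t ++ s).Perm p) : col (totSum s) ≤ col target := by
  rw [← hp, ← totSum_perm h]
  have ht : ∀ u ∈ t, u.Sane := fun u hu' => sane_of_ok (unit_ok (hu u (h.mem_iff.1 (by simp [hu']))))
  clear h hu hp
  induction t with
  | nil => simp
  | cons v t ih =>
    rw [List.cons_append, totSum, hc.add]
    have := hc.nonneg v (ht v List.mem_cons_self)
    have := ih fun u hu => ht u (List.mem_cons_of_mem _ hu)
    omega

theorem patterns_complete {p : List Row} (hu : ∀ u ∈ p, u ∈ units) (hp : totSum p = target) :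
    ∃ q ∈ patterns, q.Perm p := by
  have hlen : units.length = 87 := by decide
  obtain ⟨r1, a1, s1, m1, q1, t1, u1, -, z1⟩ := phase_complete coord_aa [(target, [])] (List.mem_singleton_self _)
    hu hp (by rw [hlen]; decide)
  have p1 : (a1 ++ s1).Perm p := by simpa using q1
  have b1 : r1.bb ≤ 15 := t1 ▸ sub_le coord_bb hu hp u1 p1
  obtain ⟨r2, a2, s2, m2, q2, t2, u2, w2, z2⟩ := phase_complete coord_bb _ m1 u1 t1 (by rw [hlen]; omega)
  have p2 : (a2 ++ s2).Perm p := q2.trans p1
  have b2 : r2.AA ≤ 32 := t2 ▸ sub_le coord_AA hu hp u2 p2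
  obtain ⟨r3, a3, s3, m3, q3, t3, u3, w3, z3⟩ := phase_complete coord_AA _ m2 u2 t2 (by rw [hlen]; omega)
  have p3 : (a3 ++ s3).Perm p := q3.trans p2
  have b3 : r3.qq ≤ 20 := t3 ▸ sub_le coord_qq hu hp u3 p3
  obtain ⟨r4, a4, s4, m4, q4, t4, u4, w4, z4⟩ := phase_complete coord_qq _ m3 u3 t3 (by rw [hlen]; omega)
  have p4 : (a4 ++ s4).Perm p := q4.trans p3
  have hs4 : s4 = [] := by
    refine List.eq_nil_iff_forall_not_mem.2 fun u hu4 => ?_
    have h := unit_ok (u4 u hu4)
    simp only [Row.ok, Bool.and_eq_true, Bool.or_eq_true, decide_eq_true_eq] at h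
    rcases h.2 with ((h' | h') | h') | h'
    · exact h' (z1 u (w2 u (w3 u (w4 u hu4))))
    · exact h' (z2 u (w3 u (w4 u hu4)))
    · exact h' (z3 u (w4 u hu4))
    · exact h' (z4 u hu4)
  subst hs4
  refine ⟨a4, List.mem_map.2 ⟨(r4, a4), List.mem_filter.2 ⟨m4, decide_eq_true ?_⟩, rfl⟩, by simpa using p4⟩
  exact t4.symm

theorem group_expand : ∀ p : List Row, ((group p).flatMap fun g => List.replicate g.2 g.1) = p := by
  intro p
  induction p with
  | nil => rfl
  | cons u l ih =>
    rw [group]
    rcases hg : group l with _ | ⟨⟨v, m⟩, g⟩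
    · rw [hg] at ih
      simp at ih
      simp [← ih]
    · rw [hg] at ih
      simp only
      by_cases h : u = v
      · subst h
        simp only [if_true, List.flatMap_cons, List.replicate_succ, List.cons_append]
        rw [← ih, List.flatMap_cons]
      · simp only [h, if_false, List.flatMap_cons, List.replicate_one, List.singleton_append]
        rw [← ih, List.flatMap_cons]

theorem exists_perm_map {α β : Type*} (f : α → β) {p : List β} :
    ∀ {l : List α}, (l.map f).Perm p → ∃ l' : List α, l'.Perm l ∧ l'.map f = p := by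
  induction p with
  | nil =>
    intro l h
    exact ⟨l, List.Perm.refl _, h.eq_nil⟩
  | cons b p ih =>
    intro l h
    have hb : b ∈ l.map f := h.mem_iff.2 List.mem_cons_self
    obtain ⟨a, ha, rfl⟩ := List.mem_map.1 hb
    obtain ⟨l1, l2, rfl⟩ := List.append_of_mem ha
    have h' : ((l1 ++ l2).map f).Perm p := by
      refine List.Perm.cons_inv (a := f a) (((List.perm_middle).map f).symm.trans h)
    obtain ⟨l', hl', e⟩ := ih h'
    exact ⟨a :: l', (hl'.cons a).trans List.perm_middle.symm, by simp [e]⟩

/-- An item with an admissible degree. -/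
def Good (it : Item) : Prop :=
  it.1.canon ∈ units ∧ ∃ v ∈ Var.ofRow it.1, Var.Mem v it

theorem tot_canon (u : Row) : u.canon.tot = u.tot := by
  unfold Row.canon
  split <;> simp [Row.neg, Row.tot]

theorem variant_of_canon {u : Row} {v : Var} (h : v ∈ Var.ofRow u) :
    v ∈ Var.ofRow u.canon ++ Var.ofRow u.canon.neg := by
  unfold Row.canon
  split
  · refine List.mem_append_right _ ?_
    rwa [show u.neg.neg = u by simp [Row.neg]]
  · exact List.mem_append_left _ h

theorem variants_le_two (u : Row) : (Var.ofRow u ++ Var.ofRow u.neg).length ≤ 2 := by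
  have h : ∀ w : Row, (Var.ofRow w).length ≤ 1 := fun w => by unfold Var.ofRow; split <;> simp
  simp only [List.length_append]
  have := h u
  have := h u.neg
  omega

theorem gfits_groups : ∀ (gl : List (Row × ℕ)) (l : List Item),
    l.map (fun it => it.1.canon) = gl.flatMap (fun g => List.replicate g.2 g.1) →
    (∀ it ∈ l, Good it) →
    GFits (gl.map fun g => (Var.ofRow g.1 ++ Var.ofRow g.1.neg, g.2)) l := by
  intro gl
  induction gl with
  | nil => intro l h _; simpa [GFits] using h
  | cons g gl ih =>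
    intro l h hgood
    rw [List.flatMap_cons, List.map_eq_append_iff] at h
    obtain ⟨a, b, rfl, ha, hb⟩ := h
    refine ⟨a, b, rfl, ?_, fun it hit => ?_, ih b hb fun it hit => hgood it (List.mem_append_right _ hit)⟩
    · have := congrArg List.length ha
      simpa using this
    · have hc : it.1.canon = g.1 := by
        have hm : it.1.canon ∈ a.map fun it => it.1.canon := List.mem_map.2 ⟨it, hit, rfl⟩
        rw [ha] at hm
        exact List.eq_of_mem_replicate hm
      obtain ⟨-, v, hv, hm⟩ := hgood it (List.mem_append_left _ hit)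
      exact ⟨v, hc ▸ variant_of_canon hv, hm⟩

/-- The search shows that there is no list of good items with the prescribed sums satisfying the equations. -/
theorem no_items {l : List Item} (hgood : ∀ it ∈ l, Good it)
    (hsum : totSum (l.map Prod.fst) = target) (hc : Cons l) : False := by
  have hsum' : totSum (l.map fun it => it.1.canon) = target := by
    rw [← hsum]
    clear hsum hc hgood
    induction l with
    | nil => rfl
    | cons it l ih => simp only [List.map_cons, totSum, ih, tot_canon]
  obtain ⟨q, hq, hperm⟩ := patterns_complete (fun u hu => by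
    obtain ⟨it, hit, rfl⟩ := List.mem_map.1 hu
    exact (hgood it hit).1) hsum'
  obtain ⟨l', hl', he⟩ := exists_perm_map (fun it : Item => it.1.canon) hperm.symm
  have hk := List.all_eq_true.1 patterns_killed q hq
  refine kills_sound 400 [] (groupsOf q) hk (fun g hg => ?_) l ⟨[], l', hl'.symm, List.Forall₂.nil, ?_⟩ hc
  · obtain ⟨g', -, rfl⟩ := List.mem_map.1 hg
    exact variants_le_two _
  · refine gfits_groups (group q) l' (by rw [group_expand]; exact he) fun it hit => hgood it (hl'.mem_iff.1 hit)

end CfsgLib.UFourFive.Search
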