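import Cfsg.Agent.Lib.CIT.TwoNilp.UFour.FiveExists
import Cfsg.Agent.Lib.Bender.Suzuki.Classified
import Cfsg.Agent.Lib.SU.InvolCentThree.Models
import Mathlib.FieldTheory.Finite.GaloisField

/-!
# A simple group with centralizers of involutions inside the centralizer of `U` is `PSU(3, 4)`

The normalizer of `U` is strongly embedded; among Bender's families only `PSU(3, 4)` has a Sylow subgroup
of unitary type of order 64.
-/

set_option autoImplicit false
set_option linter.style.haveILetI false

open Subgroup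
open CfsgLib.TwoNilp (UFour)

namespace CfsgLib.UFourFive

universe u

variable {G : Type u} [Group G] [Finite G] [IsSimpleGroup G]

theorem ne_comm_of_uFour {S : Sylow 2 G} {U : Subgroup G} (h : UFour S U) :
    ¬ IsMulCommutative G ∧ ∃ a ∈ (S : Subgroup G), ∃ b ∈ (S : Subgroup G), a * b ≠ b * a := by
  have hex : ∃ a ∈ (S : Subgroup G), ∃ b ∈ (S : Subgroup G), a * b ≠ b * a := by
    obtain ⟨x, hx, hxU⟩ : ∃ x ∈ (S : Subgroup G), x ∉ U := by
      by_contra hcon
      simp only [not_exists, not_and, not_not] at hcon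
      have := card_dvd_of_le (H := (S : Subgroup G)) (K := U) hcon
      rw [h.cardS, h.cardU] at this; norm_num at this
    haveI : Nontrivial U := Finite.one_lt_card_iff_nontrivial.1 (by rw [h.cardU]; norm_num)
    obtain ⟨⟨u, hu⟩, hu1⟩ := exists_ne (1 : U)
    obtain ⟨y, hy, hxy⟩ := h.comm_surj x hx hxU u hu
    refine ⟨x, hx, y, hy, fun e => hu1 (Subtype.ext ?_)⟩
    show u = 1
    exact hxy.symm.trans (commutatorElement_eq_one_iff_mul_comm.2 e)
  refine ⟨fun hc => ?_, hex⟩
  obtain ⟨a, -, b, -, hab⟩ := hex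
  exact hab (hc.is_comm.comm a b)

/-- The normalizer of `U` is strongly embedded. -/
theorem stronglyEmbedded {S : Sylow 2 G} {U : Subgroup G} (h : UFour S U)
    (hcent : ∀ u ∈ U, u ≠ 1 → centralizer ({u} : Set G) ≤ centralizer (U : Set G)) :
    Cfsg.IsStronglyEmbedded (normalizer (U : Set G)) := by
  haveI : Fact (Nat.Prime 2) := ⟨Nat.prime_two⟩
  set H := normalizer (U : Set G) with hH
  have hSH : (S : Subgroup G) ≤ H := fun s hs => mem_normalizer_iff.2 fun v =>
    ⟨fun hv => by rw [h.central v hv s hs, mul_inv_cancel_right]; exact hv, fun hv => by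
      have e : s * v * s⁻¹ * s = s * (s * v * s⁻¹) := (h.central _ hv s hs).symm
      rw [inv_mul_cancel_right, mul_left_cancel_iff] at e
      exact e.symm ▸ hv⟩
  have hU1 : Nat.card U = 4 := h.cardU
  refine ⟨fun htop => ?_, ?_, fun g hg => ?_⟩
  · rcases (normalizer_eq_top_iff.1 htop).eq_bot_or_eq_top with e | e
    · rw [e, card_bot] at hU1; norm_num at hU1
    · refine (ne_comm_of_uFour h).1 ⟨⟨fun a b => ?_⟩⟩
      exact h.central b (e ▸ mem_top b) a (h.le (e ▸ mem_top a))
  · refine even_iff_two_dvd.2 (dvd_trans ?_ (card_dvd_of_le hSH))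
    rw [h.cardS]; norm_num
  rw [← Nat.not_even_iff_odd, even_iff_two_dvd]
  intro h2
  obtain ⟨t', ht'⟩ := exists_prime_orderOf_dvd_card' 2 h2
  set t := (t' : G) with htdef
  have ht : orderOf t = 2 := by rw [Subgroup.orderOf_coe]; exact ht'
  -- involutions of the normalizer lie in `U`
  have hin : ∀ s ∈ H, orderOf s = 2 → s ∈ U := by
    intro s hs hs2
    obtain ⟨k, hk⟩ := CfsgLib.Invol.exists_conj_le_sylow
      (IsPGroup.of_card (n := 1) (by rw [Nat.card_zpowers, Subgroup.orderOf_mk, hs2, pow_one]) :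
        IsPGroup 2 ↥(zpowers (⟨s, hs⟩ : ↥H))) (S.subtype hSH)
    have hmem : (k : G) * s * (k : G)⁻¹ ∈ (S : Subgroup G) := hk _ (mem_zpowers _)
    exact (mem_normalizer_iff.1 k.2 s).2
      (h.orderOf_mem hmem (by rw [CfsgLib.CIT.orderOf_conj_eq, hs2]))
  have htU : t ∈ U := hin t t'.2.1 ht
  obtain ⟨s, hs, hst⟩ := t'.2.2
  have hst' : g * s * g⁻¹ = t := hst
  have hsU : s ∈ U := hin s hs (by rw [← CfsgLib.CIT.orderOf_conj_eq g s, hst', ht])
  have ht1 : t ≠ 1 := fun e => by rw [e, orderOf_one] at ht; omega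
  have hs1 : s ≠ 1 := fun e => ht1 (by rw [← hst', e]; group)
  -- the two centralizers agree
  refine hg (CfsgLib.Fusion.conjBy_eq_iff.1 (CfsgLib.Fusion.conjBy_eq_of_le
    (CfsgLib.Fusion.conjBy_le_iff.2 fun v hv => ?_)))
  have hc : ∀ x ∈ (S : Subgroup G), x * (g * v * g⁻¹) = g * v * g⁻¹ * x := fun x hx => by
    have hx' : g⁻¹ * x * g ∈ centralizer ({s} : Set G) := mem_centralizer_singleton_iff.2 (by
      have e := h.central t htU x hx
      rw [← hst'] at e
      calc g⁻¹ * x * g * s = g⁻¹ * (x * (g * s * g⁻¹)) * g := by group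
        _ = g⁻¹ * (g * s * g⁻¹ * x) * g := by rw [e]
        _ = _ := by group)
    have e2 := mem_centralizer_iff.1 (hcent s hsU hs1 hx') v hv
    calc x * (g * v * g⁻¹) = g * (g⁻¹ * x * g * v) * g⁻¹ := by group
      _ = g * (v * (g⁻¹ * x * g)) * g⁻¹ := by rw [← e2]
      _ = _ := by group
  have hv2 : v * v = 1 := (h.mem_iff v (h.le hv)).1 hv
  have hmem : g * v * g⁻¹ ∈ (S : Subgroup G) :=
    CfsgLib.TwoNilp.mem_of_normalizes (k := 1) (CfsgLib.Fusion.conjBy_eq_iff.1
      (CfsgLib.Fusion.conjBy_eq_of_le (CfsgLib.Fusion.conjBy_le_iff.2 fun y hy => by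
        rw [← hc y hy, mul_inv_cancel_right]; exact hy))) (by rw [pow_one, conj_pow, sq, hv2, mul_one, mul_inv_cancel])
  exact h.mem_of_conj hv hmem

/-- **Identification.** -/
theorem psu_of_centralizer_le {F : Type*} [Field F] [Fintype F] (hF : Fintype.card F = 16)
    {S : Sylow 2 G} {U : Subgroup G} (h : UFour S U)
    (hcent : ∀ u ∈ U, u ≠ 1 → centralizer ({u} : Set G) ≤ centralizer (U : Set G)) :
    Nonempty (G ≃* Cfsg.PSU 3 F 4) := by
  haveI : Fact (Nat.Prime 2) := ⟨Nat.prime_two⟩
  obtain ⟨hG, a, ha, b, hb, hab⟩ := ne_comm_of_uFour h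
  have hcard : ∀ T : Sylow 2 G, Nat.card (T : Subgroup G) = 64 := fun T => by
    rw [← h.cardS]; exact Nat.card_congr (T.equiv S).toEquiv
  rcases CfsgLib.Bender.Suzuki.families_of_se CfsgLib.Bender.Suzuki.classified (stronglyEmbedded h hcent)
    with ⟨K, i1, i2, ⟨n, hn, hK⟩, ⟨e⟩⟩ | ⟨-, m, hm, hord⟩ | ⟨K, i1, i2, n, hn, hK, ⟨e⟩⟩
  · exfalso
    have hc := CfsgLib.SU.CentThree.psl_two_sylow_comm hK (by omega) (S.mapSurjective (f := e.toMonoidHom) e.surjective)
    have hmem : ∀ x ∈ (S : Subgroup G), e x ∈ ((S.mapSurjective (f := e.toMonoidHom) e.surjective :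
        Sylow 2 (Matrix.ProjectiveSpecialLinearGroup (Fin 2) K)) : Subgroup _) := fun x hx => by
      exact (Sylow.coe_mapSurjective (f := e.toMonoidHom) e.surjective S).ge (mem_map_of_mem _ hx)
    have := hc _ (hmem a ha) _ (hmem b hb)
    rw [← map_mul, ← map_mul] at this
    exact hab (e.injective this)
  · exfalso
    -- three divides the order
    have h3 : 3 ∣ Nat.card G := by
      haveI : Nontrivial U := Finite.one_lt_card_iff_nontrivial.1 (by rw [h.cardU]; norm_num)
      obtain ⟨⟨v, hv⟩, hv1'⟩ := exists_ne (1 : U)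
      have hv1 : v ≠ 1 := fun e => hv1' (Subtype.ext e)
      set N := normalizer (U : Set G)
      have hconj : ∀ w ∈ U, w ≠ 1 → ∃ k ∈ N, k * v * k⁻¹ = w := by
        intro w hw hw1
        obtain ⟨k, hk⟩ := isConj_iff.1 (h.isConj_of_mem hG hv hv1 hw hw1)
        refine ⟨k, by_contra fun hkN => ?_, hk⟩
        have hodd := (stronglyEmbedded h hcent).2.2 k hkN
        have hmem : w ∈ N ⊓ N.map (MulAut.conj k).toMonoidHom := ⟨le_normalizer hw, ⟨v, le_normalizer hv, hk⟩⟩
        have hd := Subgroup.orderOf_dvd_natCard _ hmem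
        rw [h.orderOf_eq_two hw hw1] at hd
        exact Nat.not_even_iff_odd.2 hodd (even_iff_two_dvd.2 hd)
      let F' : ↥N → G := fun k => (k : G) * v * (k : G)⁻¹
      have hr : Set.range F' = (U : Set G) \ {1} := by
        ext w
        constructor
        · rintro ⟨k, rfl⟩
          exact ⟨(mem_normalizer_iff.1 k.2 v).1 hv, fun e => hv1 (conj_eq_one_iff.1 e)⟩
        · rintro ⟨hw, hw1⟩
          obtain ⟨k, hk, e⟩ := hconj w hw hw1
          exact ⟨⟨k, hk⟩, e⟩
      set C := (centralizer ({v} : Set G)).subgroupOf N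
      have hidx : C.index = 3 := by
        rw [index_eq_card]
        have hw : Nat.card (↥N ⧸ C) = Nat.card ↥(Set.range F') := by
          refine Nat.card_congr (Equiv.ofBijective (Quotient.lift (fun k => ⟨F' k, k, rfl⟩) fun a b hab => ?_)
            ⟨fun p q => ?_, fun ⟨w, k, hk⟩ => ⟨QuotientGroup.mk k, Subtype.ext hk⟩⟩)
          · have h0 : a⁻¹ * b ∈ C := QuotientGroup.leftRel_apply.1 hab
            have hab' := mem_subgroupOf.1 h0
            rw [mem_centralizer_singleton_iff] at hab'
            push_cast at hab'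
            refine Subtype.ext ?_
            show (a : G) * v * (a : G)⁻¹ = (b : G) * v * (b : G)⁻¹
            calc (a : G) * v * (a : G)⁻¹ = (a : G) * (v * ((a : G)⁻¹ * b)) * (b : G)⁻¹ := by group
              _ = (a : G) * ((a : G)⁻¹ * b * v) * (b : G)⁻¹ := by rw [hab']
              _ = _ := by group
          · induction p using QuotientGroup.induction_on with
            | H a =>
              induction q using QuotientGroup.induction_on with
              | H b =>
                intro e
                have e' : (a : G) * v * (a : G)⁻¹ = (b : G) * v * (b : G)⁻¹ := congrArg Subtype.val e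
                refine QuotientGroup.eq.2 ?_
                show ((a⁻¹ * b : ↥N) : G) ∈ centralizer ({v} : Set G)
                rw [mem_centralizer_singleton_iff]
                push_cast
                calc (a : G)⁻¹ * b * v = (a : G)⁻¹ * ((b : G) * v * (b : G)⁻¹) * b := by group
                  _ = (a : G)⁻¹ * ((a : G) * v * (a : G)⁻¹) * b := by rw [e']
                  _ = _ := by group
        rw [hw, hr, Nat.card_coe_set_eq, Set.ncard_sdiff_singleton_of_mem (one_mem _), ← Nat.card_coe_set_eq]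
        rw [show Nat.card ↥(U : Set G) = Nat.card U from rfl, h.cardU]
      exact (hidx ▸ C.index_dvd_card).trans (card_subgroup_dvd_card N)
    -- but not for a Suzuki group
    have h64 : Nat.card G % 64 = 0 := Nat.mod_eq_zero_of_dvd (h.cardS ▸ card_subgroup_dvd_card _)
    set q := 2 ^ (2 * m + 1) with hq
    have hq1 : 1 ≤ q := Nat.one_le_two_pow
    have hq3 : q % 3 = 2 := by
      rw [hq, pow_succ, pow_mul, Nat.mul_mod, Nat.pow_mod]
      norm_num
    rw [hord] at h3
    rcases (Nat.prime_three.dvd_mul).1 h3 with h4 | h4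
    · rcases (Nat.prime_three.dvd_mul).1 h4 with h5 | h5
      · have := Nat.prime_three.dvd_of_dvd_pow h5
        omega
      · have : (q ^ 2 + 1) % 3 = 2 := by rw [Nat.add_mod, Nat.pow_mod, hq3]
        omega
    · omega
  · haveI : CharP K 2 := CfsgLib.Bender.Suzuki.charTwo_of_card (n := n * 2) (by rw [hK, pow_mul])
    have hn2 : n = 2 := by
      obtain ⟨W, -⟩ := CfsgLib.SU.unital_sylow_psu (n := n) (by omega) hK
        (S.mapSurjective (f := e.toMonoidHom) e.surjective)
      have h1 := W.card_eq (q := 2 ^ n) (by rw [Nat.card_eq_fintype_card, hK])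
      rw [show Nat.card _ = Nat.card ↥((S : Subgroup G).map e.toMonoidHom) from
          congrArg (fun H : Subgroup _ => Nat.card ↥H) (Sylow.coe_mapSurjective (f := e.toMonoidHom) e.surjective S),
        card_map_of_injective (f := e.toMonoidHom) e.injective, h.cardS, ← pow_mul,
        show (64 : ℕ) = 2 ^ 6 by norm_num] at h1
      have := Nat.pow_right_injective (le_refl 2) h1
      omega
    subst hn2
    obtain ⟨g⟩ := CfsgLib.SU.CentThree.psu_field_congr 3 (2 ^ 2)
      (FiniteField.ringEquivOfCardEq (K := K) (K' := F) (by rw [hK, hF]; norm_num))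
    exact ⟨e.trans g⟩

end CfsgLib.UFourFive
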