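import Cfsg.Agent.Lib.CIT.UFourFive.RowsFusion
import Cfsg.Agent.Lib.CIT.TwoNilp.UFour.Degree
import Cfsg.Agent.Lib.Char.Gallagher
import Cfsg.Agent.Lib.Char.ConstDegreeMinusValue.Counts
import Cfsg.Agent.Lib.LinDeg.Constituent

/-!
# The fixed space of a nontrivial core in a character of the principal block
-/

set_option autoImplicit false
set_option linter.unusedSectionVars false
set_option linter.style.haveILetI false
set_option maxHeartbeats 1600000

open Subgroup Finset
open scoped ComplexConjugate commutatorElement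

namespace CfsgLib.UFourFive

open Cfsg CfsgLib.Char CfsgLib.Block CfsgLib.TwoNilp

universe u

attribute [local instance] oddCore_normal

/-- An element in the coset of an involution over a normal subgroup of odd order is conjugate to a
product of that involution with an element centralizing it. -/
theorem exists_conj_coset {X : Type*} [Group X] [Finite X] {K : Subgroup X} [K.Normal]
    (hK : Odd (Nat.card K)) {u r : X} (hu : u * u = 1) (hr : r ∈ K) :
    ∃ y c : X, c ∈ K ∧ Commute c u ∧ y * (u * r) * y⁻¹ = u * c := by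
  have hui : u⁻¹ = u := inv_eq_of_mul_eq_one_right hu
  set a := u * r with ha
  have ha2 : a * a ∈ K := by
    rw [show a * a = u * r * u⁻¹ * r by rw [ha, hui]; group]
    exact mul_mem (Subgroup.Normal.conj_mem ‹_› r hr u) hr
  have hodd : ∀ x ∈ K, Odd (orderOf x) := fun x hx => by
    rw [← Subgroup.orderOf_mk x hx]
    exact hK.of_dvd_nat (orderOf_dvd_natCard _)
  obtain ⟨l, hl⟩ := hodd _ ha2
  set i := a * (a * a) ^ l with hi
  have hai : Commute a ((a * a) ^ l) := ((Commute.refl a).mul_right (Commute.refl a)).pow_right l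
  have hii : i * i = 1 := by
    rw [hi, hai.symm.mul_mul_mul_comm a ((a * a) ^ l), ← pow_add, ← pow_succ',
      show l + l + 1 = orderOf (a * a) by omega, pow_orderOf_eq_one]
  set x := u * i with hx
  have hxK : x ∈ K := by
    rw [hx, hi, ha, show u * (u * r * (u * r * (u * r)) ^ l) = u * u * r * (u * r * (u * r)) ^ l by group,
      hu, one_mul]
    exact mul_mem hr (pow_mem ha2 l)
  have hxu : u * x * u⁻¹ = x⁻¹ := by
    rw [hx, mul_inv_rev, hui, inv_eq_of_mul_eq_one_right hii, ← mul_assoc u u i, hu, one_mul]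
  obtain ⟨k, hk⟩ := hodd _ hxK
  set y := x ^ (k + 1) with hy
  have hyy : y * y = x := by
    rw [hy, ← pow_add, show k + 1 + (k + 1) = orderOf x + 1 by omega, pow_add, pow_orderOf_eq_one, one_mul,
      pow_one]
  have hyu : u * y * u⁻¹ = y⁻¹ := by rw [hy, ← conj_pow, hxu, inv_pow]
  have hyu' : y * u = u * y⁻¹ := by
    rw [← hyu, ← mul_assoc, hui, ← mul_assoc, hu, one_mul]
  have hyi : y * i * y⁻¹ = u := by
    have e : i = u * (y * y) := by rw [hyy, hx, ← mul_assoc, hu, one_mul]
    rw [e, show y * (u * (y * y)) * y⁻¹ = y * u * y by group, hyu']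
    group
  refine ⟨y, y * (i⁻¹ * a) * y⁻¹, ?_, ?_, ?_⟩
  · refine Subgroup.Normal.conj_mem ‹_› _ ?_ y
    rw [hi, mul_inv_rev, mul_assoc, inv_mul_cancel, mul_one]
    exact inv_mem (pow_mem ha2 l)
  · have hia : Commute (i⁻¹ * a) i := by
      have : Commute a i := (Commute.refl a).mul_right hai
      exact (Commute.refl i).inv_left.mul_left this
    have e := hia.map (MulAut.conj y).toMonoidHom
    simpa [hyi] using e
  · rw [show y * a * y⁻¹ = y * i * y⁻¹ * (y * (i⁻¹ * a) * y⁻¹) by group, hyi]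

/-- A sum invariant under a map of order five without fixed points is five times an algebraic integer. -/
theorem isIntegral_sum_div_five {α : Type*} [DecidableEq α] (τ : α → α) (F : α → ℂ)
    (hF : ∀ x, IsIntegral ℤ (F x)) (hinv : ∀ x, F (τ x) = F x) (h5 : ∀ x, τ^[5] x = x) (s : Finset α)
    (hs : ∀ x ∈ s, τ x ∈ s) (hne : ∀ x ∈ s, τ x ≠ x) : IsIntegral ℤ ((∑ x ∈ s, F x) / 5) := by
  induction s using Finset.strongInduction with
  | _ s ih =>
    rcases s.eq_empty_or_nonempty with rfl | ⟨x, hx⟩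
    · simpa using isIntegral_zero
    have hper : Function.IsPeriodicPt τ 5 x := h5 x
    have hmin : Function.minimalPeriod τ x = 5 := by
      rcases (Nat.dvd_prime (by norm_num : Nat.Prime 5)).1 hper.minimalPeriod_dvd with e | e
      · exact absurd (Function.minimalPeriod_eq_one_iff_isFixedPt.1 e) (hne x hx)
      · exact e
    set o := (Finset.range 5).image fun i => τ^[i] x with ho
    have hocard : o.card = 5 := by
      rw [ho, Finset.card_image_of_injOn fun i hi j hj e => ?_, Finset.card_range]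
      exact Function.iterate_injOn_Iio_minimalPeriod (by simpa [hmin] using hi) (by simpa [hmin] using hj) e
    have hit : ∀ i, τ^[i] x ∈ s := fun i => by
      induction i with
      | zero => exact hx
      | succ i ihi => rw [Function.iterate_succ_apply']; exact hs _ ihi
    have hFit : ∀ i, F (τ^[i] x) = F x := fun i => by
      induction i with
      | zero => rfl
      | succ i ihi => rw [Function.iterate_succ_apply', hinv, ihi]
    have hos : o ⊆ s := fun y hy => by
      obtain ⟨i, -, rfl⟩ := mem_image.1 hy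
      exact hit i
    have hso : ∑ y ∈ o, F y = 5 * F x := by
      rw [Finset.sum_congr rfl (g := fun _ => F x) fun y hy => by
        obtain ⟨i, -, rfl⟩ := mem_image.1 hy; exact hFit i, Finset.sum_const, hocard, nsmul_eq_mul]
      norm_num
    have hrec := ih (s \ o) (Finset.sdiff_ssubset hos (Finset.card_pos.1 (by omega)))
      (fun y hy => by
        refine mem_sdiff.2 ⟨hs y (mem_sdiff.1 hy).1, fun hto => (mem_sdiff.1 hy).2 ?_⟩
        obtain ⟨i, -, hi⟩ := mem_image.1 hto
        refine mem_image.2 ⟨(4 + i) % 5, mem_range.2 (Nat.mod_lt _ (by norm_num)), ?_⟩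
        have e : τ^[4] (τ^[i] x) = y := by
          rw [hi, ← Function.iterate_succ_apply]; exact h5 y
        rw [← e, ← Function.iterate_add_apply]
        exact hper.iterate_mod_apply _)
      (fun y hy => hne y (mem_sdiff.1 hy).1)
    rw [← Finset.sum_sdiff hos, hso, add_div, mul_div_cancel_left₀ _ (by norm_num : (5 : ℂ) ≠ 0)]
    exact hrec.add (hF x)

variable {G : Type u} [Group G] [Finite G] {S : Sylow 2 G} {U : Subgroup G} {f : G}

namespace FiveLocal

variable (h : FiveLocal S U f)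
include h

/-- An element of the core of one involution of `U` centralizing another one lies in the core of the other. -/
theorem core_le {z w : G} (hz : z ∈ U) (hw : w ∈ U) (hw1 : w ≠ 1) {c : G} (hc : c ∈ coreC z)
    (hcw : Commute c w) : c ∈ coreC w := by
  set C := centralizer ({w} : Set G) with hC
  have hcodd : ∀ g ∈ coreC z, Odd (orderOf g) := fun g hg => by
    obtain ⟨e, he, rfl⟩ := mem_map.1 hg
    show Odd (orderOf ((e : centralizer ({z} : Set G)) : G))
    rw [Subgroup.orderOf_coe, ← Subgroup.orderOf_mk e he]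
    exact (odd_card_oddCore _).of_dvd_nat (orderOf_dvd_natCard _)
  have hcC : c ∈ C := mem_centralizer_singleton_iff.2 hcw.eq
  have hqodd : ∀ g : C, (g : G) ∈ coreC z → Odd (orderOf (qC w g)) := fun g hg =>
    ((Subgroup.orderOf_coe g) ▸ hcodd _ hg).of_dvd_nat (orderOf_map_dvd _ _)
  haveI := h.sBar_normal hw hw1
  have hcomm : ∀ q ∈ sBar w S, q * qC w ⟨c, hcC⟩ = qC w ⟨c, hcC⟩ * q := fun q hq => by
    obtain ⟨s, hs, rfl⟩ := mem_map.1 hq
    have hsS : (s : G) ∈ (S : Subgroup G) := mem_subgroupOf.1 hs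
    set d : C := ⟨c, hcC⟩ * s * ⟨c, hcC⟩⁻¹ * s⁻¹ with hd
    have hdK : (d : G) ∈ coreC z := by
      obtain ⟨e, he, hec⟩ := mem_map.1 hc
      simp only [Subgroup.coe_subtype] at hec
      refine mem_map.2 ⟨e * (⟨s, h.uFour.le_centralizer hz hsS⟩ * e⁻¹ * ⟨s, h.uFour.le_centralizer hz hsS⟩⁻¹),
        mul_mem he ((oddCore_normal _).conj_mem _ (inv_mem he) _), ?_⟩
      simp [hd, hec, mul_assoc]
    have hdS : qC w d ∈ sBar w S := by
      simp only [hd, map_mul, map_inv]
      exact mul_mem (Subgroup.Normal.conj_mem ‹_› _ (mem_map_of_mem _ hs) _) (inv_mem (mem_map_of_mem _ hs))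
    have h1 := eq_one_of_odd sBar_isPGroup hdS (hqodd d hdK)
    simp only [hd, map_mul, map_inv] at h1
    rw [mul_inv_eq_one, mul_inv_eq_iff_eq_mul] at h1
    exact h1.symm
  have hmem : qC w ⟨c, hcC⟩ ∈ sBar w S :=
    h.sBar_selfCent hw hw1 (mem_centralizer_iff.2 hcomm)
  refine mem_map.2 ⟨⟨c, hcC⟩, (QuotientGroup.eq_one_iff _).1 ?_, rfl⟩
  exact eq_one_of_odd sBar_isPGroup hmem (hqodd _ hc)

/-- A character of the principal block takes one value on the coset of an involution of `U` over the core of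
another involution. -/
theorem value_coset [Fintype G] [DecidableEq G] {M : Ideal AlgInt} [M.IsMaximal] (hM : IsPModular 2 M)
    {θ : IrrCharacter G} (hθ : θ ∈ principalBlock M G) {z w : G} (hz : z ∈ U) (hw : w ∈ U) (hw1 : w ≠ 1)
    {r : G} (hr : r ∈ coreC z) : (θ : G → ℂ) (r * w) = (θ : G → ℂ) w := by
  classical
  haveI : Fact (Nat.Prime 2) := ⟨Nat.prime_two⟩
  set Z := centralizer ({z} : Set G) with hZ
  obtain ⟨r', hr', rfl⟩ := mem_map.1 hr
  have hwZ : w ∈ Z := h.uFour.le_centralizer hz (h.uFour.le hw)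
  have hww : w * w = 1 := (h.uFour.mem_iff w (h.uFour.le hw)).1 hw
  obtain ⟨y, c, hc, hcw, hyc⟩ := exists_conj_coset (K := Cfsg.oddCore Z) (odd_card_oddCore Z)
    (u := (⟨w, hwZ⟩ : Z)) (r := (⟨w, hwZ⟩ : Z)⁻¹ * r' * ⟨w, hwZ⟩) (Subtype.ext hww) (by
      simpa using (oddCore_normal Z).conj_mem r' hr' (⟨w, hwZ⟩ : Z)⁻¹)
  have e1 : IsConj ((r' : G) * w) (w * (c : G)) := isConj_iff.2 ⟨y, by
    have := congrArg Subtype.val hyc
    simpa [mul_assoc] using this⟩
  refine (classFun_isConj (isClassFunction_irr θ) e1).trans ?_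
  have hcw' : Commute (c : G) w := congrArg Subtype.val hcw.eq
  set W := centralizer ({w} : Set G)
  obtain ⟨c', hc', hce⟩ := mem_map.1 (h.core_le hz hw hw1 (mem_map.2 ⟨c, hc, rfl⟩) hcw')
  letI : Fintype W := Fintype.ofFinite _
  letI : Fintype (IrrCharacter W) := Fintype.ofFinite _
  have hW : ∀ t : G, t ∈ W ↔ Commute t w := fun t => mem_centralizer_singleton_iff
  have hodd : ¬ 2 ∣ orderOf c' := by
    rw [← Subgroup.orderOf_mk c' hc', ← even_iff_two_dvd, Nat.not_even_iff_odd]
    exact (odd_card_oddCore _).of_dvd_nat (orderOf_dvd_natCard _)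
  have e2 := CfsgLib.Invol.irr_secElt_mul hM (x := w) ⟨1, by rw [h.uFour.orderOf_eq_two hw hw1, pow_one]⟩
    hW hθ (Cfsg.oddCore W) (CfsgLib.Coprime.pPrimeCore_not_dvd Nat.prime_two) (y := 1) hc' (by simp)
    (by rwa [one_mul])
  simp only [one_mul, OneMemClass.coe_one, mul_one] at e2
  rwa [show ((c' : W) : G) = (c : G) from hce] at e2

end FiveLocal

/-- With a nontrivial core every character of the principal block but the trivial one is admissible. -/
theorem admissible [IsSimpleGroup G] (hG : ¬ IsMulCommutative G) (h : FiveLocal S U f)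
    {M : Ideal AlgInt} [M.IsMaximal] (hM : IsPModular 2 M) {z : G} (hz : z ∈ U) (hz1 : z ≠ 1)
    (hO : coreC z ≠ ⊥) :
    ∀ θ ∈ principalBlock M G, θ ≠ oneChar G → ∀ y ∈ (S : Subgroup G), y ∉ U → y * y = z →
      ∀ d v w : ℤ, (θ : G → ℂ) 1 = d → (θ : G → ℂ) z = v → (θ : G → ℂ) y = w → Admissible d v w := by
  intro θ hθ hθ1 y hy hyU hyz d v w hd hv hw
  classical
  haveI : Fact (Nat.Prime 2) := ⟨Nat.prime_two⟩
  letI : Fintype G := Fintype.ofFinite G
  set C := centralizer ({z} : Set G) with hCdef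
  letI : Fintype C := Fintype.ofFinite _
  letI : Fintype (Cfsg.oddCore C) := Fintype.ofFinite _
  letI : Fintype ↥(S : Subgroup G) := Fintype.ofFinite _
  letI : Fintype U := Fintype.ofFinite _
  set K := Cfsg.oddCore C with hK
  set θC : C → ℂ := fun t => (θ : G → ℂ) t with hθC
  have hθCc : IsCharacter C θC := isCharacter_comp (isCharacter_irr θ) C.subtype
  set ψ : C → ℂ := cosetAvg K θC with hψ
  have hψc : IsCharacter C ψ := isCharacter_cosetAvg K hθCc
  have hrest : IsCharacter C (θC - ψ) := by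
    refine isCharacter_of_nat_inner (fun a b => ?_) fun φ => ?_
    · simp only [Pi.sub_apply, isClassFunction_of_isCharacter hθCc a b, isClassFunction_of_isCharacter hψc a b]
    · rw [classInner_sub_left, hψ, classInner_cosetAvg]
      rcases cosetAvg_irr K φ with e | e <;> rw [e]
      · exact ⟨0, by simp⟩
      · rw [classInner_zero_right, sub_zero]
        exact classInner_char_irr_nat hθCc φ
  obtain ⟨m, hm⟩ := isCharacter_degree hψc
  have hKne : (Nat.card K : ℂ) ≠ 0 := Nat.cast_ne_zero.2 Nat.card_pos.ne'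
  -- the degree drops
  have hmd : (m : ℤ) < d := by
    obtain ⟨r, hr, hr1⟩ := ((coreC z).bot_or_exists_ne_one).resolve_left hO
    obtain ⟨r', hr', hre⟩ := mem_map.1 hr
    have hle : ∀ n : K, ((θ : G → ℂ) ((n : C) : G)).re ≤ (d : ℝ) := fun n => by
      have := ConstDegree.re_le_degree θ ((n : C) : G)
      rwa [hd, Complex.intCast_re] at this
    have hlt : ((θ : G → ℂ) ((r' : C) : G)).re < (d : ℝ) := by
      refine lt_of_le_of_ne (hle ⟨r', hr'⟩) fun e => ?_
      have e1 : (θ : G → ℂ) ((r' : C) : G) = (θ : G → ℂ) 1 :=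
        ConstDegree.eq_degree_of_re θ _ (by rw [e, hd, Complex.intCast_re])
      obtain ⟨N, hN, hNk⟩ := CfsgLib.Invol.exists_charKernel θ
      rcases hN.eq_bot_or_eq_top with rfl | rfl
      · have := (hNk _).2 e1
        rw [Subgroup.mem_bot] at this
        exact hr1 (hre.symm.trans this)
      · exact hθ1 (CfsgLib.Invol.eq_oneChar_of_constant θ fun g => (hNk g).1 (mem_top g))
    have hsum : ∑ n : K, (θ : G → ℂ) ((n : C) : G) = (Nat.card K : ℂ) * m := by
      rw [← hm, hψ, cosetAvg, mul_inv_cancel_left₀ hKne]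
      simp [hθC]
    have h1 := Finset.sum_lt_sum (s := (univ : Finset K)) (fun n _ => hle n) ⟨⟨r', hr'⟩, mem_univ _, hlt⟩
    rw [← Complex.re_sum, hsum, Finset.sum_const, card_univ, ← Nat.card_eq_fintype_card, nsmul_eq_mul,
      Complex.mul_re, Complex.natCast_re, Complex.natCast_im, Complex.natCast_re, zero_mul, sub_zero] at h1
    have h2 : ((m : ℤ) : ℝ) < (d : ℝ) := by
      push_cast
      exact lt_of_mul_lt_mul_left h1 (Nat.cast_nonneg _)
    exact_mod_cast h2
  -- the values on U
  have hle : (S : Subgroup G) ≤ C := h.uFour.le_centralizer hz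
  set σ : ↥(S : Subgroup G) → ℂ := fun s => ψ (inclusion hle s) with hσ
  have hσc : IsCharacter ↥(S : Subgroup G) σ := isCharacter_comp hψc (inclusion hle)
  have hval : ∀ {t : G}, t ∈ U → t ≠ 1 → (θ : G → ℂ) t = v := fun ht ht1 => by
    rw [← hv]
    exact classFun_isConj (isClassFunction_irr θ) (h.uFour.isConj_of_mem hG ht ht1 hz hz1)
  have hσU : ∀ t : ↥(S : Subgroup G), (t : G) ∈ U → (t : G) ≠ 1 → σ t = v := fun t ht ht1 => by
    simp only [hσ, hψ, cosetAvg]
    rw [Finset.sum_congr rfl (g := fun _ => (v : ℂ)) fun n _ => ?_, Finset.sum_const, card_univ,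
      nsmul_eq_mul, ← Nat.card_eq_fintype_card, inv_mul_cancel_left₀ hKne]
    show (θ : G → ℂ) (((n : C) : G) * (t : G)) = _
    exact (h.value_coset hM hθ hz ht ht1 (r := ((n : C) : G)) (mem_map_of_mem C.subtype n.2)).trans (hval ht ht1)
  have hσ1 : σ 1 = m := by
    rw [← hm]
    simp only [hσ, map_one]
  have hcardU : (univ.filter fun s : ↥(S : Subgroup G) => (s : G) ∈ U).card = 4 := by
    rw [← Fintype.card_subtype, ← Nat.card_eq_fintype_card, ← h.uFour.cardU]
    exact Nat.card_congr
      ⟨fun s => ⟨s.1, s.2⟩, fun u => ⟨⟨u, h.uFour.le u.2⟩, u.2⟩, fun _ => rfl, fun _ => rfl⟩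
  have hcardN : (univ.filter fun s : ↥(S : Subgroup G) => ¬ (s : G) ∈ U).card = 60 := by
    have := Finset.card_filter_add_card_filter_not (s := (univ : Finset ↥(S : Subgroup G)))
      (fun s => (s : G) ∈ U)
    rw [hcardU, card_univ, ← Nat.card_eq_fintype_card, h.uFour.cardS] at this
    omega
  have h1mem : (1 : ↥(S : Subgroup G)) ∈ univ.filter fun s : ↥(S : Subgroup G) => (s : G) ∈ U := by simp
  have hsumU : ∀ F : ↥(S : Subgroup G) → ℂ, (∀ s : ↥(S : Subgroup G), (s : G) ∈ U → (s : G) ≠ 1 → F s = v) →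
      ∑ s, F s = F 1 + 3 * v + ∑ s ∈ univ.filter (fun s : ↥(S : Subgroup G) => ¬ (s : G) ∈ U), F s := by
    intro F hF
    rw [← sum_filter_add_sum_filter_not univ (fun s : ↥(S : Subgroup G) => (s : G) ∈ U),
      ← add_sum_erase _ _ h1mem,
      sum_congr (s₁ := (univ.filter fun s : ↥(S : Subgroup G) => (s : G) ∈ U).erase 1) rfl
        (g := fun _ => (v : ℂ)) (fun s hs => by
          simp only [mem_erase, mem_filter, mem_univ, true_and] at hs
          exact hF s hs.2 fun e => hs.1 (Subtype.ext e)),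
      sum_const, card_erase_of_mem h1mem, hcardU, nsmul_eq_mul]
    norm_num
  have hinner : ∀ {F : ↥(S : Subgroup G) → ℂ}, IsCharacter _ F → ∃ t : ℕ, ∑ s, F s = 64 * (t : ℂ) := by
    intro F hF
    obtain ⟨t, ht⟩ := classInner_char_irr_nat hF (oneChar ↥(S : Subgroup G))
    refine ⟨t, ?_⟩
    rw [← ht, classInner, h.uFour.cardS, ← mul_assoc, Nat.cast_ofNat, mul_inv_cancel₀ (by norm_num), one_mul]
    refine Finset.sum_congr rfl fun s _ => ?_
    show _ = F s * conj (1 : ℂ)
    rw [map_one, mul_one]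
  obtain ⟨t', ht'⟩ := hinner hσc
  obtain ⟨t₂, ht₂⟩ := hinner (isCharacter_comp hrest (inclusion hle))
  -- the sum over S
  have hθS : ∑ s : ↥(S : Subgroup G), (θ : G → ℂ) s = (d : ℂ) + 3 * v + 60 * w := by
    rw [hsumU _ (fun s hs hs1 => hval hs hs1), OneMemClass.coe_one, hd,
      sum_congr (s₁ := univ.filter fun s : ↥(S : Subgroup G) => ¬ (s : G) ∈ U) rfl
        (g := fun _ => (w : ℂ)) (fun s hs => by
          rw [← hw]
          exact classFun_isConj (isClassFunction_irr θ)
            (h.isConj_outside hG s.2 (mem_filter.1 hs).2 hy hyU)),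
      sum_const, hcardN, nsmul_eq_mul]
    norm_num
  have htt : (64 : ℤ) * t₂ = d + 3 * v + 60 * w - 64 * t' := by
    have e : (64 : ℂ) * t₂ = (d : ℂ) + 3 * v + 60 * w - 64 * t' := by
      rw [← ht₂, ← ht', ← hθS, ← Finset.sum_sub_distrib]
      exact Finset.sum_congr rfl fun s _ => rfl
    exact_mod_cast e
  set A := ∑ s ∈ univ.filter (fun s : ↥(S : Subgroup G) => ¬ (s : G) ∈ U), σ s with hA
  have hA' : A = ((64 * t' - m - 3 * v : ℤ) : ℂ) := by
    have e := hsumU σ hσU
    rw [ht', hσ1] at e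
    push_cast
    linear_combination -e
  -- five divides the sum outside U
  have hA5 : (5 : ℤ) ∣ 64 * t' - m - 3 * v := by
    refine CfsgLib.LinDeg.dvd_of_isIntegral_div (b := 5) (by norm_num) ?_
    rw [← hA']
    let τ : ↥(S : Subgroup G) → ↥(S : Subgroup G) := fun s => ⟨f * s * f⁻¹, h.norm s s.2⟩
    have hτ : ∀ (i : ℕ) (s : ↥(S : Subgroup G)), ((τ^[i] s : ↥(S : Subgroup G)) : G) = f ^ i * s * (f ^ i)⁻¹ := by
      intro i s
      induction i with
      | zero => simp
      | succ i ih =>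
        rw [Function.iterate_succ_apply']
        show f * ((τ^[i] s : ↥(S : Subgroup G)) : G) * f⁻¹ = _
        rw [ih, pow_succ']
        group
    refine isIntegral_sum_div_five τ σ (fun s => isCharacter_isIntegral hσc s) (fun s => ?_)
      (fun s => Subtype.ext ((hτ 5 s).trans (h.five_fix hz hz1 s.2))) _ (fun s hs => ?_) fun s hs e => ?_
    · have e1 : inclusion hle (τ s) = h.fC hz * inclusion hle s * (h.fC hz)⁻¹ := Subtype.ext rfl
      simp only [hσ]
      rw [e1, isClassFunction_of_isCharacter hψc]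
    · refine mem_filter.2 ⟨mem_univ _, fun hU => (mem_filter.1 hs).2 ?_⟩
      have e1 : f * (f * (s : G) * f⁻¹) = f * (s : G) * f⁻¹ * f := h.fix _ hU
      have e2 : f * (s : G) * f⁻¹ = (s : G) := by
        rw [inv_mul_cancel_right] at e1
        exact (mul_left_cancel e1)
      rwa [← e2]
    · refine h.free s s.2 (mem_filter.1 hs).2 ?_
      rw [show f * (s : G) * f⁻¹ = (s : G) from congrArg Subtype.val e, mul_inv_cancel]
      exact one_mem U
  -- the remaining conditions
  obtain ⟨u, hu, hu1, huz⟩ : ∃ u ∈ U, u ≠ 1 ∧ u ≠ z := by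
    by_contra hcon
    have hsub : (U : Set G) ⊆ {1, z} := fun w hw => by
      by_contra hw'
      simp only [Set.mem_insert_iff, Set.mem_singleton_iff, not_or] at hw'
      exact hcon ⟨w, hw, hw'.1, hw'.2⟩
    have hc := Set.ncard_le_ncard hsub (Set.toFinite _)
    rw [Set.ncard_pair (Ne.symm hz1), ← Nat.card_coe_set_eq,
      show Nat.card ↥(U : Set G) = Nat.card U from rfl, h.uFour.cardU] at hc
    omega
  have hzz : z * z = 1 := (h.uFour.mem_iff z (h.uFour.le hz)).1 hz
  have hzu1 : z * u ≠ 1 := fun e => huz (by rw [← one_mul u, ← hzz, mul_assoc, e, mul_one])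
  obtain ⟨k, hk⟩ := sixteen_dvd_sylow h.uFour hσc hz hu
  rw [hσ1, hσU ⟨z, h.uFour.le hz⟩ hz hz1, hσU ⟨u, h.uFour.le hu⟩ hu hu1,
    hσU (⟨z, h.uFour.le hz⟩ * ⟨u, h.uFour.le hu⟩) (mul_mem hz hu) hzu1] at hk
  have hk' : (m : ℤ) - v = 16 * k := by
    have : (m : ℤ) + v - v - v = 16 * k := by exact_mod_cast hk
    omega
  obtain ⟨l, hl⟩ := classInner_char_irr_nat (isCharacter_comp hσc (inclusion h.uFour.le)) (oneChar U)
  have hl' : (4 : ℤ) * l = m + 3 * v := by
    have e : (4 : ℂ) * l = (m : ℂ) + 3 * v := by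
      rw [← hl, classInner, h.uFour.cardU, ← mul_assoc, Nat.cast_ofNat, mul_inv_cancel₀ (by norm_num), one_mul,
        ← add_sum_erase _ _ (mem_univ (1 : U)),
        sum_congr rfl (g := fun _ => (v : ℂ)) (fun s hs => by
          show σ (inclusion h.uFour.le s) * conj (1 : ℂ) = _
          rw [map_one, mul_one]
          exact hσU _ s.2 fun e => (mem_erase.1 hs).1 (Subtype.ext e)),
        sum_const, card_erase_of_mem (mem_univ _), card_univ, ← Nat.card_eq_fintype_card, h.uFour.cardU,
        nsmul_eq_mul]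
      show σ (inclusion h.uFour.le 1) * conj (1 : ℂ) + _ = _
      rw [map_one, map_one, mul_one, hσ1]
      norm_num
    exact_mod_cast e
  have hvm : v ≤ (m : ℤ) := by
    obtain ⟨n, ρ, hρ⟩ := hσc
    have e1 := norm_char_le ρ (⟨z, h.uFour.le hz⟩ : ↥(S : Subgroup G))
    have e2 := hρ ▸ hσU ⟨z, h.uFour.le hz⟩ hz hz1
    have e3 := hρ ▸ hσ1
    rw [Representation.char_one] at e3
    rw [e2, Complex.norm_intCast, show (Module.finrank ℂ (Fin n → ℂ) : ℕ) = m by exact_mod_cast e3] at e1
    have e4 : ((v : ℤ) : ℝ) ≤ ((m : ℤ) : ℝ) := by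
      push_cast
      exact (le_abs_self _).trans e1
    exact_mod_cast e4
  refine ⟨4 * k, ?_, dvd_mul_right 4 k, ?_, ?_, ?_, ?_⟩
  · omega
  · omega
  · omega
  · omega
  · omega

end CfsgLib.UFourFive
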