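import Cfsg.Agent.Lib.Char.Orthogonality
import Cfsg.Agent.Lib.Char.Integrality
import Mathlib.RingTheory.RootsOfUnity.Complex
import Mathlib.RingTheory.RootsOfUnity.PrimitiveRoots

/-!
# Values at the products of an involution with powers of an element of odd order
-/

set_option autoImplicit false

open Finset
open scoped ComplexConjugate

namespace CfsgLib.UFourFive

open Cfsg CfsgLib.Char

universe u

/-- A primitive fifth root of unity. -/
noncomputable def zeta : ℂ := Complex.exp (2 * Real.pi * Complex.I / 5)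

theorem zeta_spec : IsPrimitiveRoot zeta 5 := by
  have := Complex.isPrimitiveRoot_exp 5 (by norm_num)
  simpa [zeta] using this

theorem conj_zeta : conj zeta = zeta ^ 4 := by
  rw [← Complex.inv_eq_conj (Complex.norm_eq_one_of_pow_eq_one zeta_spec.pow_eq_one (by norm_num))]
  exact inv_eq_of_mul_eq_one_right (by rw [← pow_succ', zeta_spec.pow_eq_one])

theorem sum_zeta (m : ℕ) : ∑ j : Fin 5, zeta ^ (m * (j : ℕ)) = if 5 ∣ m then 5 else 0 := by
  split_ifs with hm
  · obtain ⟨k, rfl⟩ := hm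
    simp [mul_assoc, pow_mul, zeta_spec.pow_eq_one]
  · have h1 : zeta ^ m ≠ 1 := fun e => hm ((zeta_spec.pow_eq_one_iff_dvd m).1 e)
    rw [Fin.sum_univ_eq_sum_range (fun j => zeta ^ (m * j)) 5]
    simp only [pow_mul]
    rw [geom_sum_eq h1, ← pow_mul, mul_comm m 5, pow_mul, zeta_spec.pow_eq_one, one_pow, sub_self, zero_div]

/-- Fourier inversion on five points. -/
theorem coeff_eq {c : Fin 5 → ℂ} {T : ℕ → ℂ}
    (hT : ∀ j : Fin 5, ∑ k : Fin 5, c k * zeta ^ ((k : ℕ) * (j : ℕ)) = T j) (k : Fin 5) :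
    5 * c k = ∑ j : Fin 5, zeta ^ ((5 - (k : ℕ)) * (j : ℕ)) * T j := by
  simp only [← hT, Finset.mul_sum]
  rw [Finset.sum_comm, Finset.sum_eq_single k]
  · rw [show ∑ j : Fin 5, zeta ^ ((5 - (k : ℕ)) * (j : ℕ)) * (c k * zeta ^ ((k : ℕ) * (j : ℕ))) =
      c k * ∑ j : Fin 5, zeta ^ (((5 - (k : ℕ)) + k) * (j : ℕ)) by
        rw [Finset.mul_sum]; exact Finset.sum_congr rfl fun j _ => by rw [add_mul, pow_add]; ring,
      sum_zeta, if_pos (by omega)]
    ring
  · intro l _ hl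
    rw [show ∑ j : Fin 5, zeta ^ ((5 - (k : ℕ)) * (j : ℕ)) * (c l * zeta ^ ((l : ℕ) * (j : ℕ))) =
      c l * ∑ j : Fin 5, zeta ^ (((5 - (k : ℕ)) + l) * (j : ℕ)) by
        rw [Finset.mul_sum]; exact Finset.sum_congr rfl fun j _ => by rw [add_mul, pow_add]; ring,
      sum_zeta, if_neg, mul_zero]
    have := k.2; have := l.2
    have : (l : ℕ) ≠ k := fun e => hl (Fin.ext e)
    omega
  · simp

theorem coeff_unique {c c' : Fin 5 → ℂ} (h : ∀ j : Fin 5,
    ∑ k : Fin 5, c k * zeta ^ ((k : ℕ) * (j : ℕ)) = ∑ k : Fin 5, c' k * zeta ^ ((k : ℕ) * (j : ℕ))) :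
    c = c' := by
  funext k
  have h1 := coeff_eq (c := c) (T := fun j => ∑ k : Fin 5, c' k * zeta ^ ((k : ℕ) * j)) h k
  have h2 := coeff_eq (c := c') (T := fun j => ∑ k : Fin 5, c' k * zeta ^ ((k : ℕ) * j)) (fun _ => rfl) k
  exact mul_left_cancel₀ (by norm_num) (h1.trans h2.symm)

variable {G : Type u} [Group G] [Finite G]

/-- The values at `z * w ^ j`, periodic modulo five, are integral combinations of fifth roots of unity. -/
theorem exists_five_parts (θ : IrrCharacter G) {z w : G} (hz : z * z = 1) (hc : Commute z w)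
    (hodd : Odd (orderOf w)) (hper : ∀ j : ℕ, (θ : G → ℂ) (z * w ^ (j + 5)) = (θ : G → ℂ) (z * w ^ j)) :
    ∃ d : Fin 5 → ℤ, ∀ j : ℕ, (θ : G → ℂ) (z * w ^ j) = ∑ k : Fin 5, (d k : ℂ) * zeta ^ ((k : ℕ) * j) := by
  classical
  obtain ⟨χ, n, ρ, hρ, rfl⟩ := θ
  set N := orderOf w with hN
  set v := z * w with hv
  obtain ⟨b, μ, h1, -, h3⟩ := exists_eigen_data ρ v
  have hN0 : N ≠ 0 := (orderOf_pos w).ne'
  have hv2N : v ^ (2 * N) = 1 := by
    rw [hv, hc.mul_pow, pow_mul, pow_mul', pow_two z, hz, one_pow, one_mul, hN, pow_orderOf_eq_one, one_pow]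
  have hμ : ∀ i, μ i ^ (2 * N) = 1 := fun i => by
    obtain ⟨k, hk⟩ := orderOf_dvd_of_pow_eq_one hv2N
    rw [hk, pow_mul, h1, one_pow]
  obtain ⟨t, ht⟩ := hodd
  have hzp : ∀ j, z ^ (2 * j) = 1 := fun j => by rw [pow_mul, pow_two, hz, one_pow]
  have hval : ∀ j : ℕ, ρ.character (z * w ^ j) = ∑ i, μ i ^ N * (μ i ^ (N + 1)) ^ j := fun j => by
    have e : v ^ (N + (N + 1) * j) = z * w ^ j := by
      rw [hv, hc.mul_pow, show z ^ (N + (N + 1) * j) = z by
          rw [show N + (N + 1) * j = 1 + 2 * (t + (t + 1) * j) by rw [ht]; ring, pow_add, hzp,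
            pow_one, mul_one],
        show w ^ (N + (N + 1) * j) = w ^ j by
          rw [show N + (N + 1) * j = N * (1 + j) + j by ring, pow_add, pow_mul, hN, pow_orderOf_eq_one,
            one_pow, one_mul]]
    rw [← e, h3]
    exact Finset.sum_congr rfl fun i _ => by rw [pow_add, pow_mul]
  set η : _ → ℂ := fun i => μ i ^ (N + 1) with hη
  have hηN : ∀ i, η i ^ N = 1 := fun i => by
    simp only [hη]
    rw [← pow_mul, show (N + 1) * N = 2 * N * (t + 1) by rw [ht]; ring, pow_mul, hμ, one_pow]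
  have hsgn : ∀ i, ∃ s : ℤ, μ i ^ N = (s : ℂ) := fun i => by
    have : (μ i ^ N) * (μ i ^ N) = 1 := by rw [← pow_add, ← two_mul, hμ]
    rcases mul_self_eq_one_iff.1 this with e | e
    exacts [⟨1, by simpa using e⟩, ⟨-1, by simpa using e⟩]
  choose s hs using hsgn
  have hlift : ∀ (j l : ℕ), ρ.character (z * w ^ (j + 5 * l)) = ρ.character (z * w ^ j) := by
    intro j l
    induction l with
    | zero => simp
    | succ l ih => rw [show j + 5 * (l + 1) = j + 5 * l + 5 by ring]; exact (hper _).trans ih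
  have hcut : ∀ j : ℕ, ρ.character (z * w ^ j) =
      ∑ i, if η i ^ 5 = 1 then (s i : ℂ) * η i ^ j else 0 := by
    intro j
    have hsum : ∑ l ∈ range N, ρ.character (z * w ^ (j + 5 * l)) = (N : ℂ) * ρ.character (z * w ^ j) := by
      rw [Finset.sum_congr rfl fun l _ => hlift j l, sum_const, card_range, nsmul_eq_mul]
    simp only [hval] at hsum ⊢
    rw [Finset.sum_comm] at hsum
    apply mul_left_cancel₀ (Nat.cast_ne_zero.2 hN0 : (N : ℂ) ≠ 0)
    rw [← hsum, mul_sum]
    refine Finset.sum_congr rfl fun i _ => ?_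
    rw [show ∑ l ∈ range N, μ i ^ N * η i ^ (j + 5 * l) = μ i ^ N * η i ^ j * ∑ l ∈ range N, (η i ^ 5) ^ l by
      rw [mul_sum]; exact Finset.sum_congr rfl fun l _ => by rw [pow_add, pow_mul, mul_assoc]]
    split_ifs with h5
    · simp [h5, hs]; ring
    · rw [geom_sum_eq h5, show (η i ^ 5) ^ N = 1 by rw [← pow_mul, mul_comm, pow_mul, hηN, one_pow], sub_self, zero_div, mul_zero, mul_zero]
  refine ⟨fun k => ∑ i, if η i = zeta ^ (k : ℕ) then s i else 0, fun j => ?_⟩
  show ρ.character (z * w ^ j) = _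
  rw [hcut j]
  push_cast
  simp only [Finset.sum_mul]
  rw [Finset.sum_comm]
  refine Finset.sum_congr rfl fun i _ => ?_
  split_ifs with h5
  · obtain ⟨k, hk, hke⟩ := zeta_spec.eq_pow_of_pow_eq_one h5
    rw [Finset.sum_eq_single (⟨k, hk⟩ : Fin 5)]
    · rw [if_pos hke.symm, pow_mul, hke]
    · intro l _ hl
      rw [if_neg, zero_mul]
      intro e
      exact hl (Fin.ext (zeta_spec.pow_inj l.2 hk (e.symm.trans hke.symm)))
    · simp
  · refine (Finset.sum_eq_zero fun k _ => ?_).symm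
    rw [if_neg, zero_mul]
    intro e
    exact h5 (by rw [e, ← pow_mul, mul_comm, pow_mul, zeta_spec.pow_eq_one, one_pow])

/-- The value at an element of order dividing four conjugate to its inverse is an integer. -/
theorem exists_int_four (θ : IrrCharacter G) {y : G} (hy : y ^ 4 = 1) (hc : IsConj y y⁻¹) :
    ∃ b : ℤ, (θ : G → ℂ) y = b := by
  have hreal : conj ((θ : G → ℂ) y) = (θ : G → ℂ) y := by
    rw [← irr_inv, classFun_isConj (isClassFunction_irr θ) hc]
  obtain ⟨χ, n, ρ, hρ, rfl⟩ := θ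
  obtain ⟨b, μ, h1, -, h3⟩ := exists_eigen_data ρ y
  have hμ : ∀ i, ∃ a : ℤ, (μ i).re = a := fun i => by
    obtain ⟨k, hk⟩ := orderOf_dvd_of_pow_eq_one hy
    have h4 : μ i ^ 4 = 1 := by rw [hk, pow_mul, h1, one_pow]
    have h2 : (μ i ^ 2) * (μ i ^ 2) = 1 := by rw [← pow_add]; exact h4
    rcases mul_self_eq_one_iff.1 h2 with e | e
    · rcases sq_eq_one_iff.1 e with e' | e'
      exacts [⟨1, by simp [e']⟩, ⟨-1, by simp [e']⟩]
    · have e' : μ i ^ 2 = Complex.I ^ 2 := by rw [e, Complex.I_sq]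
      rcases sq_eq_sq_iff_eq_or_eq_neg.1 e' with e'' | e'' <;> exact ⟨0, by simp [e'']⟩
  choose a ha using hμ
  refine ⟨∑ i, a i, ?_⟩
  have e := h3 1
  simp only [pow_one] at e
  show ρ.character y = _
  have hre : ρ.character y = ((ρ.character y).re : ℂ) := (Complex.conj_eq_iff_re.1 hreal).symm
  rw [hre, e, Complex.re_sum]
  simp [ha]

end CfsgLib.UFourFive
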