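import Cfsg.Agent.Lib.CIT.UFourFive.RowsFusion
import Cfsg.Agent.Lib.CIT.UFourFive.RowsValues
import Cfsg.Agent.Lib.CIT.TwoNilp.UFour.Degree
import Cfsg.Agent.Lib.Block.AbelianFreeThree
import Cfsg.Agent.Lib.Block.Defect
import Cfsg.Agent.Lib.Char.PowTwist

/-!
# The rows of the principal block
-/

set_option autoImplicit false
set_option linter.style.haveILetI false
set_option maxHeartbeats 1600000

open Subgroup Finset
open scoped ComplexConjugate commutatorElement

namespace CfsgLib.UFourFive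

open Cfsg CfsgLib.Char CfsgLib.Block CfsgLib.TwoNilp

universe u

attribute [local instance] oddCore_normal

variable {G : Type u} [Group G] [Finite G]

/-- A product of two involutions is inverted by an involution, and so is each of its conjugates. -/
theorem exists_inverting {z k g : G} (hz : z * z = 1) (h : IsConj (z * (k * z * k⁻¹)) g) :
    ∃ i : G, i * i = 1 ∧ i * g * i⁻¹ = g⁻¹ := by
  obtain ⟨c, rfl⟩ := isConj_iff.1 h
  have hzi : z⁻¹ = z := inv_eq_of_mul_eq_one_right hz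
  refine ⟨c * z * c⁻¹, ?_, ?_⟩
  · calc c * z * c⁻¹ * (c * z * c⁻¹) = c * (z * z) * c⁻¹ := by group
      _ = 1 := by rw [hz, mul_one, mul_inv_cancel]
  · calc c * z * c⁻¹ * (c * (z * (k * z * k⁻¹)) * c⁻¹) * (c * z * c⁻¹)⁻¹
        = c * (z * z * (k * z * k⁻¹) * z⁻¹) * c⁻¹ := by group
      _ = c * (k * z⁻¹ * k⁻¹ * z⁻¹) * c⁻¹ := by rw [hz, one_mul]; nth_rewrite 1 [← hzi]; group
      _ = (c * (z * (k * z * k⁻¹)) * c⁻¹)⁻¹ := by group

/-- The class congruence at an involution of odd class size. -/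
theorem exists_odd_ratio [Fintype G] [DecidableEq G] {M : Ideal AlgInt} [M.IsMaximal] (hM : IsPModular 2 M)
    {θ : IrrCharacter G} (hθ : θ ∈ principalBlock M G) {z : G}
    (hn : Odd (centralizer ({z} : Set G)).index) {x v : ℤ} (hx : (θ : G → ℂ) 1 = x)
    (hv : (θ : G → ℂ) z = v) (hx0 : x ≠ 0) : ∃ q w : ℤ, Odd q ∧ Odd w ∧ x * q = v * w := by
  set n := (centralizer ({z} : Set G)).index with hndef
  have hcc : centralChar (θ : G → ℂ) z = ((((n : ℤ) * v : ℤ) : ℚ) / x : ℚ) := by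
    rw [centralChar, hx, hv, ← hndef]; push_cast; rfl
  have hint : IsIntegral ℤ ((((n : ℤ) * v : ℤ) : ℚ) / x : ℚ) := by
    have h := CfsgLib.Block.isIntegral_centralChar θ.2 z
    rw [hcc] at h
    exact (isIntegral_algebraMap_iff (algebraMap ℚ ℂ).injective).1 h
  obtain ⟨w, hw⟩ := IsIntegrallyClosed.isIntegral_iff.1 hint
  have hxq : (x : ℚ) ≠ 0 := Int.cast_ne_zero.2 hx0
  have hwx : x * w = (n : ℤ) * v := by
    have h1 : (w : ℚ) = (((n : ℤ) * v : ℤ) : ℚ) / x := by simpa using hw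
    rw [eq_div_iff hxq] at h1
    have : w * x = (n : ℤ) * v := by exact_mod_cast h1
    rw [mul_comm]; exact this
  refine ⟨w, n, ?_, by exact_mod_cast hn, by rw [hwx, mul_comm]⟩
  have hmem : MemLocalIdeal M (((n : ℤ) - w : ℤ) : ℂ) := by
    have h := (hθ : SameBlock M (fun _ : G => (1 : ℂ)) (θ : G → ℂ)) z
    rw [hcc] at h
    have e : centralChar (fun _ : G => (1 : ℂ)) z = (n : ℂ) := by rw [centralChar, ← hndef]; simp
    rw [e] at h
    have e2 : ((((n : ℤ) * v : ℤ) : ℚ) / x : ℚ) = (w : ℚ) := by simpa using hw.symm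
    rw [e2] at h
    simpa using h
  haveI := charP_resField hM
  rw [show ((((n : ℤ) - w : ℤ) : ℂ)) = ((((n : ℤ) - w : ℤ) : locRing M) : ℂ) by simp, memLocalIdeal_coe,
    map_intCast, CharP.intCast_eq_zero_iff (ResField M) 2] at hmem
  rw [Int.odd_iff]
  obtain ⟨r, hr⟩ := hmem
  have := Nat.odd_iff.1 hn
  omega

theorem exists_twist_exp {N : ℕ} (hN : N ≠ 0) (h5 : 5 ∣ N) : ∃ m : ℕ, N.Coprime m ∧ m % 5 = 2 := by
  set a := N.factorization 5
  set r := ordCompl[5] N
  have ha : 1 ≤ a := by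
    have := (Nat.Prime.factorization_pos_of_dvd (by norm_num : Nat.Prime 5) hN h5)
    exact this
  have hco : (5 ^ a).Coprime r := Nat.Coprime.pow_left _ (Nat.coprime_ordCompl (by norm_num) hN)
  obtain ⟨m, hm2, hm1⟩ := Nat.chineseRemainder hco 2 1
  have h52 : m % 5 = 2 := by
    have := hm2.of_dvd (dvd_pow_self 5 (by omega : a ≠ 0))
    exact this
  refine ⟨m, ?_, h52⟩
  rw [← Nat.ordProj_mul_ordCompl_eq_self N 5]
  refine Nat.Coprime.mul_left (Nat.Coprime.pow_left _ ?_) ?_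
  · exact (Nat.Prime.coprime_iff_not_dvd (by norm_num)).2 fun h => by omega
  · rw [Nat.coprime_iff_gcd_eq_one, Nat.gcd_comm]
    have h := hm1.gcd_eq
    rw [h, Nat.gcd_one_left]

/-- The principal block gives the rows. -/
theorem exists_rows [IsSimpleGroup G] (hG : ¬ IsMulCommutative G) {S : Sylow 2 G} {U : Subgroup G} {f : G}
    (h : FiveLocal S U f) {M : Ideal AlgInt} [M.IsMaximal] (hM : IsPModular 2 M) {z : G} (hz : z ∈ U)
    (hz1 : z ≠ 1)
    (hbig : ∀ θ ∈ principalBlock M G, θ ≠ oneChar G → ∀ y ∈ (S : Subgroup G), y ∉ U → y * y = z →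
      ∀ d v w : ℤ, (θ : G → ℂ) 1 = d → (θ : G → ℂ) z = v → (θ : G → ℂ) y = w → Admissible d v w) :
    ∃ (ι : Type u) (_ : Fintype ι), Nonempty (FiveRows ι) := by
  classical
  haveI : Fact (Nat.Prime 2) := ⟨Nat.prime_two⟩
  letI : Fintype G := Fintype.ofFinite G
  letI : Fintype (IrrCharacter G) := Fintype.ofFinite _
  letI : Fintype ↥(S : Subgroup G) := Fintype.ofFinite _
  obtain ⟨y, hy, hyU, hyz⟩ := h.exists_sq hG hz hz1
  have hzz : z * z = 1 := (h.uFour.mem_iff z (h.uFour.le hz)).1 hz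
  have hzo : orderOf z = 2 := h.uFour.orderOf_eq_two hz hz1
  have hy4 : y ^ 4 = 1 := by rw [show y ^ 4 = y * y * (y * y) by simp [pow_succ, mul_assoc], hyz, hzz]
  have hyne : y ≠ y⁻¹ := fun e => hz1 (by rw [← hyz]; nth_rewrite 1 [e]; exact inv_mul_cancel y)
  have hyo : ∃ k : ℕ, orderOf y = 2 ^ k := h.orderOf_eq hy
  have hzo' : ∃ k : ℕ, orderOf z = 2 ^ k := ⟨1, by rw [hzo, pow_one]⟩
  have hyinv : IsConj y y⁻¹ := h.isConj_outside hG hy hyU (inv_mem hy) fun e => hyU (inv_mem_iff.1 e)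
  have hfz : Commute z f := (h.fix z hz).symm
  set C := centralizer ({z} : Set G) with hCdef
  set D := centralizer ({y} : Set G) with hDdef
  letI : Fintype C := Fintype.ofFinite _
  letI : Fintype (IrrCharacter C) := Fintype.ofFinite _
  letI : Fintype (C ⧸ Cfsg.oddCore C) := Fintype.ofFinite _
  letI : Fintype (IrrCharacter (C ⧸ Cfsg.oddCore C)) := Fintype.ofFinite _
  letI : Fintype D := Fintype.ofFinite _
  letI : Fintype (IrrCharacter D) := Fintype.ofFinite _
  letI : Fintype (D ⧸ Cfsg.oddCore D) := Fintype.ofFinite _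
  letI : Fintype (IrrCharacter (D ⧸ Cfsg.oddCore D)) := Fintype.ofFinite _
  have hC : ∀ t : G, t ∈ C ↔ Commute t z := fun t => mem_centralizer_singleton_iff
  have hD : ∀ t : G, t ∈ D ↔ Commute t y := fun t => mem_centralizer_singleton_iff
  have hCone : CoreOne M C := h.coreOne hz hz1 hM
  have hDone : CoreOne M D := h.coreOne_x hy hyU hM
  set F := qC z (h.fC hz) with hFdef
  have hfodd : ∀ j : ℕ, Odd (orderOf (f ^ j)) := fun j => h.odd.of_dvd_nat (orderOf_pow_dvd j)
  have hfreg : ∀ j : ℕ, ¬ 2 ∣ orderOf (h.fC hz ^ j) := fun j => by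
    rw [← Subgroup.orderOf_coe, SubmonoidClass.coe_pow, ← even_iff_two_dvd, Nat.not_even_iff_odd]
    exact hfodd j
  have hFo : ∀ i : ℕ, F ^ i = F ^ (i % 5) := fun i => pow_eq_pow_mod i (h.qC_five hz hz1)
  have hFinj : ∀ i j : ℕ, i < 5 → j < 5 → F ^ i = F ^ j → i = j := fun i j hi hj e =>
    (h.form_unique hz hz1 (s := 1) (t := 1) (one_mem _) (one_mem _) hi hj (by simpa only [map_one, one_mul] using e)).2
  set B : Finset (IrrCharacter G) := univ.filter (· ∈ principalBlock M G) with hBdef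
  have hBmem : ∀ θ, θ ∈ B ↔ θ ∈ principalBlock M G := fun θ => by simp [hBdef]
  have h1B : oneChar G ∈ B := (hBmem _).2 one_mem_principalBlock
  have hone : ∀ g : G, ((oneChar G : IrrCharacter G) : G → ℂ) g = 1 := fun _ => rfl
  -- values
  have hx : ∀ θ : IrrCharacter G, ∃ d : ℤ, 0 < d ∧ (θ : G → ℂ) 1 = d := fun θ => by
    obtain ⟨d, hd0, hd⟩ := isIrrCharacter_degree θ.2
    exact ⟨d, by exact_mod_cast hd0, by rw [hd]; norm_cast⟩
  choose x hx0 hx using hx
  have hv : ∀ θ : IrrCharacter G, ∃ v : ℤ, (θ : G → ℂ) z = v := fun θ =>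
    AbelianFree.exists_int_involution hzo θ
  choose v hv using hv
  have hb : ∀ θ : IrrCharacter G, ∃ b : ℤ, (θ : G → ℂ) y = b := fun θ => exists_int_four θ hy4 hyinv
  choose b hb using hb
  have hcong : ∀ θ : IrrCharacter G, (64 : ℤ) ∣ x θ + 3 * v θ + 60 * b θ := by
    intro θ
    obtain ⟨n, hn⟩ := classInner_char_irr_nat (isCharacter_comp (isCharacter_irr θ) (S : Subgroup G).subtype)
      (oneChar ↥(S : Subgroup G))
    refine ⟨n, ?_⟩
    have hsum : ∑ s : ↥(S : Subgroup G), (θ : G → ℂ) s = 64 * (n : ℂ) := by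
      rw [← hn, classInner, h.uFour.cardS, ← mul_assoc, Nat.cast_ofNat, mul_inv_cancel₀ (by norm_num), one_mul]
      refine Finset.sum_congr rfl fun s _ => ?_
      show _ = (θ : G → ℂ) s * conj (1 : ℂ)
      rw [map_one, mul_one]
    have hcardU : (univ.filter fun s : ↥(S : Subgroup G) => (s : G) ∈ U).card = 4 := by
      rw [← Fintype.card_subtype, ← Nat.card_eq_fintype_card, ← h.uFour.cardU]
      exact Nat.card_congr
        ⟨fun s => ⟨s.1, s.2⟩, fun u => ⟨⟨u, h.uFour.le u.2⟩, u.2⟩, fun _ => rfl, fun _ => rfl⟩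
    have hcardN : (univ.filter fun s : ↥(S : Subgroup G) => ¬ (s : G) ∈ U).card = 60 := by
      have := Finset.card_filter_add_card_filter_not (s := (univ : Finset ↥(S : Subgroup G)))
        (fun s => (s : G) ∈ U)
      rw [hcardU, card_univ, ← Nat.card_eq_fintype_card, h.uFour.cardS] at this
      omega
    have h1mem : (1 : ↥(S : Subgroup G)) ∈ univ.filter fun s : ↥(S : Subgroup G) => (s : G) ∈ U := by simp
    rw [← sum_filter_add_sum_filter_not univ (fun s : ↥(S : Subgroup G) => (s : G) ∈ U),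
      ← add_sum_erase _ _ h1mem,
      sum_congr (s₁ := (univ.filter fun s : ↥(S : Subgroup G) => (s : G) ∈ U).erase 1) rfl
        (g := fun _ => (v θ : ℂ)) (fun s hs => by
        simp only [mem_erase, mem_filter, mem_univ, true_and] at hs
        rw [← hv]
        exact classFun_isConj (isClassFunction_irr θ)
          (h.uFour.isConj_of_mem hG hs.2 (fun e => hs.1 (Subtype.ext e)) hz hz1)),
      sum_congr (s₁ := univ.filter fun s : ↥(S : Subgroup G) => ¬ (s : G) ∈ U) rfl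
        (g := fun _ => (b θ : ℂ)) (fun s hs => by
        rw [← hb]
        exact classFun_isConj (isClassFunction_irr θ)
          (h.isConj_outside hG s.2 (mem_filter.1 hs).2 hy hyU)),
      sum_const, sum_const, card_erase_of_mem h1mem, hcardU, hcardN, OneMemClass.coe_one, hx] at hsum
    simp only [nsmul_eq_mul] at hsum
    norm_num at hsum
    exact_mod_cast hsum
  obtain ⟨u, hu, hu1, huz⟩ : ∃ u ∈ U, u ≠ 1 ∧ u ≠ z := by
    by_contra hcon
    have hsub : (U : Set G) ⊆ {1, z} := fun w hw => by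
      by_contra hw'
      simp only [Set.mem_insert_iff, Set.mem_singleton_iff, not_or] at hw'
      exact hcon ⟨w, hw, hw'.1, hw'.2⟩
    have hc := Set.ncard_le_ncard hsub (Set.toFinite _)
    rw [Set.ncard_pair (Ne.symm hz1), ← Nat.card_coe_set_eq,
      show Nat.card ↥(U : Set G) = Nat.card U from rfl, h.uFour.cardU] at hc
    omega
  have hzu1 : z * u ≠ 1 := fun e => huz (by rw [← one_mul u, ← hzz, mul_assoc, e, mul_one])
  have h4 : ∀ θ : IrrCharacter G, (4 : ℤ) ∣ b θ - v θ := by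
    intro θ
    obtain ⟨k, hk⟩ := sixteen_dvd h.uFour (isCharacter_irr θ) hz hu
    rw [hx, hv, classFun_isConj (isClassFunction_irr θ) (h.uFour.isConj_of_mem hG hu hu1 hz hz1),
      classFun_isConj (isClassFunction_irr θ) (h.uFour.isConj_of_mem hG (mul_mem hz hu) hzu1 hz hz1),
      hv] at hk
    have hk' : x θ + v θ - v θ - v θ = 16 * k := by exact_mod_cast hk
    obtain ⟨r, hr⟩ := hcong θ
    omega
  choose e he using h4
  -- the five parts
  have hd : ∀ θ : IrrCharacter G, ∃ d : Fin 5 → ℤ, θ ∈ B → ∀ j : ℕ,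
      (θ : G → ℂ) (z * f ^ j) = ∑ k : Fin 5, (d k : ℂ) * zeta ^ ((k : ℕ) * j) := by
    intro θ
    by_cases hθ : θ ∈ B
    · obtain ⟨d, hd⟩ := exists_five_parts θ hzz hfz h.odd (fun j => by
        obtain ⟨c, hc, hce⟩ := mem_map.1 (h.five z hz hz1)
        have e5 : h.fC hz ^ 5 = c := Subtype.ext (by simpa using hce.symm)
        have := CfsgLib.Invol.irr_secElt_mul hM hzo' hC ((hBmem θ).1 hθ) (Cfsg.oddCore C)
          (CfsgLib.Coprime.pPrimeCore_not_dvd Nat.prime_two) (y := h.fC hz ^ j) (n := h.fC hz ^ 5) (e5 ▸ hc)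
          (hfreg j) (by rw [← pow_add]; exact hfreg _)
        simpa [← pow_add] using this)
      exact ⟨d, fun _ => hd⟩
    · exact ⟨0, fun h' => absurd h' hθ⟩
  choose dd hdd using hd
  have hd0 : ∀ θ ∈ B, ∑ k, dd θ k = v θ := fun θ hθ => by
    have h0 := hdd θ hθ 0
    simp only [pow_zero, mul_one, mul_zero, hv] at h0
    exact_mod_cast h0.symm
  -- orthogonality
  have hqone : ∀ j : ℕ, ((h.fC hz ^ j : C) : C ⧸ Cfsg.oddCore C) = F ^ j := fun j => map_pow (qC z) _ j
  have hvv : ∀ i j : ℕ, i < 5 → j < 5 → ∑ θ ∈ B, (θ : G → ℂ) (z * f ^ i) * conj ((θ : G → ℂ) (z * f ^ j)) =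
      if i = j then (if i = 0 then (320 : ℂ) else 20) else 0 := by
    intro i j hi hj
    have e1 := sum_principal_inner hM hCone hzo' hC (hfreg i) (hfreg j)
    simp only [SubmonoidClass.coe_pow, hqone] at e1
    rw [hBdef]
    refine e1.trans ?_
    by_cases hij : i = j
    · subst hij
      rw [if_pos (IsConj.refl _), if_pos rfl]
      by_cases hi0 : i = 0
      · subst hi0
        rw [if_pos rfl, pow_zero, show centralizer ({(1 : C ⧸ Cfsg.oddCore C)} : Set _) = ⊤ by
          ext q; simp [mem_centralizer_singleton_iff], card_top, h.card_quot hz hz1]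
        norm_num
      · rw [if_neg hi0, h.card_cent hz hz1 (fun hd5 => by omega)]
        norm_num
    · rw [if_neg hij, if_neg fun hc => hij (h.conj_pow hz hz1 hi hj hc)]
  have hpz : ∀ j : ℕ, IsPPart 2 (z * f ^ j) z := fun j =>
    ⟨f ^ j, rfl, hfz.pow_right j, hzo', by
      rw [← even_iff_two_dvd, Nat.not_even_iff_odd]; exact hfodd j⟩
  have hpy : IsPPart 2 y y := ⟨1, mul_one y, Commute.one_right y, hyo, by simp⟩
  have hp1 : IsPPart 2 (1 : G) 1 := ⟨1, mul_one 1, Commute.one_right 1, ⟨0, by simp⟩, by simp⟩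
  have horth : ∀ {g g' p p' : G}, IsPPart 2 g p → IsPPart 2 g' p' → ¬ IsConj p p' →
      ∑ θ ∈ B, (θ : G → ℂ) g * conj ((θ : G → ℂ) g') = 0 := by
    intro g g' p p' hg hg' hne
    have e1 := blockUnion_orthogonal_conj hM (.of_isPBlock (isPBlock_principalBlock (M := M) (G := G))) hg hg' hne
    rw [finsum_mem_eq_toFinset_sum] at e1
    exact Eq.trans (Finset.sum_congr (by ext; simp [hBdef]) fun _ _ => rfl) e1
  have hnzy : ¬ IsConj z y := fun hc => by
    obtain ⟨g, hg⟩ := isConj_iff.1 hc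
    exact h.uFour.sq_ne_one hy hyU (by rw [← hg, ← (show g * (z * z) * g⁻¹ = 1 by rw [hzz]; group)]; group)
  have hcast : ∀ (P : IrrCharacter G → ℤ) (g : G), (∀ θ : IrrCharacter G, (θ : G → ℂ) g = P θ) →
      ∀ θ : IrrCharacter G, conj ((θ : G → ℂ) g) = (P θ : ℂ) := fun P g hP θ => by
    rw [hP, map_intCast]
  have hxb : ∑ θ ∈ B, x θ * b θ = 0 := by
    have e1 := horth hp1 hpy fun hc => h.uFour.ne_one hyU (isConj_one_right.1 hc)
    simp only [hx, hb, map_intCast] at e1
    exact_mod_cast e1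
  have hbb : ∑ θ ∈ B, b θ ^ 2 = 16 := by
    have e1 := sum_principal_inner hM hDone hyo hD (y := 1) (y' := 1) (by simp) (by simp)
    simp only [OneMemClass.coe_one, mul_one, hb, map_intCast, QuotientGroup.mk_one] at e1
    rw [if_pos (IsConj.refl _), show centralizer ({(1 : D ⧸ Cfsg.oddCore D)} : Set _) = ⊤ by
      ext q; simp [mem_centralizer_singleton_iff], card_top, (h.quot_x hy hyU).2] at e1
    rw [← hBdef] at e1
    have e2 : ∑ θ ∈ B, b θ * b θ = 16 := by exact_mod_cast e1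
    rw [← e2]
    exact Finset.sum_congr rfl fun θ _ => pow_two _
  have hbv : ∀ j : ℕ, ∑ θ ∈ B, (b θ : ℂ) * (θ : G → ℂ) (z * f ^ j) = 0 := fun j => by
    have e1 := horth (hpz j) hpy hnzy
    simp only [hcast b y hb] at e1
    rw [← e1]; exact Finset.sum_congr rfl fun θ _ => mul_comm _ _
  have hxv : ∀ j : ℕ, ∑ θ ∈ B, (x θ : ℂ) * (θ : G → ℂ) (z * f ^ j) = 0 := fun j => by
    have e1 := horth (hpz j) hp1 fun hc => hz1 (isConj_one_left.1 hc)
    simp only [hcast x 1 hx] at e1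
    rw [← e1]; exact Finset.sum_congr rfl fun θ _ => mul_comm _ _
  have hbz : ∑ θ ∈ B, b θ * v θ = 0 := by
    have e1 := hbv 0
    simp only [pow_zero, mul_one, hv] at e1
    exact_mod_cast e1
  have hxz : ∑ θ ∈ B, x θ * v θ = 0 := by
    have e1 := hxv 0
    simp only [pow_zero, mul_one, hv] at e1
    exact_mod_cast e1
  have hzz320 : ∑ θ ∈ B, v θ ^ 2 = 320 := by
    have e1 := hvv 0 0 (by norm_num) (by norm_num)
    simp only [pow_zero, mul_one, hv, map_intCast, if_true] at e1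
    have e2 : ∑ θ ∈ B, v θ * v θ = 320 := by exact_mod_cast e1
    rw [← e2]
    exact Finset.sum_congr rfl fun θ _ => pow_two _
  -- inner products with the five parts
  have hexp : ∀ (P : IrrCharacter G → ℂ) (j : ℕ),
      ∑ k : Fin 5, (∑ θ ∈ B, P θ * (dd θ k : ℂ)) * zeta ^ ((k : ℕ) * j) =
        ∑ θ ∈ B, P θ * (θ : G → ℂ) (z * f ^ j) := by
    intro P j
    simp only [Finset.sum_mul]
    rw [Finset.sum_comm]
    refine Finset.sum_congr rfl fun θ hθ => ?_
    rw [hdd θ hθ j, Finset.mul_sum]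
    exact Finset.sum_congr rfl fun k _ => mul_assoc _ _ _
  have hbd : ∀ k, ∑ θ ∈ B, b θ * dd θ k = 0 := fun k => by
    have e1 := coeff_eq (T := fun _ => 0) (fun j => (hexp (fun θ => (b θ : ℂ)) j).trans (hbv j)) k
    simp only [mul_zero, Finset.sum_const_zero, mul_eq_zero, OfNat.ofNat_ne_zero, false_or] at e1
    exact_mod_cast e1
  have hxd : ∀ k, ∑ θ ∈ B, x θ * dd θ k = 0 := fun k => by
    have e1 := coeff_eq (T := fun _ => 0) (fun j => (hexp (fun θ => (x θ : ℂ)) j).trans (hxv j)) k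
    simp only [mul_zero, Finset.sum_const_zero, mul_eq_zero, OfNat.ofNat_ne_zero, false_or] at e1
    exact_mod_cast e1
  have hzd : ∀ k, ∑ θ ∈ B, v θ * dd θ k = 64 := fun k => by
    have e1 := coeff_eq (T := fun j => if j = 0 then (320 : ℂ) else 0)
      (fun j => (hexp (fun θ => (v θ : ℂ)) j).trans (by
        have e2 := hvv j 0 j.2 (by norm_num)
        simp only [pow_zero, mul_one, hcast v z hv] at e2
        rw [show ∑ θ ∈ B, (v θ : ℂ) * (θ : G → ℂ) (z * f ^ (j : ℕ)) =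
          ∑ θ ∈ B, (θ : G → ℂ) (z * f ^ (j : ℕ)) * (v θ : ℂ) from
            Finset.sum_congr rfl (fun θ _ => mul_comm _ _), e2]
        by_cases hj : (j : ℕ) = 0 <;> simp [hj])) k
    rw [Finset.sum_eq_single (0 : Fin 5) (fun j _ hj => by
      rw [if_neg (fun e => hj (Fin.ext (by simpa using e))), mul_zero]) (by simp)] at e1
    simp only [Fin.val_zero, mul_zero, pow_zero, if_true, one_mul] at e1
    have e3 : (5 : ℤ) * ∑ θ ∈ B, v θ * dd θ k = 320 := by exact_mod_cast e1
    omega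
  have hdd' : ∀ k l, ∑ θ ∈ B, dd θ k * dd θ l = if k = l then 16 else 12 := fun k l => by
    set T : ℕ → ℂ := fun i => if i = 0 then 320 else 20 with hT
    have hc1 : ∀ j : Fin 5, 5 * ∑ θ ∈ B, conj ((θ : G → ℂ) (z * f ^ (j : ℕ))) * (dd θ k : ℂ) =
        zeta ^ ((5 - (k : ℕ)) * (j : ℕ)) * T j := by
      intro j
      have e1 := coeff_eq (T := fun i => if i = (j : ℕ) then T j else 0)
        (fun i => (hexp (fun θ => conj ((θ : G → ℂ) (z * f ^ (j : ℕ)))) i).trans (by
          rw [Finset.sum_congr rfl (fun θ _ => mul_comm _ _), hvv i j i.2 j.2]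
          by_cases hij : (i : ℕ) = j
          · rw [if_pos hij, if_pos hij, hij, hT]
          · rw [if_neg hij, if_neg hij])) k
      rw [e1, Finset.sum_eq_single j (fun i _ hi => by
        rw [if_neg (fun e => hi (Fin.ext e)), mul_zero]) (by simp), if_pos rfl]
    have hc2 : ∀ j : Fin 5, ∑ k' : Fin 5, (∑ θ ∈ B, ((dd θ k : ℂ)) * (dd θ k' : ℂ)) * zeta ^ ((k' : ℕ) * (j : ℕ)) =
        (1 / 5) * zeta ^ ((k : ℕ) * (j : ℕ)) * T j := by
      intro j
      rw [hexp (fun θ => (dd θ k : ℂ)) j]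
      have e1 := congrArg conj (hc1 j)
      simp only [map_mul, map_sum, map_ofNat, Complex.conj_conj, map_intCast, map_pow, conj_zeta] at e1
      have e2 : conj (T j) = T j := by simp only [hT]; split_ifs <;> exact map_ofNat _ _
      have e3 : (zeta ^ 4) ^ ((5 - (k : ℕ)) * (j : ℕ)) = zeta ^ ((k : ℕ) * (j : ℕ)) := by
        rw [← pow_mul, ← mul_assoc, pow_mul zeta (4 * (5 - (k : ℕ))), pow_mul zeta (k : ℕ),
          pow_eq_pow_mod (4 * (5 - (k : ℕ))) zeta_spec.pow_eq_one,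
          show 4 * (5 - (k : ℕ)) % 5 = (k : ℕ) by have := k.2; omega]
      rw [e2, e3] at e1
      rw [Finset.sum_congr rfl fun θ _ => mul_comm ((dd θ k : ℂ)) _, mul_assoc, ← e1]
      ring
    have e1 := coeff_eq (T := fun j => (1 / 5) * zeta ^ ((k : ℕ) * j) * T j) hc2 l
    have e4 : ∑ j : Fin 5, zeta ^ ((5 - (l : ℕ)) * (j : ℕ)) * ((1 / 5) * zeta ^ ((k : ℕ) * (j : ℕ)) * T j) =
        (300 + 20 * if k = l then 5 else 0) / 5 := by
      have e5 : ∀ j : Fin 5, zeta ^ ((5 - (l : ℕ)) * (j : ℕ)) * ((1 / 5) * zeta ^ ((k : ℕ) * (j : ℕ)) * T j) =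
          ((if j = 0 then 300 else 0) + 20 * zeta ^ ((5 - (l : ℕ) + k) * (j : ℕ))) / 5 := fun j => by
        rw [add_mul, pow_add]
        by_cases hj : j = 0
        · subst hj; simp [hT]; norm_num
        · have : (j : ℕ) ≠ 0 := fun e => hj (Fin.ext e)
          simp [hT, hj, this]; ring
      rw [Finset.sum_congr rfl fun j _ => e5 j, ← Finset.sum_div, Finset.sum_add_distrib, ← Finset.mul_sum,
        sum_zeta, Finset.sum_ite_eq' univ (0 : Fin 5) (fun _ => (300 : ℂ)), if_pos (mem_univ _)]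
      congr 3
      refine if_congr ⟨fun hd5 => Fin.ext ?_, fun hkl => ?_⟩ rfl rfl
      · have := k.2; have := l.2; omega
      · subst hkl; have := k.2; omega
    rw [e4] at e1
    split_ifs at e1 ⊢ with hkl
    · have e6 : (25 : ℂ) * ∑ θ ∈ B, (dd θ k : ℂ) * (dd θ l : ℂ) = 400 := by linear_combination 5 * e1
      have e7 : (25 : ℤ) * ∑ θ ∈ B, dd θ k * dd θ l = 400 := by exact_mod_cast e6
      omega
    · have e6 : (25 : ℂ) * ∑ θ ∈ B, (dd θ k : ℂ) * (dd θ l : ℂ) = 300 := by linear_combination 5 * e1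
      have e7 : (25 : ℤ) * ∑ θ ∈ B, dd θ k * dd θ l = 300 := by exact_mod_cast e6
      omega
  -- class algebra
  set W : IrrCharacter G → ℂ := fun θ => (θ : G → ℂ) z ^ 2 / (θ : G → ℂ) 1 with hW
  have hWc : ∀ θ, conj (W θ) = W θ := fun θ => by simp [hW, hv, hx]
  have hGne : (Nat.card G : ℂ) ≠ 0 := Nat.cast_ne_zero.2 Nat.card_pos.ne'
  have hKne : (Nat.card (Cfsg.oddCore C) : ℂ) ≠ 0 := Nat.cast_ne_zero.2 Nat.card_pos.ne'
  have hnone : ∀ g : G, (∀ k : G, ¬ IsConj (z * (k * z * k⁻¹)) g) →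
      ∑ θ : IrrCharacter G, W θ * conj ((θ : G → ℂ) g) = 0 := by
    intro g hg
    have e1 := sum_sq_div (G := G) z g
    rw [Finset.filter_false_of_mem (fun k _ => hg k), card_empty, mul_zero, Nat.cast_zero,
      mul_eq_zero] at e1
    exact e1.resolve_left hGne
  have hWb : ∑ θ ∈ B, W θ * (b θ : ℂ) = 0 := by
    have e1 := sum_principal_mul hM hDone hyo hD W (y := 1) (by simp)
    rw [Finset.sum_eq_zero (fun t ht => hnone _ fun k hk => ?_), mul_eq_zero] at e1
    · have e2 := e1.resolve_left (Nat.cast_ne_zero.2 Nat.card_pos.ne')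
      rw [← hBdef] at e2
      simpa only [OneMemClass.coe_one, mul_one, hcast b y hb] using e2
    obtain ⟨i, hii, hig⟩ := exists_inverting hzz hk
    have htK : t ∈ Cfsg.oddCore D := (QuotientGroup.eq_one_iff t).1 ((mem_filter.1 ht).2.trans (QuotientGroup.mk_one _))
    have hto : ¬ 2 ∣ orderOf (t : G) := by
      rw [Subgroup.orderOf_coe, ← Subgroup.orderOf_mk t htK]
      intro hd2
      exact Nat.not_even_iff_odd.2 (odd_card_oddCore D) (even_iff_two_dvd.2 (hd2.trans (orderOf_dvd_natCard _)))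
    have hty : Commute y (t : G) := ((hD t).1 t.2).symm
    have hpg : IsPPart 2 (y * t) y := ⟨t, rfl, hty, hyo, hto⟩
    have hpg' : IsPPart 2 (y * t)⁻¹ y⁻¹ := ⟨(t : G)⁻¹, by rw [← mul_inv_rev, hty.eq], hty.inv_inv,
      by obtain ⟨n, hn⟩ := hyo; exact ⟨n, by rw [orderOf_inv, hn]⟩, by rwa [orderOf_inv]⟩
    have hcj := isPPart_conj hpg i
    rw [hig] at hcj
    have hiy : i * y * i⁻¹ = y⁻¹ := isPPart_unique Nat.prime_two hcj hpg'
    have hiz : i * z = z * i := by
      refine mul_inv_eq_iff_eq_mul.1 ?_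
      rw [← hyz, show i * (y * y) * i⁻¹ = i * y * i⁻¹ * (i * y * i⁻¹) by group, hiy]
      exact (mul_left_cancel (a := y * y) (by rw [hyz]; simp only [hzz]; rw [← hyz]; group)).symm
    set iC : C := ⟨i, (hC i).2 hiz⟩
    obtain ⟨w, hwU, hwe⟩ := h.mem_of_sq hz hz1 (q := qC z iC) (by
      rw [← map_mul, show iC * iC = 1 from Subtype.ext hii, map_one])
    set yC : C := ⟨y, h.uFour.le_centralizer hz hy⟩
    have e3 : iC * yC * iC⁻¹ = yC⁻¹ := Subtype.ext hiy
    have e4 := congrArg (qC z) e3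
    rw [map_mul, map_mul, map_inv, hwe, (h.central_U hz hz1 hwU (qC z yC)).eq, mul_inv_cancel_right] at e4
    exact hyne (congrArg Subtype.val (h.qC_eq_of_mem (a := yC) (b := yC⁻¹) hy (inv_mem hy) e4))
  have hWv : ∀ j : ℕ, j < 5 → j ≠ 0 → ∑ θ ∈ B, W θ * (θ : G → ℂ) (z * f ^ j) = 0 := by
    intro j hj hj0
    have e1 := sum_principal_mul hM hCone hzo' hC W (hfreg j)
    rw [Finset.sum_eq_zero (fun t ht => hnone _ fun k hk => ?_), mul_eq_zero] at e1
    · have e2 := congrArg conj (e1.resolve_left hKne)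
      simp only [map_sum, map_mul, Complex.conj_conj, hWc, map_zero, SubmonoidClass.coe_pow] at e2
      rw [← hBdef] at e2
      exact e2
    obtain ⟨i, hii, hig⟩ := exists_inverting hzz hk
    have htF : (t : C ⧸ Cfsg.oddCore C) = F ^ j := (mem_filter.1 ht).2.trans (hqone j)
    have hto : ¬ 2 ∣ orderOf (t : G) := by
      have h5t : t ^ 5 ∈ Cfsg.oddCore C := by
        rw [← QuotientGroup.eq_one_iff, QuotientGroup.mk_pow, htF, ← pow_mul, mul_comm, pow_mul,
          h.qC_five hz hz1, one_pow]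
      have h5o : Odd (orderOf (t ^ 5)) := by
        rw [← Subgroup.orderOf_mk _ h5t]
        exact (odd_card_oddCore C).of_dvd_nat (orderOf_dvd_natCard _)
      have hdvd : orderOf t ∣ 5 * orderOf (t ^ 5) :=
        orderOf_dvd_of_pow_eq_one (by rw [pow_mul, pow_orderOf_eq_one])
      rw [Subgroup.orderOf_coe, ← even_iff_two_dvd, Nat.not_even_iff_odd]
      exact ((show Odd 5 by decide).mul h5o).of_dvd_nat hdvd
    have htz : Commute z (t : G) := ((hC t).1 t.2).symm
    have hzi : z⁻¹ = z := inv_eq_of_mul_eq_one_right hzz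
    have hpg : IsPPart 2 (z * t) z := ⟨t, rfl, htz, hzo', hto⟩
    have hpg' : IsPPart 2 (z * t)⁻¹ z := ⟨(t : G)⁻¹, by rw [mul_inv_rev, hzi, htz.inv_right.eq],
      htz.inv_right, hzo', by rwa [orderOf_inv]⟩
    have hcj := isPPart_conj hpg i
    rw [hig] at hcj
    have hiz : i * z * i⁻¹ = z := isPPart_unique Nat.prime_two hcj hpg'
    have hit : i * t * i⁻¹ = (t : G)⁻¹ := by
      have e2 : z * (i * t * i⁻¹) = z * (t : G)⁻¹ := by
        calc z * (i * t * i⁻¹) = i * z * i⁻¹ * (i * t * i⁻¹) := by rw [hiz]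
          _ = i * (z * t) * i⁻¹ := by group
          _ = (z * t)⁻¹ := hig
          _ = z * (t : G)⁻¹ := by rw [mul_inv_rev, hzi, htz.inv_right.eq]
      exact mul_left_cancel e2
    set iC : C := ⟨i, (hC i).2 (mul_inv_eq_iff_eq_mul.1 hiz)⟩
    obtain ⟨w, hwU, hwe⟩ := h.mem_of_sq hz hz1 (q := qC z iC) (by
      rw [← map_mul, show iC * iC = 1 from Subtype.ext hii, map_one])
    have e3 : iC * t * iC⁻¹ = t⁻¹ := Subtype.ext hit
    have e4 := congrArg (qC z) e3
    rw [map_mul, map_mul, map_inv, map_inv, show qC z t = F ^ j from htF, hwe,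
      (h.central_U hz hz1 hwU (F ^ j)).eq, mul_inv_cancel_right, eq_inv_iff_mul_eq_one, ← pow_add, hFo] at e4
    have := hFinj _ 0 (Nat.mod_lt _ (by norm_num)) (by norm_num) (e4.trans (pow_zero F).symm)
    omega
  set P : ℚ := ∑ θ ∈ B, (v θ : ℚ) * (v θ : ℚ) ^ 2 / (x θ : ℚ) with hPdef
  have hP : ((P : ℚ) : ℂ) = ∑ θ ∈ B, W θ * (θ : G → ℂ) z := by
    simp only [hPdef, hW, hv, hx]
    push_cast
    exact Finset.sum_congr rfl fun θ _ => by ring
  have hPpos : 0 < P := by
    have e1 := congrArg (fun c => (Nat.card G : ℂ) * c) (sum_principal_mul hM hCone hzo' hC W (y := 1) (by simp))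
    simp only [Finset.mul_sum (a := (Nat.card G : ℂ))] at e1
    simp only [← Finset.mul_sum (s := (univ : Finset (IrrCharacter G))), hW, sum_sq_div (G := G) z,
      ← Nat.cast_sum] at e1
    set Ssum := ∑ t ∈ univ.filter (fun t : C => (t : C ⧸ Cfsg.oddCore C) = ((1 : C) : C ⧸ Cfsg.oddCore C)),
      Nat.card (centralizer ({z * (t : G)} : Set G)) *
        (univ.filter fun k : G => IsConj (z * (k * z * k⁻¹)) (z * (t : G))).card with hSsum
    have hpos : 0 < Ssum := by
      refine Finset.sum_pos' (fun _ _ => Nat.zero_le _) ⟨1, by simp, Nat.mul_pos Nat.card_pos (card_pos.2 ?_)⟩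
      obtain ⟨k, hk⟩ := isConj_iff.1 (h.uFour.isConj_of_mem hG hz hz1 hu hu1)
      refine ⟨k, mem_filter.2 ⟨mem_univ _, ?_⟩⟩
      rw [hk, OneMemClass.coe_one, mul_one]
      exact h.uFour.isConj_of_mem hG (mul_mem hz hu) hzu1 hz hz1
    have e2 : ((((Nat.card G * Nat.card (Cfsg.oddCore C) : ℕ) : ℚ) * P : ℚ) : ℂ) = (((Ssum : ℕ) : ℚ) : ℂ) := by
      rw [Rat.cast_mul, hP, Rat.cast_natCast, Rat.cast_natCast, Nat.cast_mul, ← e1, mul_assoc, hBdef]
      simp only [Finset.mul_sum]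
      refine Finset.sum_congr rfl fun θ _ => ?_
      simp only [OneMemClass.coe_one, mul_one, hv, map_intCast, hW]
    have e3 := Rat.cast_injective e2
    have hposq : (0 : ℚ) < (Ssum : ℚ) := by exact_mod_cast hpos
    have hc0 : (0 : ℚ) < ((Nat.card G * Nat.card (Cfsg.oddCore C) : ℕ) : ℚ) := by
      exact_mod_cast Nat.mul_pos Nat.card_pos Nat.card_pos
    nlinarith
  have hPd : ∀ k, ∑ θ ∈ B, (dd θ k : ℚ) * ((v θ : ℚ) ^ 2 / (x θ : ℚ)) = P / 5 := by
    intro k
    have e1 := coeff_eq (T := fun j => if j = 0 then (P : ℂ) else 0)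
      (fun j => (hexp W j).trans (by
        by_cases hj : (j : ℕ) = 0
        · rw [if_pos hj, hP, hj]; simp
        · rw [if_neg hj, hWv j j.2 hj])) k
    rw [Finset.sum_eq_single (0 : Fin 5) (fun j _ hj => by
      rw [if_neg (fun e => hj (Fin.ext (by simpa using e))), mul_zero]) (by simp)] at e1
    simp only [Fin.val_zero, mul_zero, pow_zero, if_true, one_mul] at e1
    apply Rat.cast_injective (α := ℂ)
    push_cast
    rw [← e1, mul_div_cancel_left₀ _ (by norm_num : (5 : ℂ) ≠ 0)]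
    exact Finset.sum_congr rfl fun θ _ => by simp only [hW, hv, hx]; ring
  have hPb : ∑ θ ∈ B, (b θ : ℚ) * ((v θ : ℚ) ^ 2 / (x θ : ℚ)) = 0 := by
    apply Rat.cast_injective (α := ℂ)
    push_cast
    rw [← hWb]
    exact Finset.sum_congr rfl fun θ _ => by simp only [hW, hv, hx]; ring
  have hPv : ∑ θ ∈ B, (v θ : ℚ) * ((v θ : ℚ) ^ 2 / (x θ : ℚ)) = P :=
    Finset.sum_congr rfl fun θ _ => by ring
  -- the twist
  have h5G : 5 ∣ Nat.card G := by
    have hF5 : orderOf F = 5 := by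
      haveI : Fact (Nat.Prime 5) := ⟨by norm_num⟩
      refine orderOf_eq_prime (h.qC_five hz hz1) fun e => ?_
      exact absurd (hFinj 1 0 (by norm_num) (by norm_num) (by rw [pow_one, pow_zero, e])) one_ne_zero
    have h5f : 5 ∣ orderOf (h.fC hz) := hF5 ▸ orderOf_map_dvd (qC z) (h.fC hz)
    rw [← Subgroup.orderOf_coe] at h5f
    exact h5f.trans (orderOf_dvd_natCard _)
  obtain ⟨m, hm, hm5⟩ := exists_twist_exp Nat.card_pos.ne' h5G
  have hmodd : m % 2 = 1 := by
    have h2G : 2 ∣ Nat.card G := hzo ▸ orderOf_dvd_natCard z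
    rcases Nat.mod_two_eq_zero_or_one m with h0 | h1
    · exact absurd (Nat.eq_one_of_dvd_coprimes hm h2G (Nat.dvd_of_mod_eq_zero h0)) (by norm_num)
    · exact h1
  let tw : {θ // θ ∈ B} → {θ // θ ∈ B} := fun θ =>
    ⟨⟨_, Char.isIrrCharacter_powMap hm θ.1⟩,
      (hBmem _).2 (PrincipalCore.powTwist_mem_principalBlock hM hm ((hBmem _).1 θ.2))⟩
  have htwv : ∀ (θ : {θ // θ ∈ B}) (g : G), ((tw θ).1 : G → ℂ) g = (θ.1 : G → ℂ) (g ^ m) := fun _ _ => rfl
  have htwinj : Function.Injective tw := fun θ η e => by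
    refine Subtype.ext (Subtype.ext (funext fun g => ?_))
    have e1 := congrFun (congrArg (fun t : {θ // θ ∈ B} => ((t.1 : IrrCharacter G) : G → ℂ)) e)
      ((powCoprime hm).symm g)
    simp only [htwv] at e1
    have e2 : ((powCoprime hm).symm g) ^ m = g := (powCoprime hm).apply_symm_apply g
    rwa [e2] at e1
  have hzm : z ^ m = z := by
    conv_lhs => rw [← Nat.div_add_mod m 2, hmodd, pow_add, pow_mul, pow_two, hzz, one_pow, one_mul, pow_one]
  have htwz : ∀ θ, v (tw θ).1 = v θ.1 := fun θ => by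
    have e1 : ((v (tw θ).1 : ℤ) : ℂ) = (v θ.1 : ℂ) := by rw [← hv, ← hv, htwv, hzm]
    exact_mod_cast e1
  have htwx : ∀ θ, x (tw θ).1 = x θ.1 := fun θ => by
    have e1 : ((x (tw θ).1 : ℤ) : ℂ) = (x θ.1 : ℂ) := by rw [← hx, ← hx, htwv, one_pow]
    exact_mod_cast e1
  have htwb : ∀ θ, b (tw θ).1 = b θ.1 := fun θ => by
    have hym : y ^ m = y ∨ y ^ m = y⁻¹ := by
      rw [pow_eq_pow_mod m hy4]
      rcases (show m % 4 = 1 ∨ m % 4 = 3 by omega) with e1 | e1 <;> rw [e1]
      · exact Or.inl (pow_one y)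
      · exact Or.inr (eq_inv_of_mul_eq_one_left (by rw [← pow_succ]; exact hy4))
    have e1 : ((b (tw θ).1 : ℤ) : ℂ) = (b θ.1 : ℂ) := by
      rw [← hb, ← hb, htwv]
      rcases hym with e2 | e2 <;> rw [e2]
      exact (classFun_isConj (isClassFunction_irr θ.1) hyinv).symm
    exact_mod_cast e1
  have htwd : ∀ θ k, dd (tw θ).1 k = dd θ.1 (3 * k) := by
    intro θ k
    have e1 : (fun k => ((dd (tw θ).1 k : ℤ) : ℂ)) = fun k => ((dd θ.1 (3 * k) : ℤ) : ℂ) := by
      refine coeff_unique fun j => ?_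
      rw [← hdd _ (tw θ).2 j, htwv, (hfz.pow_right (j : ℕ)).mul_pow, hzm, ← pow_mul, hdd _ θ.2]
      have hb3 : Function.Bijective (fun k : Fin 5 => 3 * k) := by decide
      rw [← hb3.sum_comp (fun k : Fin 5 => ((dd θ.1 k : ℤ) : ℂ) * zeta ^ ((k : ℕ) * ((j : ℕ) * m)))]
      refine Finset.sum_congr rfl fun k _ => ?_
      congr 1
      rw [pow_eq_pow_mod _ zeta_spec.pow_eq_one, pow_eq_pow_mod ((k : ℕ) * (j : ℕ)) zeta_spec.pow_eq_one]
      congr 1
      rw [Fin.val_mul, Nat.mul_mod, Nat.mod_mod, ← Nat.mul_mod, show ((3 : Fin 5) : ℕ) = 3 from rfl,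
        show 3 * (k : ℕ) * ((j : ℕ) * m) = 3 * m * ((k : ℕ) * j) by ring, Nat.mul_mod,
        show 3 * m % 5 = 1 by omega, one_mul, Nat.mod_mod]
    exact_mod_cast congrFun e1 k
  have htwe : ∀ θ, e (tw θ).1 = e θ.1 := fun θ => by
    have := he (tw θ).1
    rw [htwb, htwz, he θ.1] at this
    omega
  have hxo : x (oneChar G) = 1 := by
    have e1 := hx (oneChar G); rw [hone] at e1; exact_mod_cast e1.symm
  have hvo : v (oneChar G) = 1 := by
    have e1 := hv (oneChar G); rw [hone] at e1; exact_mod_cast e1.symm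
  have hbo : b (oneChar G) = 1 := by
    have e1 := hb (oneChar G); rw [hone] at e1; exact_mod_cast e1.symm
  have heo : e (oneChar G) = 0 := by
    have := he (oneChar G); rw [hbo, hvo] at this; omega
  have hdo : ∀ k, dd (oneChar G) k = if k = 0 then 1 else 0 := fun k => by
    have e1 : (fun k => ((dd (oneChar G) k : ℤ) : ℂ)) = fun k : Fin 5 => if k = 0 then 1 else 0 := by
      refine coeff_unique fun j => ?_
      rw [← hdd _ h1B j, hone, Finset.sum_eq_single (0 : Fin 5) (fun l _ hl => by simp [hl]) (by simp)]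
      simp
    have e2 := congrFun e1 k
    split_ifs at e2 ⊢ <;> exact_mod_cast e2
  -- sums
  have hve : ∀ (P : IrrCharacter G → ℤ), 4 * ∑ θ ∈ B, e θ * P θ = ∑ θ ∈ B, b θ * P θ - ∑ θ ∈ B, v θ * P θ := by
    intro P
    rw [Finset.mul_sum, ← Finset.sum_sub_distrib]
    exact Finset.sum_congr rfl fun θ _ => by rw [← sub_mul, he]; ring
  have sub : ∀ (P : IrrCharacter G → ℤ), ∑ i : {θ // θ ∈ B}, P i.1 = ∑ θ ∈ B, P θ := fun P =>
    Finset.sum_coe_sort B P
  have subq : ∀ (P : IrrCharacter G → ℚ), ∑ i : {θ // θ ∈ B}, P i.1 = ∑ θ ∈ B, P θ := fun P =>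
    Finset.sum_coe_sort B P
  have hindex : Odd (centralizer ({z} : Set G)).index := by
    rw [← Nat.not_even_iff_odd, even_iff_two_dvd]
    exact fun hd2 => S.not_dvd_index (hd2.trans (index_dvd_of_le (h.uFour.le_centralizer hz)))
  refine ⟨{θ // θ ∈ B}, inferInstance, ⟨{
    o := ⟨oneChar G, h1B⟩
    x := fun i => x i.1
    z := fun i => v i.1
    b := fun i => b i.1
    a := fun i k => dd i.1 k + e i.1
    g := Equiv.ofBijective tw (Finite.injective_iff_bijective.1 htwinj)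
    g_o := Subtype.ext (Subtype.ext (funext fun g => rfl))
    g_x := htwx
    g_z := htwz
    g_b := htwb
    g_a := fun i k => by
      show dd (tw i).1 k + e (tw i).1 = _
      rw [htwd, htwe]
    x_o := hxo
    z_o := hvo
    b_o := hbo
    a_o := fun k => by show dd (oneChar G) k + e (oneChar G) = _; rw [hdo, heo, add_zero]
    x_pos := fun i => hx0 i.1
    abs_z := fun i => by
      have e1 := norm_irr_le i.1 z
      rw [hv, hx, Complex.norm_intCast, Complex.intCast_re] at e1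
      exact_mod_cast e1
    sum_a := fun i => by
      rw [Finset.sum_add_distrib, Finset.sum_const, card_univ, Fintype.card_fin, hd0 _ i.2, nsmul_eq_mul]
      push_cast
      linear_combination -5 * he i.1
    cong := fun i => hcong i.1
    val := fun i => exists_odd_ratio hM ((hBmem _).1 i.2) hindex (hx i.1) (hv i.1) (hx0 i.1).ne'
    big := fun i hi => hbig i.1 ((hBmem _).1 i.2) (fun e1 => hi (Subtype.ext e1)) y hy hyU hyz _ _ _
      (hx i.1) (hv i.1) (hb i.1)
    norm_b := (sub fun θ => b θ ^ 2).trans hbb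
    norm_z := (sub fun θ => v θ ^ 2).trans hzz320
    bz := (sub fun θ => b θ * v θ).trans hbz
    gram := fun k l => by
      rw [sub fun θ => (dd θ k + e θ) * (dd θ l + e θ)]
      simp only [add_mul, mul_add, Finset.sum_add_distrib, hdd' k l]
      have e1 := hve (fun θ => dd θ l)
      have e2 := hve (fun θ => dd θ k)
      have e3 := hve e
      rw [hbd, hzd] at e1 e2
      have e4 := hve b
      have e5 := hve v
      rw [Finset.sum_congr rfl fun θ _ => mul_comm (v θ) (b θ), hbz,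
        Finset.sum_congr rfl fun θ _ => (pow_two (b θ)).symm, hbb] at e4
      rw [hbz, Finset.sum_congr rfl fun θ _ => (pow_two (v θ)).symm, hzz320] at e5
      rw [Finset.sum_congr rfl fun θ _ => mul_comm (b θ) (e θ),
        Finset.sum_congr rfl fun θ _ => mul_comm (v θ) (e θ)] at e3
      rw [Finset.sum_congr rfl fun θ _ => mul_comm (dd θ k) (e θ)]
      split_ifs <;> omega
    ab := fun k => by
      rw [sub fun θ => (dd θ k + e θ) * b θ]
      simp only [add_mul, Finset.sum_add_distrib]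
      rw [Finset.sum_congr rfl fun θ _ => mul_comm (dd θ k) (b θ), hbd]
      have e4 := hve b
      rw [Finset.sum_congr rfl fun θ _ => mul_comm (v θ) (b θ), hbz,
        Finset.sum_congr rfl fun θ _ => (pow_two (b θ)).symm, hbb] at e4
      omega
    az := fun k => by
      rw [sub fun θ => (dd θ k + e θ) * v θ]
      simp only [add_mul, Finset.sum_add_distrib]
      rw [Finset.sum_congr rfl fun θ _ => mul_comm (dd θ k) (v θ), hzd]
      have e5 := hve v
      rw [hbz, Finset.sum_congr rfl fun θ _ => (pow_two (v θ)).symm, hzz320] at e5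
      omega
    lin_b := (sub fun θ => x θ * b θ).trans hxb
    lin_z := (sub fun θ => x θ * v θ).trans hxz
    lin_a := fun k => by
      rw [sub fun θ => x θ * (dd θ k + e θ)]
      simp only [mul_add, Finset.sum_add_distrib, hxd]
      have e1 := hve x
      rw [Finset.sum_congr rfl fun θ _ => mul_comm (b θ) (x θ), hxb,
        Finset.sum_congr rfl fun θ _ => mul_comm (v θ) (x θ), hxz,
        Finset.sum_congr rfl fun θ _ => mul_comm (e θ) (x θ)] at e1
      omega
    quad_b := (subq fun θ => (b θ : ℚ) * (v θ : ℚ) ^ 2 / (x θ : ℚ)).trans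
      (by rw [← hPb]; exact Finset.sum_congr rfl fun θ _ => by ring)
    quad_a := ?qa
    quad_eq := ?qe }⟩⟩
  all_goals
    have hq : ∀ k : Fin 5, ∑ i : {θ // θ ∈ B}, ((dd i.1 k + e i.1 : ℤ) : ℚ) * (v i.1 : ℚ) ^ 2 / (x i.1 : ℚ) =
        P / 5 - P / 4 := by
      intro k
      rw [subq fun θ => ((dd θ k + e θ : ℤ) : ℚ) * (v θ : ℚ) ^ 2 / (x θ : ℚ), ← hPd k]
      have e1 : ∑ θ ∈ B, ((dd θ k + e θ : ℤ) : ℚ) * (v θ : ℚ) ^ 2 / (x θ : ℚ) =
          ∑ θ ∈ B, (dd θ k : ℚ) * ((v θ : ℚ) ^ 2 / (x θ : ℚ)) +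
            (∑ θ ∈ B, (b θ : ℚ) * ((v θ : ℚ) ^ 2 / (x θ : ℚ)) -
              ∑ θ ∈ B, (v θ : ℚ) * ((v θ : ℚ) ^ 2 / (x θ : ℚ))) / 4 := by
        rw [← Finset.sum_sub_distrib, Finset.sum_div, ← Finset.sum_add_distrib]
        refine Finset.sum_congr rfl fun θ _ => ?_
        have e2 : (b θ : ℚ) - v θ = 4 * e θ := by exact_mod_cast he θ
        push_cast
        linear_combination (-(1 : ℚ) / 4) * ((v θ : ℚ) ^ 2 / (x θ : ℚ)) * e2
      rw [e1, hPb, hPv]
      ring
  · intro k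
    exact (hq k).trans_lt (by linarith)
  · intro k l
    exact (hq k).trans (hq l).symm

end CfsgLib.UFourFive
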