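import Cfsg.Agent.Lib.CIT.UFourFive.Arith
import Cfsg.Agent.Lib.CIT.UFourFive.Rows
import Cfsg.Agent.Lib.CIT.UFourFive.Kill

/-!
# The core of the centralizer of an involution centralizes the center of the Sylow subgroup
-/

set_option autoImplicit false

open Subgroup

namespace CfsgLib.UFourFive

open Cfsg CfsgLib.Block CfsgLib.TwoNilp

universe u

variable {G : Type u} [Group G] [Finite G]

/-- In a simple group the centralizers of the involutions of `U` centralize `U`. -/
theorem centralizer_le [IsSimpleGroup G] (hG : ¬ IsMulCommutative G) {S : Sylow 2 G} {U : Subgroup G} {f : G}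
    (h : FiveLocal S U f) : ∀ u ∈ U, u ≠ 1 → centralizer ({u} : Set G) ≤ centralizer (U : Set G) := by
  intro z hz hz1
  by_cases hO : coreC z = ⊥
  · refine (h.cent z hz hz1).trans ?_
    rw [hO, bot_sup_eq]
    refine sup_le (fun s hs => mem_centralizer_iff.2 fun u hu => (h.uFour.central u hu s hs).symm) ?_
    exact zpowers_le.2 (mem_centralizer_iff.2 fun u hu => (h.fix u hu).symm)
  obtain ⟨M, hM⟩ := exists_pModular (p := 2) Nat.prime_two
  haveI := hM.2.1
  obtain ⟨ι, hι, ⟨D⟩⟩ := exists_rows hG h hM hz hz1 (admissible hG h hM hz hz1 hO)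
  exact D.false.elim

end CfsgLib.UFourFive
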