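import Cfsg.Agent.Lib.CIT.UFourFive.Simple
import Cfsg.Agent.Lib.PGroup.Basic
import Cfsg.Agent.Lib.LocalStructure.Basic

/-!
# Reduced groups with a Sylow two-subgroup of unitary type

With trivial odd core and no proper normal subgroup of odd index such a group is a two-group or simple.
-/

set_option autoImplicit false
set_option linter.style.haveILetI false

open Subgroup

namespace CfsgLib.UFourFive

open CfsgLib.TwoNilp (UFour autN mem_autN actsOn_of_autN mem_of_normalizes)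

universe u

variable {G : Type u} [Group G] [Finite G] {S : Sylow 2 G} {U : Subgroup G}

/-- Burnside: fusion in the centre is controlled by the normalizer. -/
theorem exists_normalizer_conj (h : UFour S U) {v g : G} (hv : v ∈ U) (hv' : g * v * g⁻¹ ∈ U) :
    ∃ m, (∀ s ∈ (S : Subgroup G), m * s * m⁻¹ ∈ (S : Subgroup G)) ∧ m * v * m⁻¹ = g * v * g⁻¹ := by
  haveI : Fact (Nat.Prime 2) := ⟨Nat.prime_two⟩
  set D := centralizer ({g * v * g⁻¹} : Set G) with hD
  have hSD : (S : Subgroup G) ≤ D := h.le_centralizer hv'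
  have hgS : ((g • S : Sylow 2 G) : Subgroup G) ≤ D := by
    rw [Sylow.coe_subgroup_smul]
    intro z hz
    rw [Subgroup.mem_smul_pointwise_iff_exists] at hz
    obtain ⟨s, hs, rfl⟩ := hz
    show g * s * g⁻¹ ∈ D
    refine mem_centralizer_singleton_iff.2 ?_
    calc g * s * g⁻¹ * (g * v * g⁻¹) = g * (s * v) * g⁻¹ := by group
      _ = g * (v * s) * g⁻¹ := by rw [h.central v hv s hs]
      _ = _ := by group
  obtain ⟨k, hk⟩ := MulAction.exists_smul_eq ↥D ((g • S).subtype hgS) (S.subtype hSD)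
  refine ⟨(k : G) * g, fun s hs => ?_, ?_⟩
  · have hmem : g * s * g⁻¹ ∈ ((g • S : Sylow 2 G) : Subgroup G) := by
      rw [Sylow.coe_subgroup_smul, Subgroup.mem_smul_pointwise_iff_exists]; exact ⟨s, hs, rfl⟩
    have h1 : k * ⟨g * s * g⁻¹, hgS hmem⟩ * k⁻¹ ∈ ((S.subtype hSD : Sylow 2 ↥D) : Subgroup ↥D) := by
      rw [← hk, Sylow.coe_subgroup_smul, Subgroup.mem_smul_pointwise_iff_exists]
      exact ⟨_, hmem, rfl⟩
    rw [show (k : G) * g * s * ((k : G) * g)⁻¹ = (k : G) * (g * s * g⁻¹) * (k : G)⁻¹ by group]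
    exact h1
  · rw [show (k : G) * g * v * ((k : G) * g)⁻¹ = (k : G) * (g * v * g⁻¹) * (k : G)⁻¹ by group,
      mem_centralizer_singleton_iff.1 k.2, mul_inv_cancel_right]

/-- If the normalizer of `S` centralizes `U`, the involutions of `U` are isolated. -/
theorem isolated_of_fixed (h : UFour S U)
    (hfix : ∀ m, (∀ s ∈ (S : Subgroup G), m * s * m⁻¹ ∈ (S : Subgroup G)) → ∀ v ∈ U, m * v * m⁻¹ = v)
    {v : G} (hv : v ∈ U) (hv1 : v ≠ 1) : Cfsg.IsIsolatedInvolution v := by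
  haveI : Fact (Nat.Prime 2) := ⟨Nat.prime_two⟩
  refine ⟨h.orderOf_eq_two hv hv1, fun g hg => ?_⟩
  set w := g * v * g⁻¹ with hw
  set C := centralizer ({v} : Set G) with hC
  have hwC : w ∈ C := mem_centralizer_singleton_iff.2 hg.symm.eq
  have hw2 : w ^ 2 = 1 := by
    rw [hw, conj_pow, sq, (h.mem_iff v (h.le hv)).1 hv, mul_one, mul_inv_cancel]
  have hzp : IsPGroup 2 ↥(zpowers (⟨w, hwC⟩ : ↥C)) := fun ⟨y, hy⟩ => ⟨1, by
    obtain ⟨i, rfl⟩ := hy
    refine Subtype.ext (Subtype.ext ?_)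
    push_cast
    rw [← zpow_natCast, ← zpow_mul, mul_comm, zpow_mul, zpow_natCast, hw2, one_zpow]⟩
  obtain ⟨c, hc⟩ := CfsgLib.Invol.exists_conj_le_sylow hzp (S.subtype (h.le_centralizer hv))
  have h1 : (c : G) * w * (c : G)⁻¹ ∈ (S : Subgroup G) := hc _ (mem_zpowers _)
  have e : (c : G) * w * (c : G)⁻¹ = (c : G) * g * v * ((c : G) * g)⁻¹ := by rw [hw]; group
  rw [e] at h1
  obtain ⟨m, hm, hme⟩ := exists_normalizer_conj h hv (h.mem_of_conj hv h1)
  rw [hfix m hm v hv] at hme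
  have hcv := mem_centralizer_singleton_iff.1 c.2
  calc w = (c : G)⁻¹ * ((c : G) * g * v * ((c : G) * g)⁻¹) * c := by rw [hw]; group
    _ = (c : G)⁻¹ * (v * c) := by rw [← hme, mul_assoc]
    _ = v := by rw [← hcv, inv_mul_cancel_left]

/-- When the normalizer of `S` centralizes `U`, `S` is normal in a reduced group. -/
theorem sylow_eq_top_of_fixed (h : UFour S U) (hO : Cfsg.oddCore G = ⊥)
    (hO' : ∀ N : Subgroup G, N.Normal → Odd N.index → N = ⊤)
    (hfix : ∀ m, (∀ s ∈ (S : Subgroup G), m * s * m⁻¹ ∈ (S : Subgroup G)) → ∀ v ∈ U, m * v * m⁻¹ = v) :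
    (S : Subgroup G) = ⊤ := by
  haveI : Fact (Nat.Prime 2) := ⟨Nat.prime_two⟩
  haveI : Nontrivial U := Finite.one_lt_card_iff_nontrivial.1 (by rw [h.cardU]; norm_num)
  obtain ⟨⟨u, hu⟩, hu1'⟩ := exists_ne (1 : U)
  have hu1 : u ≠ 1 := fun e => hu1' (Subtype.ext e)
  have huc : u ∈ center G := CfsgLib.Invol.eq_of_zcentral_bot
    (CfsgLib.Invol.zstar (isolated_of_fixed h hfix hu hu1)) hO
  have htop : centralizer ({u} : Set G) = ⊤ := eq_top_iff.2 fun g _ =>
    mem_centralizer_singleton_iff.2 (mem_center_iff.1 huc g)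
  have hcore : coreC u = ⊥ := by
    refine le_bot_iff.1 ?_
    rw [← hO]
    have hc : Odd (Nat.card ↥(coreC u)) := by
      rw [coreC, card_map_of_injective (centralizer ({u} : Set G)).subtype_injective]
      exact CfsgLib.TwoNilp.odd_card_pPrimeCore
    haveI : (coreC u).Normal := by
      haveI := CfsgLib.Coprime.pPrimeCore_characteristic (G := ↥(centralizer ({u} : Set G))) 2
      haveI : (centralizer ({u} : Set G)).Normal := htop ▸ inferInstance
      exact (inferInstance : ((Cfsg.pPrimeCore 2 ↥(centralizer ({u} : Set G))).map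
        (centralizer ({u} : Set G)).subtype).Normal)
    exact CfsgLib.Coprime.le_pPrimeCore_of_not_dvd Nat.prime_two
      (Nat.two_dvd_ne_zero.2 (Nat.odd_iff.1 hc))
  have hN : normalizer ((S : Subgroup G) : Set G) = ⊤ := eq_top_iff.2 fun g _ => by
    obtain ⟨o, ho, n, hn, rfl⟩ := h.exists_core_mul_autN hu hu1 (g := g) (mem_center_iff.1 huc g)
    rw [hcore, mem_bot] at ho
    rw [ho, one_mul]
    exact hn.1
  exact hO' _ (normalizer_eq_top_iff.1 hN) (Nat.odd_iff.2 (Nat.two_dvd_ne_zero.1 S.not_dvd_index))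

/-- A subgroup generated by a normal two-subgroup part and an odd subgroup meets `S` only in the former. -/
theorem inf_sup_eq (L : Subgroup G) [L.Normal] {K : Subgroup G} (hK : Odd (Nat.card K)) {x : G}
    (hx : x ∈ (S : Subgroup G)) (hxLK : x ∈ L ⊔ K) : x ∈ L := by
  haveI : Fact (Nat.Prime 2) := ⟨Nat.prime_two⟩
  obtain ⟨i, hi⟩ := S.isPGroup' ⟨x, hx⟩
  set π := QuotientGroup.mk' L
  have hmem : π x ∈ K.map π := by
    have := mem_map_of_mem π hxLK
    rwa [Subgroup.map_sup, show L.map π = ⊥ from (Subgroup.map_eq_bot_iff L).2 (by rw [QuotientGroup.ker_mk']), bot_sup_eq] at this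
  have hodd : Odd (orderOf (π x)) :=
    (hK.of_dvd_nat (card_map_dvd K π)).of_dvd_nat (Subgroup.orderOf_dvd_natCard _ hmem)
  refine (QuotientGroup.eq_one_iff x).1 (CfsgLib.Invol.eq_one_of_odd_of_pow_two hodd (k := i) ?_)
  rw [← QuotientGroup.mk_pow, show x ^ 2 ^ i = 1 from congrArg Subtype.val hi, QuotientGroup.mk_one]

/-- When the normalizer of `S` moves `U`, the group is simple. -/
theorem isSimple_of_moved (h : UFour S U) (hO : Cfsg.oddCore G = ⊥)
    (hO' : ∀ N : Subgroup G, N.Normal → Odd N.index → N = ⊤) {m v0 : G}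
    (hm : ∀ s ∈ (S : Subgroup G), m * s * m⁻¹ ∈ (S : Subgroup G)) (hv0 : v0 ∈ U) (hmv : m * v0 * m⁻¹ ≠ v0) :
    IsSimpleGroup G := by
  classical
  haveI : Fact (Nat.Prime 2) := ⟨Nat.prime_two⟩
  have hnofix : ∀ x ∈ U, x ≠ 1 → m * x * m⁻¹ ≠ x := fun x hx hx1 e =>
    hmv (by rw [h.centralizes_of_fix hm hx hx1 e v0 hv0, mul_inv_cancel_right])
  have hmU : ∀ x ∈ U, m * x * m⁻¹ ∈ U := fun x hx => h.mem_of_conj hx (hm x (h.le hx))
  -- one class
  have hclass : ∀ x ∈ U, x ≠ 1 → ∀ w ∈ U, w ≠ 1 → IsConj x w := by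
    intro x hx hx1 w hw hw1
    set x1 := m * x * m⁻¹ with hx1def
    set x2 := m * x1 * m⁻¹ with hx2def
    have h1 : x1 ≠ 1 := fun e => hx1 (conj_eq_one_iff.1 e)
    have h2 : x2 ≠ 1 := fun e => h1 (conj_eq_one_iff.1 e)
    have h12 : x2 ≠ x1 := hnofix x1 (hmU x hx) h1
    have h01 : x1 ≠ x := hnofix x hx hx1
    have h02 : x2 ≠ x := by
      intro e
      have hne : x * x1 ≠ 1 := fun e' => h01 (by
        rw [← mul_one x1, ← (h.mem_iff x (h.le hx)).1 hx, ← mul_assoc,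
          ← h.central x1 (hmU x hx) x (h.le hx), e', one_mul])
      refine hnofix (x * x1) (mul_mem hx (hmU x hx)) hne ?_
      calc m * (x * x1) * m⁻¹ = x1 * x2 := by rw [hx2def, hx1def]; group
        _ = x * x1 := by rw [e]; exact (h.central x1 (hmU x hx) x (h.le hx)).symm
    rcases (show w = x ∨ w = x1 ∨ w = x2 by
      by_contra hcon
      simp only [not_or] at hcon
      obtain ⟨w2, w3, w4⟩ := hcon
      have hsub : ({1, x, x1, x2, w} : Set G) ⊆ U := by
        intro b hb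
        rcases hb with rfl | rfl | rfl | rfl | rfl
        exacts [one_mem _, hx, hmU x hx, hmU _ (hmU x hx), hw]
      have hc := Set.ncard_le_ncard hsub (Set.toFinite _)
      rw [← Nat.card_coe_set_eq (U : Set G)] at hc
      rw [show Nat.card ↥(U : Set G) = Nat.card U from rfl, h.cardU] at hc
      rw [Set.ncard_insert_of_notMem (by simp [Ne.symm hx1, Ne.symm h1, Ne.symm h2, Ne.symm hw1]),
        Set.ncard_insert_of_notMem (by simp [Ne.symm h01, Ne.symm h02, Ne.symm w2]),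
        Set.ncard_insert_of_notMem (by simp [Ne.symm h12, Ne.symm w3]),
        Set.ncard_pair (Ne.symm w4)] at hc
      omega) with rfl | rfl | rfl
    · exact IsConj.refl _
    · exact isConj_iff.2 ⟨m, rfl⟩
    · exact isConj_iff.2 ⟨m * m, by rw [hx2def, hx1def]; group⟩
  have hone : ∀ a b : G, orderOf a = 2 → orderOf b = 2 → IsConj a b := by
    intro a b ha hb
    obtain ⟨g, hgU, hg1⟩ := h.exists_conj_mem ha
    obtain ⟨k, hkU, hk1⟩ := h.exists_conj_mem hb
    exact ((isConj_iff.2 ⟨g, rfl⟩ : IsConj a _).trans (hclass _ hgU hg1 _ hkU hk1)).trans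
      (isConj_iff.2 ⟨k, rfl⟩ : IsConj b _).symm
  have heven : ∀ N : Subgroup G, N.Normal → N ≠ ⊥ → ∃ t ∈ N, orderOf t = 2 := by
    intro N hN hN1
    by_contra hcon
    haveI := hN
    refine hN1 (le_bot_iff.1 (hO ▸ CfsgLib.Coprime.le_pPrimeCore_of_not_dvd Nat.prime_two fun h2 => ?_))
    obtain ⟨t, ht⟩ := exists_prime_orderOf_dvd_card' 2 h2
    exact hcon ⟨t, t.2, by rw [Subgroup.orderOf_coe]; exact ht⟩
  have hinvN : ∀ N : Subgroup G, N.Normal → N ≠ ⊥ → ∀ t, orderOf t = 2 → t ∈ N := by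
    intro N hN hN1 t ht
    obtain ⟨s, hs, hs2⟩ := heven N hN hN1
    obtain ⟨g, rfl⟩ := isConj_iff.1 (hone s t hs2 ht)
    exact hN.conj_mem s hs g
  haveI : Nontrivial G := by
    refine ⟨⟨v0, 1, fun e => hmv (by rw [e]; group)⟩⟩
  -- a minimal normal subgroup
  have hne : ∃ n : ℕ, ∃ N : Subgroup G, N.Normal ∧ N ≠ ⊥ ∧ Nat.card N = n :=
    ⟨_, ⊤, inferInstance, top_ne_bot, rfl⟩
  obtain ⟨L, hL, hL1, hLc⟩ := Nat.find_spec hne
  have hLmin : ∀ N : Subgroup G, N.Normal → N ≤ L → N ≠ ⊥ → N = L := fun N hN hle hN1 =>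
    eq_of_le_of_card_ge hle (hLc.le.trans (Nat.find_le ⟨N, hN, hN1, rfl⟩))
  haveI := hL
  have hUL : U ≤ L := fun x hx => by
    by_cases hx1 : x = 1
    · exact hx1 ▸ one_mem _
    · exact hinvN L hL hL1 x (h.orderOf_eq_two hx hx1)
  -- `L` is not abelian
  have hLab : ¬ ∀ a ∈ L, ∀ b ∈ L, a * b = b * a := by
    intro hab
    have hUc : ∀ x ∈ U, ∀ g : G, g * x * g⁻¹ ∈ U := fun x hx g => by
      by_cases hx1 : x = 1
      · subst hx1; simpa using one_mem U
      -- the involutions of an abelian `L` form a two-subgroup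
      set V : Subgroup G := {
        carrier := {y | y ∈ L ∧ y * y = 1}
        mul_mem' := fun {a b} ha hb => ⟨mul_mem ha.1 hb.1, by
          rw [show a * b * (a * b) = a * (b * a) * b by group, ← hab a ha.1 b hb.1,
            show a * (a * b) * b = a * a * (b * b) by group, ha.2, hb.2, one_mul]⟩
        one_mem' := ⟨one_mem _, one_mul 1⟩
        inv_mem' := fun {a} ha => ⟨inv_mem ha.1, by rw [← mul_inv_rev, ha.2, inv_one]⟩ } with hV
      have hVn : V.Normal := ⟨fun y hy g => ⟨hL.conj_mem y hy.1 g, by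
        rw [show g * y * g⁻¹ * (g * y * g⁻¹) = g * (y * y) * g⁻¹ by group, hy.2, mul_one, mul_inv_cancel]⟩⟩
      have hVp : IsPGroup 2 ↥V := fun y => ⟨1, Subtype.ext (by push_cast; rw [sq]; exact y.2.2)⟩
      obtain ⟨k, hk⟩ := CfsgLib.Invol.exists_conj_le_sylow hVp S
      have hxV : x ∈ V := ⟨hUL hx, (h.mem_iff x (h.le hx)).1 hx⟩
      have hgx := hVn.conj_mem x hxV g
      have hgS : g * x * g⁻¹ ∈ (S : Subgroup G) := by
        have := hk _ (hVn.conj_mem _ hgx k⁻¹)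
        rwa [inv_inv, show k * (k⁻¹ * (g * x * g⁻¹) * k) * k⁻¹ = g * x * g⁻¹ by group] at this
      exact (h.mem_iff _ hgS).2 hgx.2
    have hUn : U.Normal := ⟨fun x hx g => hUc x hx g⟩
    have hCn : (centralizer (U : Set G)).Normal := ⟨fun c hc g => mem_centralizer_iff.2 fun x hx => by
      have e := mem_centralizer_iff.1 hc _ (hUn.conj_mem x hx g⁻¹)
      rw [inv_inv] at e
      calc x * (g * c * g⁻¹) = g * (g⁻¹ * x * g * c) * g⁻¹ := by group
        _ = g * (c * (g⁻¹ * x * g)) * g⁻¹ := by rw [e]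
        _ = _ := by group⟩
    have hSle : (S : Subgroup G) ≤ centralizer (U : Set G) := fun s hs =>
      mem_centralizer_iff.2 fun x hx => (h.central x hx s hs).symm
    have htop := hO' _ hCn ((Nat.odd_iff.2 (Nat.two_dvd_ne_zero.1 S.not_dvd_index)).of_dvd_nat
      (index_dvd_of_le hSle))
    have := mem_centralizer_iff.1 (htop ▸ mem_top m : m ∈ centralizer (U : Set G)) v0 hv0
    exact hmv (by rw [← this, mul_inv_cancel_right])
  haveI : Nontrivial ↥L := (nontrivial_iff_ne_bot L).2 hL1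
  have hOL := CfsgLib.TwoNilp.pPrimeCore_eq_bot_of_normal hO L
  -- `L` is simple
  haveI hLsimple : IsSimpleGroup ↥L := by
    refine ⟨fun M hM => ?_⟩
    by_contra hcon
    simp only [not_or] at hcon
    have hex : ∃ n : ℕ, ∃ M : Subgroup ↥L, M.Normal ∧ M ≠ ⊥ ∧ Nat.card M = n := ⟨_, M, hM, hcon.1, rfl⟩
    obtain ⟨M0, hM0, hM01, hM0c⟩ := Nat.find_spec hex
    have hM0min : ∀ N : Subgroup ↥L, N.Normal → N ≤ M0 → N ≠ ⊥ → N = M0 := fun N hN hle hN1 =>
      eq_of_le_of_card_ge hle (hM0c.le.trans (Nat.find_le ⟨N, hN, hN1, rfl⟩))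
    have hM0top : M0 ≠ ⊤ := fun e => hcon.2 (eq_top_iff.2 (by
      refine (eq_of_le_of_card_ge le_top ?_).ge
      rw [← e, hM0c]
      exact Nat.find_le ⟨M, hM, hcon.1, rfl⟩))
    let c : G → (↥L →* ↥L) := fun g => MonoidHom.mk' (fun y => ⟨g * (y : G) * g⁻¹, hL.conj_mem y y.2 g⟩)
      fun a b => Subtype.ext (by push_cast; group)
    have hcinj : ∀ g, Function.Injective (c g) := fun g a b e =>
      Subtype.ext (mul_left_cancel (mul_right_cancel (congrArg Subtype.val e)))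
    have hcn : ∀ g, (M0.map (c g)).Normal := fun g =>
      hM0.map (c g) (Finite.surjective_of_injective (hcinj g))
    -- two conjugates are equal or disjoint
    have hdis : ∀ g, M0.map (c g) = M0 ∨ M0 ⊓ M0.map (c g) = ⊥ := fun g => by
      haveI := hM0; haveI := hcn g
      by_cases hb : M0 ⊓ M0.map (c g) = ⊥
      · exact Or.inr hb
      · have e := hM0min _ inferInstance inf_le_left hb
        exact Or.inl (eq_of_le_of_card_ge (e.ge.trans inf_le_right)
          (card_map_of_injective (K := M0) (hcinj g)).le).symm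
    obtain ⟨g, hg⟩ : ∃ g, M0.map (c g) ≠ M0 := by
      by_contra hall
      simp only [not_exists, not_not] at hall
      have hn : (M0.map L.subtype).Normal := ⟨fun y hy g => by
        obtain ⟨x, hx, rfl⟩ := hy
        exact ⟨c g x, (hall g) ▸ mem_map_of_mem _ hx, rfl⟩⟩
      have := hLmin _ hn (map_subtype_le M0) fun e => hM01
        ((Subgroup.map_eq_bot_iff_of_injective _ L.subtype_injective).1 e)
      refine hM0top (eq_top_iff.2 fun x _ => ?_)
      have hx : (x : G) ∈ M0.map L.subtype := by rw [this]; exact x.2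
      obtain ⟨y, hy, hyx⟩ := hx
      rwa [← Subtype.ext hyx]
    have hd := (hdis g).resolve_left hg
    -- an involution of `M0`
    obtain ⟨a, ha, ha2⟩ : ∃ a ∈ M0, orderOf a = 2 := by
      by_contra hno
      haveI := hM0
      refine hM01 (le_bot_iff.1 (hOL ▸ CfsgLib.Coprime.le_pPrimeCore_of_not_dvd Nat.prime_two fun h2 => ?_))
      obtain ⟨t, ht⟩ := exists_prime_orderOf_dvd_card' 2 h2
      exact hno ⟨t, t.2, by rw [Subgroup.orderOf_coe]; exact ht⟩
    have hb : c g a ∈ M0.map (c g) := mem_map_of_mem _ ha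
    have hcom : ∀ y ∈ M0, ∀ z ∈ M0.map (c g), y * z = z * y := fun y hy z hz =>
      Subgroup.commute_of_normal_of_disjoint M0 _ hM0 (hcn g) (disjoint_iff.2 hd) y z hy hz
    have hab2 : orderOf (a * c g a) = 2 := by
      have hc2 : orderOf (c g a) = 2 := by rw [orderOf_injective _ (hcinj g), ha2]
      refine orderOf_eq_prime ?_ fun e => ?_
      · rw [(show Commute a (c g a) from hcom a ha _ hb).mul_pow, show a ^ 2 = 1 by rw [← ha2, pow_orderOf_eq_one],
          show (c g a) ^ 2 = 1 by rw [← hc2, pow_orderOf_eq_one], one_mul]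
      · have hmem : a ∈ M0 ⊓ M0.map (c g) := ⟨ha, by
          rw [eq_inv_of_mul_eq_one_left e]; exact (M0.map (c g)).inv_mem hb⟩
        rw [hd, mem_bot] at hmem
        rw [hmem, orderOf_one] at ha2; omega
    obtain ⟨k, hk⟩ := isConj_iff.1 (hone (a : G) ((a * c g a : ↥L) : G) (by rw [Subgroup.orderOf_coe, ha2])
      (by rw [Subgroup.orderOf_coe, hab2]))
    have hk' : c k a = a * c g a := Subtype.ext hk
    rcases hdis k with e | e
    · -- then `c g a` lies in `M0`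
      have h1 : a * c g a ∈ M0 := hk' ▸ e ▸ mem_map_of_mem _ ha
      have h2 : c g a ∈ M0 ⊓ M0.map (c g) := ⟨(mul_mem_cancel_left ha).1 h1, hb⟩
      rw [hd, mem_bot] at h2
      have : orderOf (c g a) = 2 := by rw [orderOf_injective _ (hcinj g), ha2]
      rw [h2, orderOf_one] at this; omega
    · -- then `a` centralizes `M0`
      have hz : ∀ y ∈ M0, y * a = a * y := fun y hy => by
        have h1 : y * (a * c g a) = a * c g a * y :=
          Subgroup.commute_of_normal_of_disjoint M0 _ hM0 (hcn k) (disjoint_iff.2 e) y _ hy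
            (hk' ▸ mem_map_of_mem _ ha)
        rw [← mul_assoc, mul_assoc a, ← hcom y hy _ hb, ← mul_assoc] at h1
        exact mul_right_cancel h1
      set Z : Subgroup ↥L := M0 ⊓ centralizer (M0 : Set ↥L) with hZ
      have hZn : Z.Normal := ⟨fun y hy z => ⟨hM0.conj_mem y hy.1 z, mem_centralizer_iff.2 fun w hw => by
        have e' := mem_centralizer_iff.1 hy.2 _ (hM0.conj_mem w hw z⁻¹)
        rw [inv_inv] at e'
        calc w * (z * y * z⁻¹) = z * (z⁻¹ * w * z * y) * z⁻¹ := by group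
          _ = z * (y * (z⁻¹ * w * z)) * z⁻¹ := by rw [e']
          _ = _ := by group⟩⟩
      have hZ1 : Z ≠ ⊥ := fun e' => by
        have h0 : a ∈ Z := ⟨ha, mem_centralizer_iff.2 hz⟩
        rw [e', mem_bot] at h0
        rw [h0, orderOf_one] at ha2; omega
      have hM0ab : ∀ y ∈ M0, ∀ z ∈ M0, y * z = z * y := fun y hy z hz' => by
        have hy' : y ∈ Z := by rw [hM0min Z hZn inf_le_left hZ1]; exact hy
        exact (mem_centralizer_iff.1 hy'.2 z hz').symm
      -- the conjugates generate an abelian normal subgroup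
      set X : Set ↥L := ⋃ g : G, (M0.map (c g) : Set ↥L) with hX
      have hXc : ∀ y ∈ X, ∀ z ∈ X, y * z = z * y := by
        intro y hy z hz'
        obtain ⟨g1, hy⟩ := Set.mem_iUnion.1 hy
        obtain ⟨g2, hz'⟩ := Set.mem_iUnion.1 hz'
        obtain ⟨y0, hy0, rfl⟩ := hy
        obtain ⟨z0, hz0, rfl⟩ := hz'
        have key : y0 * c (g1⁻¹ * g2) z0 = c (g1⁻¹ * g2) z0 * y0 := by
          rcases hdis (g1⁻¹ * g2) with e' | e'
          · exact hM0ab _ hy0 _ (e' ▸ mem_map_of_mem _ hz0)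
          · exact Subgroup.commute_of_normal_of_disjoint M0 _ hM0 (hcn _) (disjoint_iff.2 e') _ _ hy0
              (mem_map_of_mem _ hz0)
        refine Subtype.ext ?_
        have k' : (y0 : G) * ((g1⁻¹ * g2) * (z0 : G) * (g1⁻¹ * g2)⁻¹) =
            (g1⁻¹ * g2) * (z0 : G) * (g1⁻¹ * g2)⁻¹ * (y0 : G) := congrArg Subtype.val key
        show g1 * (y0 : G) * g1⁻¹ * (g2 * (z0 : G) * g2⁻¹) = g2 * (z0 : G) * g2⁻¹ * (g1 * (y0 : G) * g1⁻¹)
        calc g1 * (y0 : G) * g1⁻¹ * (g2 * (z0 : G) * g2⁻¹)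
            = g1 * ((y0 : G) * ((g1⁻¹ * g2) * (z0 : G) * (g1⁻¹ * g2)⁻¹)) * g1⁻¹ := by group
          _ = g1 * ((g1⁻¹ * g2) * (z0 : G) * (g1⁻¹ * g2)⁻¹ * (y0 : G)) * g1⁻¹ := by rw [k']
          _ = _ := by group
      haveI := Subgroup.isMulCommutative_closure hXc
      have hYn : ((closure X).map L.subtype).Normal := ⟨fun y hy g => by
        obtain ⟨x, hx, rfl⟩ := hy
        refine ⟨c g x, ?_, rfl⟩
        induction hx using Subgroup.closure_induction with
        | mem x hx =>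
          obtain ⟨g1, y0, hy0, rfl⟩ := Set.mem_iUnion.1 hx
          exact subset_closure (Set.mem_iUnion.2 ⟨g * g1, y0, hy0, Subtype.ext (by
            show g * g1 * (y0 : G) * (g * g1)⁻¹ = g * (g1 * (y0 : G) * g1⁻¹) * g⁻¹
            group)⟩)
        | one => rw [map_one]; exact one_mem _
        | mul p q _ _ hp hq => rw [map_mul]; exact mul_mem hp hq
        | inv p _ hp => rw [map_inv]; exact inv_mem hp⟩
      have hYL := hLmin _ hYn (map_subtype_le _) fun e' => by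
        have ha' : c 1 a ∈ closure X := subset_closure (Set.mem_iUnion.2 ⟨1, mem_map_of_mem _ ha⟩)
        rw [(Subgroup.map_eq_bot_iff_of_injective _ L.subtype_injective).1 e', mem_bot] at ha'
        have : orderOf (c 1 a) = 2 := by rw [orderOf_injective _ (hcinj 1), ha2]
        rw [ha', orderOf_one] at this; omega
      refine hLab fun p hp q hq => ?_
      rw [← hYL] at hp hq
      obtain ⟨p, hp, rfl⟩ := hp
      obtain ⟨q, hq, rfl⟩ := hq
      exact congrArg Subtype.val (congrArg Subtype.val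
        ((inferInstance : IsMulCommutative ↥(closure X)).is_comm.comm ⟨p, hp⟩ ⟨q, hq⟩))
  have hLnc : ¬ IsMulCommutative ↥L := fun hc => hLab fun a ha b hb =>
    congrArg Subtype.val (hc.is_comm.comm (⟨a, ha⟩ : ↥L) ⟨b, hb⟩)
  -- `L` contains the Sylow subgroup
  suffices hSL : (S : Subgroup G) ≤ L by
    have htop := hO' L hL ((Nat.odd_iff.2 (Nat.two_dvd_ne_zero.1 S.not_dvd_index)).of_dvd_nat
      (index_dvd_of_le hSL))
    subst htop
    exact (Subgroup.topEquiv (G := G)).symm.isSimpleGroup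
  by_contra hSL
  obtain ⟨x0, hx0, hx0L⟩ := SetLike.not_le_iff_exists.1 hSL
  set T : Sylow 2 ↥L := (S.isPGroup'.comap_subtype (K := L)).toSylow (fun hd =>
    S.not_dvd_index (hd.trans (CfsgLib.PGroup.relIndex_dvd_index_normal_right _ L))) with hT
  -- an element of `L` normalizing `T` and moving `U`
  haveI : Nontrivial U := Finite.one_lt_card_iff_nontrivial.1 (by rw [h.cardU]; norm_num)
  obtain ⟨⟨u, hu⟩, hu1'⟩ := exists_ne (1 : U)
  have hu1 : u ≠ 1 := fun e => hu1' (Subtype.ext e)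
  set uL : ↥L := ⟨u, hUL hu⟩ with huL
  obtain ⟨r, hrc, hrne⟩ : ∃ r : ↥L, Commute uL (r * uL * r⁻¹) ∧ r * uL * r⁻¹ ≠ uL := by
    by_contra hcon
    simp only [not_exists, not_and, not_not] at hcon
    exact CfsgLib.TwoNilp.not_isolated hLnc uL
      ⟨by rw [Subgroup.orderOf_mk]; exact h.orderOf_eq_two hu hu1, hcon⟩
  set CL := centralizer ({uL} : Set ↥L) with hCL
  have hTC : (T : Subgroup ↥L) ≤ CL := fun y hy =>
    mem_centralizer_singleton_iff.2 (Subtype.ext (h.central u hu _ hy))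
  obtain ⟨r', hr'⟩ : ∃ r' : ↥L, ((r' * uL * r'⁻¹ : ↥L) : G) ∈ (S : Subgroup G) ∧ r' * uL * r'⁻¹ ≠ uL := by
    have hw2 : (r * uL * r⁻¹) ^ 2 = 1 := by
      rw [conj_pow, show uL ^ 2 = 1 from Subtype.ext (by push_cast; rw [sq]; exact (h.mem_iff u (h.le hu)).1 hu),
        mul_one, mul_inv_cancel]
    have hwC : r * uL * r⁻¹ ∈ CL := mem_centralizer_singleton_iff.2 hrc.symm.eq
    have hzp : IsPGroup 2 ↥(zpowers (⟨_, hwC⟩ : ↥CL)) := fun ⟨y, hy⟩ => ⟨1, by
      obtain ⟨i, rfl⟩ := hy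
      refine Subtype.ext (Subtype.ext ?_)
      push_cast
      rw [← zpow_natCast, ← zpow_mul, mul_comm, zpow_mul, zpow_natCast, hw2, one_zpow]⟩
    obtain ⟨cc, hcc⟩ := CfsgLib.Invol.exists_conj_le_sylow hzp (T.subtype hTC)
    have h1 : ((cc : ↥L) * (r * uL * r⁻¹) * (cc : ↥L)⁻¹) ∈ (T : Subgroup ↥L) := hcc _ (mem_zpowers _)
    refine ⟨(cc : ↥L) * r, ?_, fun e => hrne ?_⟩
    · rw [show (cc : ↥L) * r * uL * ((cc : ↥L) * r)⁻¹ = (cc : ↥L) * (r * uL * r⁻¹) * (cc : ↥L)⁻¹ by group]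
      exact h1
    · calc r * uL * r⁻¹ = (cc : ↥L)⁻¹ * ((cc : ↥L) * r * uL * ((cc : ↥L) * r)⁻¹) * cc := by group
        _ = (cc : ↥L)⁻¹ * (uL * cc) := by rw [e, mul_assoc]
        _ = uL := by rw [← mem_centralizer_singleton_iff.1 cc.2, inv_mul_cancel_left]
  obtain ⟨hr'S, hr'ne⟩ := hr'
  set u' := r' * uL * r'⁻¹ with hu'
  have hu'U : (u' : G) ∈ U := h.mem_of_conj hu hr'S
  -- Burnside inside `L`
  obtain ⟨n, hnT, hnu⟩ : ∃ n : ↥L, n ∈ normalizer ((T : Subgroup ↥L) : Set ↥L) ∧ n * uL * n⁻¹ = u' := by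
    set D := centralizer ({u'} : Set ↥L) with hD
    have hTD : (T : Subgroup ↥L) ≤ D := fun y hy =>
      mem_centralizer_singleton_iff.2 (Subtype.ext (h.central _ hu'U _ hy))
    have hrT : ((r' • T : Sylow 2 ↥L) : Subgroup ↥L) ≤ D := by
      rw [Sylow.coe_subgroup_smul]
      intro z hz
      rw [Subgroup.mem_smul_pointwise_iff_exists] at hz
      obtain ⟨s, hs, rfl⟩ := hz
      show r' * s * r'⁻¹ ∈ D
      refine mem_centralizer_singleton_iff.2 ?_
      calc r' * s * r'⁻¹ * (r' * uL * r'⁻¹) = r' * (s * uL) * r'⁻¹ := by group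
        _ = r' * (uL * s) * r'⁻¹ := by rw [mem_centralizer_singleton_iff.1 (hTC hs)]
        _ = _ := by rw [hu']; group
    obtain ⟨k, hk⟩ := MulAction.exists_smul_eq ↥D ((r' • T).subtype hrT) (T.subtype hTD)
    refine ⟨(k : ↥L) * r', CfsgLib.Fusion.conjBy_eq_iff.1 (CfsgLib.Fusion.conjBy_eq_of_le
      (CfsgLib.Fusion.conjBy_le_iff.2 fun s hs => ?_)), ?_⟩
    · have hmem : r' * s * r'⁻¹ ∈ ((r' • T : Sylow 2 ↥L) : Subgroup ↥L) := by
        rw [Sylow.coe_subgroup_smul, Subgroup.mem_smul_pointwise_iff_exists]; exact ⟨s, hs, rfl⟩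
      have h1 : k * ⟨r' * s * r'⁻¹, hrT hmem⟩ * k⁻¹ ∈ ((T.subtype hTD : Sylow 2 ↥D) : Subgroup ↥D) := by
        rw [← hk, Sylow.coe_subgroup_smul, Subgroup.mem_smul_pointwise_iff_exists]
        exact ⟨_, hmem, rfl⟩
      rw [show (k : ↥L) * r' * s * ((k : ↥L) * r')⁻¹ = (k : ↥L) * (r' * s * r'⁻¹) * (k : ↥L)⁻¹ by group]
      exact h1
    · rw [show (k : ↥L) * r' * uL * ((k : ↥L) * r')⁻¹ = (k : ↥L) * u' * (k : ↥L)⁻¹ by rw [hu']; group,
        mem_centralizer_singleton_iff.1 k.2, mul_inv_cancel_right]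
  have hnU : ∀ x ∈ U, (n : G) * x * (n : G)⁻¹ ∈ U := fun x hx =>
    h.mem_of_conj hx ((mem_normalizer_iff.1 hnT ⟨x, hUL hx⟩).1 (show (⟨x, hUL hx⟩ : ↥L) ∈ (T : Subgroup ↥L) from h.le hx))
  -- correct `n` by an element of `C(U)` to normalize `S`
  set CU := centralizer (U : Set G) with hCU
  have hSCU : (S : Subgroup G) ≤ CU := fun s hs => mem_centralizer_iff.2 fun x hx => (h.central x hx s hs).symm
  have hnS : (((n : G) • S : Sylow 2 G) : Subgroup G) ≤ CU := by
    rw [Sylow.coe_subgroup_smul]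
    intro z hz
    rw [Subgroup.mem_smul_pointwise_iff_exists] at hz
    obtain ⟨s, hs, rfl⟩ := hz
    show (n : G) * s * (n : G)⁻¹ ∈ CU
    refine mem_centralizer_iff.2 fun x hx => ?_
    have hsurj : Function.Surjective (fun y : U => (⟨(n : G) * (y : G) * (n : G)⁻¹, hnU y y.2⟩ : U)) :=
      Finite.surjective_of_injective fun p q e => Subtype.ext
        (mul_left_cancel (mul_right_cancel (congrArg Subtype.val e)))
    obtain ⟨y, hy⟩ := hsurj ⟨x, hx⟩
    rw [← show (n : G) * (y : G) * (n : G)⁻¹ = x from congrArg Subtype.val hy]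
    calc (n : G) * (y : G) * (n : G)⁻¹ * ((n : G) * s * (n : G)⁻¹) = (n : G) * ((y : G) * s) * (n : G)⁻¹ := by group
      _ = (n : G) * (s * (y : G)) * (n : G)⁻¹ := by rw [h.central _ y.2 s hs]
      _ = _ := by group
  obtain ⟨c, hc⟩ := MulAction.exists_smul_eq ↥CU (((n : G) • S).subtype hnS) (S.subtype hSCU)
  have hm1 : ∀ s ∈ (S : Subgroup G), (c : G) * (n : G) * s * ((c : G) * (n : G))⁻¹ ∈ (S : Subgroup G) := by
    intro s hs
    have hmem : (n : G) * s * (n : G)⁻¹ ∈ (((n : G) • S : Sylow 2 G) : Subgroup G) := by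
      rw [Sylow.coe_subgroup_smul, Subgroup.mem_smul_pointwise_iff_exists]; exact ⟨s, hs, rfl⟩
    have h1 : c * ⟨_, hnS hmem⟩ * c⁻¹ ∈ ((S.subtype hSCU : Sylow 2 ↥CU) : Subgroup ↥CU) := by
      rw [← hc, Sylow.coe_subgroup_smul, Subgroup.mem_smul_pointwise_iff_exists]
      exact ⟨_, hmem, rfl⟩
    rw [show (c : G) * (n : G) * s * ((c : G) * (n : G))⁻¹ = (c : G) * ((n : G) * s * (n : G)⁻¹) * (c : G)⁻¹ by group]
    exact h1
  -- split `c`
  have hcu : (c : G) * u = u * (c : G) := (mem_centralizer_iff.1 c.2 u hu).symm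
  obtain ⟨o, ho, p, hp, hcop⟩ := h.exists_core_mul_autN hu hu1 hcu
  set g1 := p⁻¹ * ((c : G) * (n : G)) with hg1
  have hg1S : ∀ s ∈ (S : Subgroup G), g1 * s * g1⁻¹ ∈ (S : Subgroup G) := fun s hs => by
    rw [show g1 * s * g1⁻¹ = p⁻¹ * ((c : G) * (n : G) * s * ((c : G) * (n : G))⁻¹) * p⁻¹⁻¹ by rw [hg1]; group]
    exact (mem_normalizer_iff.1 (inv_mem hp.1) _).1 (hm1 s hs)
  -- it fixes `S` modulo `L`
  have hfix : ∀ s ∈ (S : Subgroup G), g1 * s * g1⁻¹ * s⁻¹ ∈ L := by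
    intro s hs
    refine inf_sup_eq (S := S) L (K := coreC u) ?_ (mul_mem (hg1S s hs) (inv_mem hs)) ?_
    · rw [coreC, card_map_of_injective (centralizer ({u} : Set G)).subtype_injective]
      exact CfsgLib.TwoNilp.odd_card_pPrimeCore
    obtain ⟨o', ho', e'⟩ : ∃ o' ∈ coreC u, p⁻¹ * (c : G) = o' := by
      obtain ⟨oC, hoC, hoe⟩ := ho
      haveI hKn : (Cfsg.pPrimeCore 2 ↥(centralizer ({u} : Set G))).Normal := by
        rw [CfsgLib.Coprime.pPrimeCore_eq_piCore Nat.prime_two]; infer_instance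
      have hpC : p ∈ centralizer ({u} : Set G) :=
        mem_centralizer_singleton_iff.2 (mem_centralizer_iff.1 hp.2 u hu).symm
      refine ⟨_, ⟨(⟨p, hpC⟩ : ↥(centralizer ({u} : Set G)))⁻¹ * oC * ⟨p, hpC⟩, ?_, rfl⟩, ?_⟩
      · have := hKn.conj_mem oC hoC (⟨p, hpC⟩ : ↥(centralizer ({u} : Set G)))⁻¹
        rwa [inv_inv] at this
      · rw [hcop, ← hoe]
        show _ = p⁻¹ * (oC : G) * p
        rw [← mul_assoc]
        rfl
    have hsK : s * o'⁻¹ * s⁻¹ ∈ coreC u := by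
      obtain ⟨oC, hoC, rfl⟩ := ho'
      haveI hKn : (Cfsg.pPrimeCore 2 ↥(centralizer ({u} : Set G))).Normal := by
        rw [CfsgLib.Coprime.pPrimeCore_eq_piCore Nat.prime_two]; infer_instance
      exact ⟨_, hKn.conj_mem _ (inv_mem hoC) ⟨s, h.le_centralizer hu hs⟩, rfl⟩
    have e : g1 * s * g1⁻¹ * s⁻¹ = o' * ((n : G) * s * (n : G)⁻¹ * s⁻¹) * (s * o'⁻¹ * s⁻¹) := by
      rw [hg1, ← e']; group
    rw [e]
    have hnL : (n : G) * s * (n : G)⁻¹ * s⁻¹ ∈ L := by
      rw [show (n : G) * s * (n : G)⁻¹ * s⁻¹ = (n : G) * (s * (n : G)⁻¹ * s⁻¹) by group]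
      exact mul_mem n.2 (hL.conj_mem _ (inv_mem n.2) s)
    exact mul_mem (mul_mem (mem_sup_right ho') (mem_sup_left hnL)) (mem_sup_right hsK)
  -- it moves `U`
  have hg1u : g1 * u * g1⁻¹ ≠ u := by
    have hcu' : (c : G) * (u' : G) = (u' : G) * (c : G) := (mem_centralizer_iff.1 c.2 _ hu'U).symm
    have hpu' : p * (u' : G) = (u' : G) * p := (mem_centralizer_iff.1 hp.2 _ hu'U).symm
    have e : g1 * u * g1⁻¹ = (u' : G) := by
      have e1 : (n : G) * u * (n : G)⁻¹ = (u' : G) := congrArg Subtype.val hnu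
      rw [show g1 * u * g1⁻¹ = p⁻¹ * ((c : G) * ((n : G) * u * (n : G)⁻¹) * (c : G)⁻¹) * p by rw [hg1]; group,
        e1, hcu', mul_inv_cancel_right, mul_assoc, ← hpu', inv_mul_cancel_left]
    rw [e]
    exact fun e' => hr'ne (Subtype.ext e')
  -- a power of three-power order still moves `U`
  have hU3 : ∀ x ∈ U, g1 ^ 3 * x * (g1 ^ 3)⁻¹ = x := by
    intro x hx
    have hg1U : ∀ y ∈ U, g1 * y * g1⁻¹ ∈ U := fun y hy => h.mem_of_conj hy (hg1S y (h.le hy))
    have hnf : ∀ y ∈ U, y ≠ 1 → g1 * y * g1⁻¹ ≠ y := fun y hy hy1 e =>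
      hg1u (by rw [h.centralizes_of_fix hg1S hy hy1 e u hu, mul_inv_cancel_right])
    by_cases hx1 : x = 1
    · subst hx1; group
    set y1 := g1 * x * g1⁻¹ with hy1d
    set y2 := g1 * y1 * g1⁻¹ with hy2d
    set y3 := g1 * y2 * g1⁻¹ with hy3d
    rw [show g1 ^ 3 * x * (g1 ^ 3)⁻¹ = y3 by rw [hy3d, hy2d, hy1d, pow_succ, sq]; group]
    have n1 : y1 ≠ 1 := fun e => hx1 (conj_eq_one_iff.1 e)
    have n2 : y2 ≠ 1 := fun e => n1 (conj_eq_one_iff.1 e)
    have n3 : y3 ≠ 1 := fun e => n2 (conj_eq_one_iff.1 e)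
    have hy1U := hg1U x hx
    have hy2U := hg1U _ hy1U
    have h01 : y1 ≠ x := hnf x hx hx1
    have h12 : y2 ≠ y1 := hnf y1 hy1U n1
    have h23 : y3 ≠ y2 := hnf y2 hy2U n2
    have h02 : y2 ≠ x := by
      intro e
      have hne : x * y1 ≠ 1 := fun e' => h01 (by
        rw [← mul_one y1, ← (h.mem_iff x (h.le hx)).1 hx, ← mul_assoc,
          ← h.central y1 hy1U x (h.le hx), e', one_mul])
      refine hnf (x * y1) (mul_mem hx hy1U) hne ?_
      calc g1 * (x * y1) * g1⁻¹ = y1 * y2 := by rw [hy2d, hy1d]; group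
        _ = x * y1 := by rw [e]; exact (h.central y1 hy1U x (h.le hx)).symm
    have h13 : y3 ≠ y1 := fun e => h02 (mul_left_cancel (mul_right_cancel (show g1 * y2 * g1⁻¹ = g1 * x * g1⁻¹ from e)))
    by_contra hne
    have hsub : ({1, x, y1, y2, y3} : Set G) ⊆ U := by
      intro b hb
      rcases hb with rfl | rfl | rfl | rfl | rfl
      exacts [one_mem _, hx, hy1U, hy2U, hg1U _ hy2U]
    have hc' := Set.ncard_le_ncard hsub (Set.toFinite _)
    rw [← Nat.card_coe_set_eq (U : Set G)] at hc'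
    rw [show Nat.card ↥(U : Set G) = Nat.card U from rfl, h.cardU] at hc'
    rw [Set.ncard_insert_of_notMem (by simp [Ne.symm hx1, Ne.symm n1, Ne.symm n2, Ne.symm n3]),
      Set.ncard_insert_of_notMem (by simp [Ne.symm h01, Ne.symm h02, Ne.symm hne]),
      Set.ncard_insert_of_notMem (by simp [Ne.symm h12, Ne.symm h13]),
      Set.ncard_pair (Ne.symm h23)] at hc'
    omega
  set d := ordCompl[3] (orderOf g1) with hd
  set g := g1 ^ d with hgdef
  have hd3 : ¬ 3 ∣ d := Nat.not_dvd_ordCompl Nat.prime_three (orderOf_pos g1).ne'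
  have hgu : g * u * g⁻¹ ≠ u := by
    intro e
    apply hg1u
    obtain ⟨r0, hr0⟩ : ∃ r0 : ℕ, (d * r0) % 3 = 1 := by
      rcases (show d % 3 = 1 ∨ d % 3 = 2 by omega) with e' | e'
      · exact ⟨1, by omega⟩
      · exact ⟨2, by omega⟩
    have hc3 : Commute (g1 ^ 3) u := mul_inv_eq_iff_eq_mul.1 (hU3 u hu)
    have hcd : Commute (g1 ^ (d * r0)) u := by
      rw [pow_mul]; exact (show Commute g u from mul_inv_eq_iff_eq_mul.1 e).pow_left r0
    have hdecomp : d * r0 = 1 + 3 * ((d * r0) / 3) := by omega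
    rw [hdecomp, pow_add, pow_one, pow_mul] at hcd
    have h1 : Commute g1 u := by
      have := hcd.mul_left ((hc3.pow_left ((d * r0) / 3)).inv_left)
      rwa [mul_inv_cancel_right] at this
    exact mul_inv_eq_iff_eq_mul.2 h1.eq
  set Λ : Subgroup G := {
    carrier := {y | (∀ s ∈ (S : Subgroup G), y * s * y⁻¹ ∈ (S : Subgroup G)) ∧
      ∀ s ∈ (S : Subgroup G), y * s * y⁻¹ * s⁻¹ ∈ L}
    mul_mem' := fun {a b} ha hb => ⟨fun s hs => by
        rw [show a * b * s * (a * b)⁻¹ = a * (b * s * b⁻¹) * a⁻¹ by group]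
        exact ha.1 _ (hb.1 s hs), fun s hs => by
        rw [show a * b * s * (a * b)⁻¹ * s⁻¹ = a * (b * s * b⁻¹) * a⁻¹ * (b * s * b⁻¹)⁻¹ * (b * s * b⁻¹ * s⁻¹) by group]
        exact mul_mem (ha.2 _ (hb.1 s hs)) (hb.2 s hs)⟩
    one_mem' := ⟨fun s hs => by simpa using hs, fun s _ => by simp⟩
    inv_mem' := fun {a} ha => by
      have hinv : ∀ s ∈ (S : Subgroup G), a⁻¹ * s * a⁻¹⁻¹ ∈ (S : Subgroup G) := fun s hs =>
        (mem_normalizer_iff.1 (inv_mem (CfsgLib.Fusion.conjBy_eq_iff.1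
          (CfsgLib.Fusion.conjBy_eq_of_le (CfsgLib.Fusion.conjBy_le_iff.2 ha.1)))) s).1 hs
      refine ⟨hinv, fun s hs => ?_⟩
      have := inv_mem (ha.2 _ (hinv s hs))
      rwa [show (a * (a⁻¹ * s * a⁻¹⁻¹) * a⁻¹ * (a⁻¹ * s * a⁻¹⁻¹)⁻¹)⁻¹ = a⁻¹ * s * a⁻¹⁻¹ * s⁻¹ by group] at this }
  have hgΛ : g ∈ Λ := pow_mem (show g1 ∈ Λ from ⟨hg1S, hfix⟩) d
  -- the cosets of `U` inside one coset of `L` in `S`
  set P3 := zpowers g with hP3
  have hP3p : IsPGroup 3 ↥P3 := fun ⟨y, hy⟩ => ⟨(orderOf g1).factorization 3, by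
    obtain ⟨i, rfl⟩ := hy
    refine Subtype.ext ?_
    push_cast
    rw [← zpow_natCast, ← zpow_mul, mul_comm, zpow_mul, zpow_natCast, hgdef, ← pow_mul, hd, mul_comm,
      Nat.ordProj_mul_ordCompl_eq_self, pow_orderOf_eq_one, one_zpow]⟩
  haveI : Fact (Nat.Prime 3) := ⟨Nat.prime_three⟩
  set TS : Subgroup G := (S : Subgroup G) ⊓ L with hTS
  have hUTS : U ≤ TS := le_inf h.le hUL
  let X := {q : G ⧸ U // ∃ t ∈ TS, (QuotientGroup.mk (x0 * t) : G ⧸ U) = q}
  have hPΛ : P3 ≤ Λ := zpowers_le.2 hgΛ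
  have hact : ∀ σ ∈ P3, ∀ a b : G, (QuotientGroup.mk a : G ⧸ U) = QuotientGroup.mk b →
      (QuotientGroup.mk (σ * a * σ⁻¹) : G ⧸ U) = QuotientGroup.mk (σ * b * σ⁻¹) := by
    intro σ hσ a b e
    rw [QuotientGroup.eq] at e ⊢
    rw [show (σ * a * σ⁻¹)⁻¹ * (σ * b * σ⁻¹) = σ * (a⁻¹ * b) * σ⁻¹ by group]
    exact h.mem_of_conj e ((hPΛ hσ).1 _ (h.le e))
  letI act : MulAction ↥P3 X := {
    smul := fun σ q => ⟨Quotient.map' (fun a => (σ : G) * a * (σ : G)⁻¹)
      (fun a b e => QuotientGroup.leftRel_apply.2 (QuotientGroup.eq.1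
        (hact σ σ.2 a b (QuotientGroup.eq.2 (QuotientGroup.leftRel_apply.1 e))))) q.1, by
      obtain ⟨q, t, ht, rfl⟩ := q
      have htS : x0 * t ∈ (S : Subgroup G) := mul_mem hx0 ht.1
      refine ⟨x0⁻¹ * ((σ : G) * (x0 * t) * (σ : G)⁻¹),
        ⟨(S : Subgroup G).mul_mem ((S : Subgroup G).inv_mem hx0) ((hPΛ σ.2).1 _ htS), ?_⟩, ?_⟩
      · rw [show x0⁻¹ * ((σ : G) * (x0 * t) * (σ : G)⁻¹) = x0⁻¹ * ((σ : G) * x0 * (σ : G)⁻¹ * x0⁻¹) * x0 *
          ((σ : G) * t * (σ : G)⁻¹) by group]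
        refine mul_mem ?_ (hL.conj_mem t ht.2 _)
        have := hL.conj_mem _ ((hPΛ σ.2).2 x0 hx0) x0⁻¹
        rwa [inv_inv] at this
      · rw [mul_inv_cancel_left]; rfl⟩
    one_smul := fun q => by
      obtain ⟨q, t, ht, rfl⟩ := q
      exact Subtype.ext (congrArg QuotientGroup.mk (by simp : (1 : G) * (x0 * t) * (1 : G)⁻¹ = x0 * t))
    mul_smul := fun σ τ q => by
      obtain ⟨q, t, ht, rfl⟩ := q
      exact Subtype.ext (congrArg QuotientGroup.mk (by push_cast; group :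
        ((σ * τ : ↥P3) : G) * (x0 * t) * ((σ * τ : ↥P3) : G)⁻¹ =
          (σ : G) * ((τ : G) * (x0 * t) * (τ : G)⁻¹) * (σ : G)⁻¹)) }
  have hX3 : ¬ 3 ∣ Nat.card X := by
    let e : (↥TS ⧸ U.subgroupOf TS) → X := Quotient.lift (fun t : ↥TS => ⟨QuotientGroup.mk (x0 * t), t, t.2, rfl⟩)
      fun a b hab => by
        have hab' := mem_subgroupOf.1 (QuotientGroup.leftRel_apply.1 hab)
        refine Subtype.ext (QuotientGroup.eq.2 ?_)
        rw [show (x0 * (a : G))⁻¹ * (x0 * (b : G)) = (a : G)⁻¹ * b by group]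
        simpa using hab'
    have hbij : Function.Bijective e := by
      refine ⟨fun p q => ?_, fun ⟨q, t, ht, hq⟩ => ⟨QuotientGroup.mk ⟨t, ht⟩, Subtype.ext hq⟩⟩
      induction p using QuotientGroup.induction_on with
      | H a =>
        induction q using QuotientGroup.induction_on with
        | H b =>
          intro e'
          have e'' : (QuotientGroup.mk (x0 * (a : G)) : G ⧸ U) = QuotientGroup.mk (x0 * (b : G)) :=
            congrArg Subtype.val e'
          rw [QuotientGroup.eq, show (x0 * (a : G))⁻¹ * (x0 * (b : G)) = (a : G)⁻¹ * b by group] at e''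
          exact QuotientGroup.eq.2 (mem_subgroupOf.2 (by simpa using e''))
    rw [← Nat.card_congr (Equiv.ofBijective e hbij), ← index_eq_card]
    intro h3
    have h4 := (h3.trans (U.subgroupOf TS).index_dvd_card).trans (card_dvd_of_le (inf_le_left : TS ≤ (S : Subgroup G)))
    rw [h.cardS] at h4
    norm_num at h4
  obtain ⟨q, hq⟩ := hP3p.nonempty_fixed_point_of_prime_not_dvd_card X hX3
  obtain ⟨q, t, ht, rfl⟩ := q
  have hqS : x0 * t ∈ (S : Subgroup G) := mul_mem hx0 ht.1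
  have hqU : x0 * t ∉ U := fun e => hx0L (by
    have := mul_mem (hUL e) (inv_mem ht.2)
    rwa [mul_inv_cancel_right] at this)
  have hfx : (g * (x0 * t) * g⁻¹)⁻¹ * (x0 * t) ∈ U := by
    have e := congrArg Subtype.val (hq ⟨g, mem_zpowers g⟩)
    exact QuotientGroup.eq.1 e
  have hgS := (hgΛ : g ∈ Λ).1
  have e1 := h.sq_congr (hgS _ hqS) hfx
  have hgsq : g * (x0 * t * (x0 * t)) * g⁻¹ = x0 * t * (x0 * t) :=
    (show g * (x0 * t * (x0 * t)) * g⁻¹ = g * (x0 * t) * g⁻¹ * (g * (x0 * t) * g⁻¹) by group).trans e1.symm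
  exact hgu (by rw [h.centralizes_of_fix hgS (h.sq_mem _ hqS) (h.sq_ne_one hqS hqU) hgsq u hu, mul_inv_cancel_right])

/-- **S3176 from the core theorem.** -/
theorem psu_or_top (hcore : CoreTheorem.{u}) {F : Type*} [Field F] [Fintype F] (hF : Fintype.card F = 16)
    (P : Sylow 2 (Cfsg.PSU 3 F 4))
    (hS : Nonempty (↥(S : Subgroup G) ≃* ↥(P : Subgroup (Cfsg.PSU 3 F 4))))
    (hO : Cfsg.oddCore G = ⊥) (hO' : ∀ N : Subgroup G, N.Normal → Odd N.index → N = ⊤) :
    Nonempty (G ≃* Cfsg.PSU 3 F 4) ∨ (S : Subgroup G) = ⊤ := by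
  obtain ⟨e⟩ := hS
  have h := CfsgLib.TwoNilp.uFour_of_mulEquiv hF P S e
  by_cases hfix : ∀ m, (∀ s ∈ (S : Subgroup G), m * s * m⁻¹ ∈ (S : Subgroup G)) →
      ∀ v ∈ (center ↥(S : Subgroup G)).map (S : Subgroup G).subtype, m * v * m⁻¹ = v
  · exact Or.inr (sylow_eq_top_of_fixed h hO hO' hfix)
  · simp only [not_forall] at hfix
    obtain ⟨m, hm, v, hv, hmv⟩ := hfix
    haveI := isSimple_of_moved h hO hO' hm hv hmv
    exact Or.inl (psu_of_sylow hcore hF S P ⟨e⟩)

end CfsgLib.UFourFive
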