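import Cfsg.Agent.Lib.CIT.UFourFive.RowsLocal

/-!
# All elements of the Sylow subgroup outside the center are conjugate
-/

set_option autoImplicit false
set_option linter.style.haveILetI false

open Subgroup Finset
open scoped commutatorElement

namespace CfsgLib.UFourFive

open CfsgLib.TwoNilp

universe u

variable {G : Type u} [Group G] [Finite G] {S : Sylow 2 G} {U : Subgroup G} {f : G}

namespace FiveLocal

variable (h : FiveLocal S U f)
include h

/-- An element with a given non-trivial square in `U` is conjugate into the Sylow subgroup keeping the square. -/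
theorem exists_conj_mem {y : G} (hyo : ∃ k : ℕ, orderOf y = 2 ^ k) (hu : y * y ∈ U) (hu1 : y * y ≠ 1) :
    ∃ y' ∈ (S : Subgroup G), y' ∉ U ∧ y' * y' = y * y ∧ IsConj y y' := by
  haveI : Fact (Nat.Prime 2) := ⟨Nat.prime_two⟩
  set u := y * y with huy
  set C := centralizer ({u} : Set G) with hC
  have hSC : (S : Subgroup G) ≤ C := h.uFour.le_centralizer hu
  have hyC : y ∈ C := mem_centralizer_singleton_iff.2 (by rw [huy]; group)
  obtain ⟨k, hk⟩ := hyo
  have hp : IsPGroup 2 ↥(zpowers (⟨y, hyC⟩ : ↥C)) :=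
    IsPGroup.of_card (n := k) (by rw [Nat.card_zpowers, Subgroup.orderOf_mk, hk])
  obtain ⟨Q, hQ⟩ := hp.exists_le_sylow
  obtain ⟨c, hc⟩ := MulAction.exists_smul_eq ↥C Q (S.subtype hSC)
  have h1 : c * ⟨y, hyC⟩ * c⁻¹ ∈ ((S.subtype hSC : Sylow 2 ↥C) : Subgroup ↥C) := by
    rw [← hc, Sylow.coe_subgroup_smul, Subgroup.mem_smul_pointwise_iff_exists]
    exact ⟨_, hQ (mem_zpowers _), rfl⟩
  have hsq : (c : G) * y * (c : G)⁻¹ * ((c : G) * y * (c : G)⁻¹) = u := by
    rw [show (c : G) * y * (c : G)⁻¹ * ((c : G) * y * (c : G)⁻¹) = (c : G) * u * (c : G)⁻¹ by rw [huy]; group,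
      mem_centralizer_singleton_iff.1 c.2, mul_inv_cancel_right]
  refine ⟨(c : G) * y * (c : G)⁻¹, h1, fun hU => hu1 ?_, hsq, isConj_iff.2 ⟨c, rfl⟩⟩
  rw [← hsq]
  exact (h.uFour.mem_iff _ h1).1 hU

theorem orderOf_eq {x : G} (hx : x ∈ (S : Subgroup G)) : ∃ k : ℕ, orderOf x = 2 ^ k := by
  haveI : Fact (Nat.Prime 2) := ⟨Nat.prime_two⟩
  obtain ⟨k, hk⟩ := IsPGroup.iff_orderOf.1 S.isPGroup' ⟨x, hx⟩
  exact ⟨k, by rw [← hk, Subgroup.orderOf_mk]⟩

/-- An element with every non-trivial square. -/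
theorem exists_sq [IsSimpleGroup G] (hG : ¬ IsMulCommutative G) {u : G} (hu : u ∈ U) (hu1 : u ≠ 1) :
    ∃ x ∈ (S : Subgroup G), x ∉ U ∧ x * x = u := by
  obtain ⟨a, ha, haU⟩ := h.exists_not_mem
  obtain ⟨g, hg⟩ := isConj_iff.1
    (h.uFour.isConj_of_mem hG (h.uFour.sq_mem a ha) (h.uFour.sq_ne_one ha haU) hu hu1)
  have hsq : g * a * g⁻¹ * (g * a * g⁻¹) = u := by rw [← hg]; group
  obtain ⟨y, hy, hyU, hyy, -⟩ := h.exists_conj_mem (y := g * a * g⁻¹)
    (by obtain ⟨k, hk⟩ := h.orderOf_eq ha; exact ⟨k, by rw [show g * a * g⁻¹ = MulAut.conj g a from rfl,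
      MulEquiv.orderOf_eq, hk]⟩) (by rw [hsq]; exact hu) (by rw [hsq]; exact hu1)
  exact ⟨y, hy, hyU, hyy.trans hsq⟩

/-- Elements outside `U` with the same square are conjugate. -/
theorem isConj_of_sq [IsSimpleGroup G] (hG : ¬ IsMulCommutative G) {x x' : G} (hx : x ∈ (S : Subgroup G))
    (hxU : x ∉ U) (hx' : x' ∈ (S : Subgroup G)) (e : x' * x' = x * x) : IsConj x x' := by
  classical
  haveI : Fintype G := Fintype.ofFinite G
  haveI : Fintype (U : Subgroup G) := Fintype.ofFinite _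
  have hu := h.uFour.sq_mem x hx
  have hu1 := h.uFour.sq_ne_one hx hxU
  let Q : G → Finset G := fun u => univ.filter fun s => s ∈ (S : Subgroup G) ∧ s ∉ U ∧ s * s = u
  let orb : G → Finset G := fun w =>
    univ.image fun p : Fin 5 × (U : Subgroup G) => f ^ (p.1 : ℕ) * w * (f ^ (p.1 : ℕ))⁻¹ * p.2
  have horb : ∀ w, w ∈ (S : Subgroup G) → w ∉ U → (orb w).card = 20 ∧ orb w ⊆ Q (w * w) := by
    intro w hw hwU
    have hwu := h.uFour.sq_mem w hw
    have hwu1 := h.uFour.sq_ne_one hw hwU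
    refine ⟨?_, ?_⟩
    · rw [card_image_of_injective, card_univ, Fintype.card_prod, Fintype.card_fin,
        ← Nat.card_eq_fintype_card, h.uFour.cardU]
      have key : ∀ i j : Fin 5, ∀ a b : (U : Subgroup G), (i : ℕ) ≤ j →
          f ^ (i : ℕ) * w * (f ^ (i : ℕ))⁻¹ * a = f ^ (j : ℕ) * w * (f ^ (j : ℕ))⁻¹ * b → i = j := by
        intro i j a b hij e'
        by_contra hne
        have hd : ¬ 5 ∣ (j : ℕ) - i := by
          have := j.2
          have : (i : ℕ) ≠ j := fun e => hne (Fin.ext e)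
          omega
        have hsp : f ^ (j : ℕ) = f ^ (i : ℕ) * f ^ ((j : ℕ) - i) := by
          rw [← pow_add, Nat.add_sub_cancel' hij]
        set w' := f ^ ((j : ℕ) - i) * w * (f ^ ((j : ℕ) - i))⁻¹ with hw'
        rw [hsp, show f ^ (i : ℕ) * f ^ ((j : ℕ) - i) * w * (f ^ (i : ℕ) * f ^ ((j : ℕ) - i))⁻¹ =
          f ^ (i : ℕ) * w' * (f ^ (i : ℕ))⁻¹ by rw [hw']; group] at e'
        have hfix : ∀ v : (U : Subgroup G), f ^ (i : ℕ) * (v : G) * (f ^ (i : ℕ))⁻¹ = v :=
          fun v => h.fix_pow _ v.2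
        rw [← hfix a, ← hfix b] at e'
        have e2 : w * a = w' * b := by
          refine mul_left_cancel (a := f ^ (i : ℕ)) (mul_right_cancel (b := (f ^ (i : ℕ))⁻¹) ?_)
          rw [← mul_assoc, ← mul_assoc]
          calc f ^ (i : ℕ) * w * a * (f ^ (i : ℕ))⁻¹
              = f ^ (i : ℕ) * w * (f ^ (i : ℕ))⁻¹ * (f ^ (i : ℕ) * a * (f ^ (i : ℕ))⁻¹) := by group
            _ = f ^ (i : ℕ) * w' * (f ^ (i : ℕ))⁻¹ * (f ^ (i : ℕ) * b * (f ^ (i : ℕ))⁻¹) := e'
            _ = f ^ (i : ℕ) * w' * b * (f ^ (i : ℕ))⁻¹ := by group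
        refine h.moves hwu hwu1 hd hw hwU ?_
        rw [← hw', show w' * w⁻¹ = w * ((a : G) * (b : G)⁻¹) * w⁻¹ by
          rw [eq_mul_inv_of_mul_eq e2.symm]; group,
          h.uFour.central _ (mul_mem a.2 (inv_mem b.2)) w hw, mul_inv_cancel_right]
        exact mul_mem a.2 (inv_mem b.2)
      rintro ⟨i, a⟩ ⟨j, b⟩ e'
      have hij : i = j := by
        rcases le_total (i : ℕ) j with hle | hle
        · exact key i j a b hle e'
        · exact (key j i b a hle e'.symm).symm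
      subst hij
      exact Prod.ext rfl (Subtype.ext (mul_left_cancel e'))
    · intro s hs
      obtain ⟨⟨i, v⟩, -, rfl⟩ := mem_image.1 hs
      set w' := f ^ (i : ℕ) * w * (f ^ (i : ℕ))⁻¹ with hw'
      have hw'S : w' ∈ (S : Subgroup G) := h.norm_pow _ hw
      refine mem_filter.2 ⟨mem_univ _, mul_mem hw'S (h.uFour.le v.2), ?_, ?_⟩
      · intro hU
        have hw'U : w' ∈ U := by
          have := mul_mem hU (inv_mem v.2)
          rwa [mul_inv_cancel_right] at this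
        have h1 := h.fix_pow (i : ℕ) hwu
        rw [show f ^ (i : ℕ) * (w * w) * (f ^ (i : ℕ))⁻¹ = w' * w' by rw [hw']; group,
          (h.uFour.mem_iff _ hw'S).1 hw'U] at h1
        exact hwu1 h1.symm
      · show w' * v * (w' * v) = w * w
        calc w' * v * (w' * v) = w' * ((v : G) * w') * v := by group
          _ = w' * w' * ((v : G) * v) := by rw [← h.uFour.central v v.2 w' hw'S]; group
          _ = f ^ (i : ℕ) * (w * w) * (f ^ (i : ℕ))⁻¹ := by
            rw [(h.uFour.mem_iff _ (h.uFour.le v.2)).1 v.2, mul_one, hw']; group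
          _ = w * w := h.fix_pow _ hwu
  -- the three squares share sixty elements
  set Un := (univ.filter fun v : G => v ∈ U ∧ v ≠ 1) with hUn
  set T := univ.filter fun s : G => s ∈ (S : Subgroup G) ∧ s ∉ U with hT
  have hUn3 : Un.card = 3 := by
    have e : Un = (univ.filter fun v : G => v ∈ U).erase 1 := by
      ext v; simp [hUn, and_comm]
    rw [e, card_erase_of_mem (by simp), ← Fintype.card_subtype, ← Nat.card_eq_fintype_card,
      show Nat.card {v : G // v ∈ U} = Nat.card U from rfl, h.uFour.cardU]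
  have hTc : T.card = 60 := by
    have e : T = (univ.filter fun s : G => s ∈ (S : Subgroup G)) \ (univ.filter fun s : G => s ∈ U) := by
      ext s; simp [hT]
    rw [e, card_sdiff_of_subset (fun s hs => by
      simp only [mem_filter, mem_univ, true_and] at hs ⊢; exact h.uFour.le hs),
      ← Fintype.card_subtype, ← Fintype.card_subtype, ← Nat.card_eq_fintype_card,
      ← Nat.card_eq_fintype_card, show Nat.card {v : G // v ∈ U} = Nat.card U from rfl,
      show Nat.card {v : G // v ∈ (S : Subgroup G)} = Nat.card (S : Subgroup G) from rfl,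
      h.uFour.cardU, h.uFour.cardS]
  have hsum : ∑ u ∈ Un, (Q u).card = 60 := by
    rw [← hTc, card_eq_sum_card_fiberwise (f := fun s => s * s) (t := Un) (fun s hs => by
      simp only [hT, coe_filter, Set.mem_setOf_eq, mem_univ, true_and] at hs
      simp only [hUn, coe_filter, Set.mem_setOf_eq, mem_univ, true_and]
      exact ⟨h.uFour.sq_mem s hs.1, h.uFour.sq_ne_one hs.1 hs.2⟩)]
    refine Finset.sum_congr rfl fun u _ => congrArg card ?_
    ext s; simp [Q, hT, and_assoc]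
  have hge : ∀ u ∈ Un, 20 ≤ (Q u).card := by
    intro u huU
    obtain ⟨huU, hu1'⟩ := (mem_filter.1 huU).2
    obtain ⟨w, hw, hwU, rfl⟩ := h.exists_sq hG huU hu1'
    obtain ⟨hc, hs⟩ := horb w hw hwU
    exact hc ▸ card_le_card hs
  have hmem : x * x ∈ Un := mem_filter.2 ⟨mem_univ _, hu, hu1⟩
  have hQ20 : (Q (x * x)).card ≤ 20 := by
    have h2 := Finset.sum_le_sum (s := Un.erase (x * x)) (f := fun _ => 20)
      (g := fun u => (Q u).card) fun u hu' => hge u (mem_of_mem_erase hu')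
    rw [sum_const, card_erase_of_mem hmem, hUn3] at h2
    rw [← add_sum_erase _ _ hmem] at hsum
    simp at h2
    omega
  obtain ⟨hc, hs⟩ := horb x hx hxU
  have heq : orb x = Q (x * x) := eq_of_subset_of_card_le hs (hc ▸ hQ20)
  have hx'U : x' ∉ U := fun hU => hu1 (e ▸ (h.uFour.mem_iff _ hx').1 hU)
  have hx'o : x' ∈ orb x := heq ▸ mem_filter.2 ⟨mem_univ _, hx', hx'U, e⟩
  obtain ⟨⟨i, v⟩, -, rfl⟩ := mem_image.1 hx'o
  set w := f ^ (i : ℕ) * x * (f ^ (i : ℕ))⁻¹ with hw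
  have hwS : w ∈ (S : Subgroup G) := h.norm_pow _ hx
  have hwU : w ∉ U := fun hU => hx'U (mul_mem hU v.2)
  obtain ⟨s, hs', hsv⟩ := h.uFour.comm_surj w hwS hwU (v : G)⁻¹ (inv_mem v.2)
  refine (isConj_iff.2 ⟨f ^ (i : ℕ), rfl⟩ : IsConj x w).trans (isConj_iff.2 ⟨s, ?_⟩)
  have e3 : ⁅s, w⁆ = (v : G) := by rw [← commutatorElement_inv, hsv, inv_inv]
  show s * w * s⁻¹ = w * v
  rw [h.uFour.central v v.2 w hwS, ← e3, commutatorElement_def, inv_mul_cancel_right]

/-- All elements of `S` outside `U` are conjugate. -/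
theorem isConj_outside [IsSimpleGroup G] (hG : ¬ IsMulCommutative G) {x y : G} (hx : x ∈ (S : Subgroup G))
    (hxU : x ∉ U) (hy : y ∈ (S : Subgroup G)) (hyU : y ∉ U) : IsConj x y := by
  obtain ⟨g, hg⟩ := isConj_iff.1 (h.uFour.isConj_of_mem hG (h.uFour.sq_mem x hx)
    (h.uFour.sq_ne_one hx hxU) (h.uFour.sq_mem y hy) (h.uFour.sq_ne_one hy hyU))
  have hsq : g * x * g⁻¹ * (g * x * g⁻¹) = y * y := by rw [← hg]; group
  obtain ⟨z, hz, hzU, hzz, hzc⟩ := h.exists_conj_mem (y := g * x * g⁻¹)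
    (by obtain ⟨k, hk⟩ := h.orderOf_eq hx; exact ⟨k, by rw [show g * x * g⁻¹ = MulAut.conj g x from rfl,
      MulEquiv.orderOf_eq, hk]⟩) (hsq ▸ h.uFour.sq_mem y hy) (hsq ▸ h.uFour.sq_ne_one hy hyU)
  exact (isConj_iff.2 ⟨g, rfl⟩ : IsConj x (g * x * g⁻¹)).trans
    (hzc.trans (h.isConj_of_sq hG hz hzU hy (hsq ▸ hzz).symm))

end FiveLocal

end CfsgLib.UFourFive
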