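import Cfsg.Agent.Lib.Block.SubsectionCount
import Cfsg.Agent.Lib.Block.PrincipalCoreInflation
import Cfsg.Agent.Lib.Block.OneBlock
import Cfsg.Agent.Lib.Block.Orthogonality
import Cfsg.Agent.Lib.Invol.PrincipalBlock
import Cfsg.Agent.Lib.Coprime.Core

/-!
# Sections of the principal block over a centralizer whose quotient by the odd core has one block
-/

set_option autoImplicit false
set_option linter.unusedSectionVars false
set_option linter.style.haveILetI false

open Finset
open scoped ComplexConjugate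

namespace CfsgLib.UFourFive

open Cfsg CfsgLib.Char CfsgLib.Block CfsgLib.Block.Cyclic

universe u

theorem oddCore_normal (X : Type u) [Group X] : (Cfsg.oddCore X).Normal := by
  haveI := CfsgLib.Coprime.pPrimeCore_characteristic (G := X) 2
  infer_instance

attribute [local instance] oddCore_normal

/-- Every irreducible character of the quotient by the odd core lies in the principal block. -/
def CoreOne (M : Ideal AlgInt) [M.IsMaximal] (A : Type u) [Group A] : Prop :=
  ∀ θ : IrrCharacter (A ⧸ Cfsg.oddCore A), θ ∈ principalBlock M (A ⧸ Cfsg.oddCore A)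

variable {G : Type u} [Group G] [Fintype G] [DecidableEq G]
  {M : Ideal AlgInt} [M.IsMaximal] {C : Subgroup G} [Fintype C]

/-- A group whose quotient by the odd core has a self-centralizing normal two-subgroup. -/
theorem coreOne_of_selfCent (hM : IsPModular 2 M) {Q : Subgroup (C ⧸ Cfsg.oddCore C)} [Q.Normal]
    (hQ : IsPGroup 2 Q) (hc : Subgroup.centralizer (Q : Set (C ⧸ Cfsg.oddCore C)) ≤ Q) :
    CoreOne M C := by
  classical
  intro θ
  letI : Fintype (C ⧸ Cfsg.oddCore C) := Fintype.ofFinite _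
  exact OneBlock.mem_principal_of_constrained hM hQ hc θ

variable [Fintype (IrrCharacter C)] [Fintype (C ⧸ Cfsg.oddCore C)]
  [Fintype (IrrCharacter (C ⧸ Cfsg.oddCore C))]

open scoped Classical in
/-- The principal block of the centralizer consists of the inflated characters. -/
theorem sum_principal_quot (hM : IsPModular 2 M) (hone : CoreOne M C) (F : IrrCharacter C → ℂ) :
    ∑ η ∈ univ.filter (· ∈ principalBlock M C), F η =
      ∑ θ : IrrCharacter (C ⧸ Cfsg.oddCore C), F (inflQ θ) := by
  haveI : Fact (Nat.Prime 2) := ⟨Nat.prime_two⟩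
  letI : Fintype (Cfsg.oddCore C) := Fintype.ofFinite _
  have hN : ¬ 2 ∣ Nat.card (Cfsg.oddCore C) := CfsgLib.Coprime.pPrimeCore_not_dvd Nat.prime_two
  refine (Finset.sum_bij (fun θ _ => inflQ θ) (fun θ _ => ?_) (fun a _ b _ e => ?_) (fun η hη => ?_)
    fun θ _ => rfl).symm
  · exact mem_filter.2 ⟨mem_univ _, (PrincipalCore.inflQ_mem_iff hM hN θ).2 (hone θ)⟩
  · refine Subtype.ext (funext fun q => ?_)
    obtain ⟨c, rfl⟩ := QuotientGroup.mk_surjective q
    exact congrFun (congrArg Subtype.val e) c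
  · obtain ⟨θ, -, e⟩ := PrincipalCore.exists_inflQ_eq hM hN (mem_filter.1 hη).2
    exact ⟨θ, mem_univ _, e⟩

variable [Fintype (IrrCharacter G)]

open scoped Classical in
/-- The column products of two sections at one element. -/
theorem sum_principal_inner (hM : IsPModular 2 M) (hone : CoreOne M C) {x : G}
    (hx : ∃ k : ℕ, orderOf x = 2 ^ k) (hC : ∀ t : G, t ∈ C ↔ Commute t x) {y y' : C}
    (hy : ¬ 2 ∣ orderOf y) (hy' : ¬ 2 ∣ orderOf y') :
    ∑ χ ∈ univ.filter (· ∈ principalBlock M G),
        (χ : G → ℂ) (x * (y : G)) * conj ((χ : G → ℂ) (x * (y' : G))) =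
      if IsConj (y : C ⧸ Cfsg.oddCore C) (y' : C ⧸ Cfsg.oddCore C) then
        (Nat.card (Subgroup.centralizer ({(y : C ⧸ Cfsg.oddCore C)} : Set (C ⧸ Cfsg.oddCore C))) : ℂ)
      else 0 := by
  have h := sum_principal_secFun (M := M) hM hx hC hy hy'
  rw [finsum_mem_eq_toFinset_sum, finsum_mem_eq_toFinset_sum] at h
  have e1 : (principalBlock M G).toFinset = univ.filter (· ∈ principalBlock M G) := by ext; simp
  have e2 : (principalBlock M C).toFinset = univ.filter (· ∈ principalBlock M C) := by ext; simp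
  rw [e1, e2, sum_principal_quot hM hone] at h
  rw [h]
  exact sum_irr_mul_conj _ _

open scoped Classical in
/-- The sum of a character over a coset of the odd core in a section. -/
theorem sum_fibre (hM : IsPModular 2 M) (hone : CoreOne M C) {x : G}
    (hx : ∃ k : ℕ, orderOf x = 2 ^ k) (hC : ∀ t : G, t ∈ C ↔ Commute t x) (χ : IrrCharacter G) {y : C}
    (hy : ¬ 2 ∣ orderOf y) :
    ∑ t ∈ univ.filter (fun t : C => (t : C ⧸ Cfsg.oddCore C) = y), (χ : G → ℂ) (x * (t : G)) =
      (Nat.card (Cfsg.oddCore C) : ℂ) *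
        if χ ∈ principalBlock M G then (χ : G → ℂ) (x * (y : G)) else 0 := by
  set K := Cfsg.oddCore C with hK
  have hC' : ∀ t : C, Commute (t : G) x := fun t => (hC t).1 t.2
  set f : C → ℂ := secFun x C χ with hf
  have hfc : IsClassFunction C f := isClassFunction_secFun hC' χ
  set F : C ⧸ K → ℂ := fun q => ∑ t ∈ univ.filter (fun t : C => (t : C ⧸ K) = q), f t with hF
  have hFc : IsClassFunction (C ⧸ K) F := by
    intro q v
    obtain ⟨v, rfl⟩ := QuotientGroup.mk_surjective v
    refine Finset.sum_equiv (MulAut.conj v⁻¹).toEquiv (fun t => ?_) (fun t _ => ?_)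
    · simp only [mem_filter, mem_univ, true_and, MulEquiv.toEquiv_eq_coe, EquivLike.coe_coe,
        MulAut.conj_apply, QuotientGroup.mk_mul, QuotientGroup.mk_inv, inv_inv]
      constructor
      · intro e; rw [e]; group
      · intro e; rw [← e]; group
    · show f t = f (v⁻¹ * t * v⁻¹⁻¹)
      exact (hfc t v⁻¹).symm
  have hcard : (Nat.card C : ℂ) = Nat.card (C ⧸ K) * Nat.card K := by
    rw [← Nat.cast_mul, ← Subgroup.card_eq_card_quotient_mul_card_subgroup]
  have hin : ∀ θ : IrrCharacter (C ⧸ K), classInner F (θ : C ⧸ K → ℂ) =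
      (Nat.card K : ℂ) * classInner f (inflQ θ : C → ℂ) := by
    intro θ
    have e : ∑ q : C ⧸ K, F q * conj ((θ : C ⧸ K → ℂ) q) =
        ∑ t : C, f t * conj ((inflQ θ : C → ℂ) t) := by
      rw [← Finset.sum_fiberwise univ (fun t : C => (t : C ⧸ K))]
      refine Finset.sum_congr rfl fun q _ => ?_
      rw [hF, Finset.sum_mul]
      exact Finset.sum_congr rfl fun t ht => by rw [inflQ_apply, (mem_filter.1 ht).2]
    rw [classInner, classInner, e, hcard]
    have h1 : (Nat.card (C ⧸ K) : ℂ) ≠ 0 := Nat.cast_ne_zero.2 Nat.card_pos.ne'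
    have h2 : (Nat.card K : ℂ) ≠ 0 := Nat.cast_ne_zero.2 Nat.card_pos.ne'
    field_simp
  have hexp : F y = (Nat.card K : ℂ) * blockPart (principalBlock M C) f y := by
    rw [blockPart_eq, sum_principal_quot hM hone, Finset.mul_sum]
    conv_lhs => rw [classFun_expand hFc]
    rw [Finset.sum_apply]
    refine Finset.sum_congr rfl fun θ _ => ?_
    rw [Pi.smul_apply, smul_eq_mul, hin, inflQ_apply, mul_assoc]
  show F y = _
  rw [hexp]
  congr 1
  split_ifs with hχ
  · exact (CfsgLib.Invol.irr_secElt_eq_blockPart hM hx hC hχ hy).symm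
  · obtain ⟨B, hB⟩ := exists_induced_centralizer hM hx hC (isPBlock_principalBlock (M := M) (G := C))
    have hB0 : B = principalBlock M G := (isInducedBlock_principal_iff hM hB).mpr rfl
    subst hB0
    exact blockPart_secFun_eq_zero hM hx hC hB hχ hy

open scoped Classical in
/-- A sum over the principal block against a section, from the sums over the whole group. -/
theorem sum_principal_mul (hM : IsPModular 2 M) (hone : CoreOne M C) {x : G}
    (hx : ∃ k : ℕ, orderOf x = 2 ^ k) (hC : ∀ t : G, t ∈ C ↔ Commute t x) (F : IrrCharacter G → ℂ)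
    {y : C} (hy : ¬ 2 ∣ orderOf y) :
    (Nat.card (Cfsg.oddCore C) : ℂ) * ∑ χ ∈ univ.filter (· ∈ principalBlock M G),
        F χ * conj ((χ : G → ℂ) (x * (y : G))) =
      ∑ t ∈ univ.filter (fun t : C => (t : C ⧸ Cfsg.oddCore C) = y),
        ∑ χ : IrrCharacter G, F χ * conj ((χ : G → ℂ) (x * (t : G))) := by
  rw [Finset.sum_comm, Finset.sum_filter, Finset.mul_sum]
  refine Finset.sum_congr rfl fun χ _ => ?_
  rw [← Finset.mul_sum, ← map_sum, sum_fibre hM hone hx hC χ hy]
  split_ifs <;> simp <;> ring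

omit [Fintype C] [Fintype (IrrCharacter C)] [Fintype (C ⧸ Cfsg.oddCore C)]
  [Fintype (IrrCharacter (C ⧸ Cfsg.oddCore C))] in
open scoped Classical in
/-- Products of two conjugates counted through the characters. -/
theorem sum_sq_div (z g : G) :
    (Nat.card G : ℂ) * ∑ χ : IrrCharacter G,
        ((χ : G → ℂ) z ^ 2 / (χ : G → ℂ) 1) * conj ((χ : G → ℂ) g) =
      ((Nat.card (Subgroup.centralizer ({g} : Set G)) *
        (univ.filter fun k : G => IsConj (z * (k * z * k⁻¹)) g).card : ℕ) : ℂ) := by
  have h : ∀ k : G, ∑ χ : IrrCharacter G, (χ : G → ℂ) (z * (k * z * k⁻¹)) * conj ((χ : G → ℂ) g) =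
      if IsConj (z * (k * z * k⁻¹)) g then (Nat.card (Subgroup.centralizer ({g} : Set G)) : ℂ) else 0 := by
    intro k
    have e := congrArg conj (sum_irr_mul_conj g (z * (k * z * k⁻¹)))
    simp only [map_sum, map_mul, Complex.conj_conj, apply_ite conj, map_natCast, map_zero] at e
    rw [Finset.sum_congr rfl fun χ _ => mul_comm _ _, e]
    exact if_congr isConj_comm rfl rfl
  have e : ∑ k : G, (if IsConj (z * (k * z * k⁻¹)) g then
      (Nat.card (Subgroup.centralizer ({g} : Set G)) : ℂ) else 0) =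
      ((Nat.card (Subgroup.centralizer ({g} : Set G)) *
        (univ.filter fun k : G => IsConj (z * (k * z * k⁻¹)) g).card : ℕ) : ℂ) := by
    rw [← Finset.sum_filter, Finset.sum_const, nsmul_eq_mul, mul_comm, Nat.cast_mul]
  rw [← e, ← Finset.sum_congr rfl fun k _ => h k, Finset.sum_comm, Finset.mul_sum]
  refine Finset.sum_congr rfl fun χ _ => ?_
  rw [← Finset.sum_mul, sum_conj_char]
  ring

end CfsgLib.UFourFive
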