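import Cfsg.Agent.Lib.CIT.UFourFive.Defs
import Cfsg.Agent.Lib.CIT.UFourFive.RowsSection
import Cfsg.Agent.Lib.CIT.TwoNilp.UFour.Fusion
import Cfsg.Agent.Lib.CIT.TwoNilp.UFour.Signs
import Cfsg.Agent.Lib.Coprime.Core

/-!
# Local structure: the centralizers of the involutions and of the elements of order four
-/

set_option autoImplicit false
set_option linter.style.haveILetI false

open Subgroup
open scoped commutatorElement

namespace CfsgLib.UFourFive

open CfsgLib.TwoNilp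

universe u

attribute [local instance] oddCore_normal

variable {G : Type u} [Group G] [Finite G] {S : Sylow 2 G} {U : Subgroup G} {f : G}

theorem odd_card_oddCore (X : Type u) [Group X] [Finite X] : Odd (Nat.card (Cfsg.oddCore X)) :=
  Nat.coprime_two_right.1 (CfsgLib.Coprime.pPrimeCore_coprime Nat.prime_two)

/-- An element of a two-group with odd order is trivial. -/
theorem eq_one_of_odd {P : Subgroup G} (hP : IsPGroup 2 P) {x : G} (hx : x ∈ P) (ho : Odd (orderOf x)) :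
    x = 1 := by
  obtain ⟨k, hk⟩ := hP ⟨x, hx⟩
  have h1 : x ^ 2 ^ k = 1 := congrArg Subtype.val hk
  obtain ⟨l, -, hl⟩ := (Nat.dvd_prime_pow Nat.prime_two).1 (orderOf_dvd_of_pow_eq_one h1)
  rcases Nat.eq_zero_or_pos l with rfl | hl0
  · exact orderOf_eq_one_iff.1 (by rw [hl, pow_zero])
  · rw [hl, Nat.odd_pow_iff hl0.ne'] at ho
    exact absurd ho (by decide)

namespace FiveLocal

variable (h : FiveLocal S U f)
include h

/-- Conjugation by a power of `f` preserves `S`. -/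
theorem norm_pow (j : ℕ) {x : G} (hx : x ∈ (S : Subgroup G)) : f ^ j * x * (f ^ j)⁻¹ ∈ (S : Subgroup G) := by
  induction j generalizing x with
  | zero => simpa using hx
  | succ j ih =>
    rw [show f ^ (j + 1) * x * (f ^ (j + 1))⁻¹ = f ^ j * (f * x * f⁻¹) * (f ^ j)⁻¹ by rw [pow_succ]; group]
    exact ih (h.norm x hx)

theorem fix_pow (j : ℕ) {u : G} (hu : u ∈ U) : f ^ j * u * (f ^ j)⁻¹ = u := by
  rw [((show Commute f u from h.fix u hu).pow_left j).eq, mul_inv_cancel_right]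

variable {u : G}

theorem f_mem (hu : u ∈ U) : f ∈ centralizer ({u} : Set G) :=
  mem_centralizer_singleton_iff.2 (h.fix u hu)

/-- An element of `S` in the core of the centralizer is trivial. -/
theorem eq_one_of_mem_core {x : G} (hx : x ∈ (S : Subgroup G)) (hxK : x ∈ coreC u) : x = 1 := by
  obtain ⟨c, hc, rfl⟩ := mem_map.1 hxK
  refine eq_one_of_odd S.isPGroup' hx ?_
  show Odd (orderOf ((c : centralizer ({u} : Set G)) : G))
  rw [Subgroup.orderOf_coe, ← Subgroup.orderOf_mk c hc]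
  exact (odd_card_oddCore _).of_dvd_nat (orderOf_dvd_natCard _)

/-- The fifth power of `f` centralizes `S`. -/
theorem five_fix (hu : u ∈ U) (hu1 : u ≠ 1) {x : G} (hx : x ∈ (S : Subgroup G)) :
    f ^ 5 * x * (f ^ 5)⁻¹ = x := by
  obtain ⟨c, hc, hce⟩ := mem_map.1 (h.five u hu hu1)
  have hxC : x ∈ centralizer ({u} : Set G) := h.uFour.le_centralizer hu hx
  have hm : c * (⟨x, hxC⟩ * c⁻¹ * ⟨x, hxC⟩⁻¹) ∈ Cfsg.oddCore (centralizer ({u} : Set G)) :=
    mul_mem hc ((oddCore_normal _).conj_mem _ (inv_mem hc) _)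
  have := h.eq_one_of_mem_core (u := u) (x := f ^ 5 * x * (f ^ 5)⁻¹ * x⁻¹)
    (mul_mem (h.norm_pow 5 hx) (inv_mem hx)) (by
      refine mem_map.2 ⟨_, hm, ?_⟩
      simp only [Subgroup.coe_subtype, Subgroup.coe_mul, InvMemClass.coe_inv] at hce ⊢
      rw [hce]; group)
  exact mul_inv_eq_one.1 this

theorem five_mul_fix (hu : u ∈ U) (hu1 : u ≠ 1) (k : ℕ) {x : G} (hx : x ∈ (S : Subgroup G)) :
    f ^ (5 * k) * x * (f ^ (5 * k))⁻¹ = x := by
  induction k with
  | zero => simp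
  | succ k ih =>
    rw [show f ^ (5 * (k + 1)) * x * (f ^ (5 * (k + 1)))⁻¹ =
      f ^ (5 * k) * (f ^ 5 * x * (f ^ 5)⁻¹) * (f ^ (5 * k))⁻¹ by rw [mul_add, mul_one, pow_add]; group,
      h.five_fix hu hu1 hx, ih]

/-- A power of `f` prime to five moves every coset of `U`. -/
theorem moves (hu : u ∈ U) (hu1 : u ≠ 1) {j : ℕ} (hj : ¬ 5 ∣ j) {x : G} (hx : x ∈ (S : Subgroup G))
    (hxU : x ∉ U) : f ^ j * x * (f ^ j)⁻¹ * x⁻¹ ∉ U := by
  intro hm
  have iter : ∀ k : ℕ, f ^ (j * k) * x * (f ^ (j * k))⁻¹ * x⁻¹ ∈ U := by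
    intro k
    induction k with
    | zero => simp
    | succ k ih =>
      set w := f ^ (j * k) * x * (f ^ (j * k))⁻¹ * x⁻¹ with hw
      have e : f ^ (j * (k + 1)) * x * (f ^ (j * (k + 1)))⁻¹ * x⁻¹ =
          f ^ j * w * (f ^ j)⁻¹ * (f ^ j * x * (f ^ j)⁻¹ * x⁻¹) := by
        rw [hw, show j * (k + 1) = j + j * k by ring, pow_add]; group
      rw [e, h.fix_pow j ih]
      exact mul_mem ih hm
  obtain ⟨k, l, hkl⟩ : ∃ k l : ℕ, j * k = 5 * l + 1 := by
    have h5 : j % 5 = 1 ∨ j % 5 = 2 ∨ j % 5 = 3 ∨ j % 5 = 4 := by omega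
    rcases h5 with e | e | e | e
    · exact ⟨1, j / 5, by omega⟩
    · exact ⟨3, 3 * (j / 5) + 1, by omega⟩
    · exact ⟨2, 2 * (j / 5) + 1, by omega⟩
    · exact ⟨4, 4 * (j / 5) + 3, by omega⟩
  have h2 := iter k
  rw [hkl, show f ^ (5 * l + 1) * x * (f ^ (5 * l + 1))⁻¹ =
    f ^ (5 * l) * (f * x * f⁻¹) * (f ^ (5 * l))⁻¹ by rw [pow_succ]; group,
    h.five_mul_fix hu hu1 l (h.norm x hx)] at h2
  exact h.free x hx hxU h2

theorem exists_not_mem : ∃ x ∈ (S : Subgroup G), x ∉ U := by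
  obtain ⟨x, hx⟩ := CfsgLib.TwoNilp.exists_not_mem h.uFour
  exact ⟨x, x.2, hx⟩

end FiveLocal

/-- The quotient map of the centralizer by its odd core. -/
abbrev qC (u : G) : centralizer ({u} : Set G) →*
    centralizer ({u} : Set G) ⧸ Cfsg.oddCore (centralizer ({u} : Set G)) :=
  QuotientGroup.mk' (Cfsg.oddCore (centralizer ({u} : Set G)))

namespace FiveLocal

variable (h : FiveLocal S U f) {u : G}
include h

theorem qC_eq_of_mem {a b : centralizer ({u} : Set G)} (ha : (a : G) ∈ (S : Subgroup G))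
    (hb : (b : G) ∈ (S : Subgroup G)) (e : qC u a = qC u b) : a = b := by
  refine Subtype.ext ?_
  have h1 := h.eq_one_of_mem_core (u := u) (x := (a : G)⁻¹ * b) (mul_mem (inv_mem ha) hb)
    (mem_map.2 ⟨a⁻¹ * b, QuotientGroup.eq.1 e, rfl⟩)
  exact inv_mul_eq_one.1 h1

variable (hu : u ∈ U) (hu1 : u ≠ 1)

/-- `f` in the centralizer. -/
abbrev fC : centralizer ({u} : Set G) := ⟨f, h.f_mem hu⟩

/-- The image of the Sylow subgroup. -/
abbrev sBar (u : G) (S : Sylow 2 G) :
    Subgroup (centralizer ({u} : Set G) ⧸ Cfsg.oddCore (centralizer ({u} : Set G))) :=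
  ((S : Subgroup G).subgroupOf (centralizer ({u} : Set G))).map (qC u)

include hu hu1 in
theorem qC_five : qC u (h.fC hu) ^ 5 = 1 := by
  obtain ⟨c, hc, hce⟩ := mem_map.1 (h.five u hu hu1)
  rw [← map_pow, show (h.fC hu) ^ 5 = c from Subtype.ext (by simpa using hce.symm)]
  exact (QuotientGroup.eq_one_iff c).2 hc

theorem sBar_conj {q : centralizer ({u} : Set G) ⧸ Cfsg.oddCore (centralizer ({u} : Set G))}
    (hq : q ∈ sBar u S) : qC u (h.fC hu) * q * (qC u (h.fC hu))⁻¹ ∈ sBar u S := by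
  obtain ⟨s, hs, rfl⟩ := mem_map.1 hq
  refine mem_map.2 ⟨h.fC hu * s * (h.fC hu)⁻¹, ?_, by simp⟩
  rw [mem_subgroupOf] at hs ⊢
  simpa using h.norm _ hs

include hu hu1 in
theorem generated : sBar u S ⊔ zpowers (qC u (h.fC hu)) = ⊤ := by
  set C := centralizer ({u} : Set G) with hC
  have hle : (S : Subgroup G) ≤ C := h.uFour.le_centralizer hu
  have hK : coreC u ≤ C := map_subtype_le _
  have hfC : zpowers f ≤ C := zpowers_le.2 (h.f_mem hu)
  have htop : (coreC u ⊔ ((S : Subgroup G) ⊔ zpowers f)).subgroupOf C = ⊤ :=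
    subgroupOf_eq_top.2 (h.cent u hu hu1)
  rw [subgroupOf_sup hK (sup_le hle hfC), subgroupOf_sup hle hfC] at htop
  rw [eq_top_iff]
  intro q _
  obtain ⟨c, rfl⟩ := QuotientGroup.mk_surjective q
  have hc : qC u c ∈ ((coreC u).subgroupOf C ⊔
      ((S : Subgroup G).subgroupOf C ⊔ (zpowers f).subgroupOf C)).map (qC u) :=
    mem_map_of_mem _ (htop ▸ mem_top c)
  rw [Subgroup.map_sup, Subgroup.map_sup] at hc
  refine SetLike.le_def.1 (sup_le ?_ (sup_le le_sup_left ?_)) hc
  · rintro _ ⟨k, hk, rfl⟩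
    obtain ⟨k', hk', e⟩ := mem_map.1 (mem_subgroupOf.1 hk)
    rw [show qC u k = 1 from (QuotientGroup.eq_one_iff k).2 (Subtype.ext e.symm ▸ hk')]
    exact one_mem _
  · rintro _ ⟨k, hk, rfl⟩
    obtain ⟨i, hi⟩ := mem_zpowers_iff.1 (mem_subgroupOf.1 hk)
    refine mem_sup_right ⟨i, ?_⟩
    show qC u (h.fC hu) ^ i = _
    rw [← map_zpow]
    exact congrArg _ (Subtype.ext (by simpa using hi))

include hu hu1 in
theorem sBar_normal : (sBar u S).Normal := by
  rw [← normalizer_eq_top_iff, eq_top_iff, ← h.generated hu hu1]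
  refine sup_le le_normalizer (zpowers_le.2 ?_)
  exact CfsgLib.Fusion.conjBy_eq_iff.1 (CfsgLib.Fusion.conjBy_eq_of_le
    (CfsgLib.Fusion.conjBy_le_iff.2 fun x hx => h.sBar_conj hu hx))

include hu hu1 in
/-- Every element of the quotient is a product. -/
theorem exists_form (q : centralizer ({u} : Set G) ⧸ Cfsg.oddCore (centralizer ({u} : Set G))) :
    ∃ s : centralizer ({u} : Set G), (s : G) ∈ (S : Subgroup G) ∧ ∃ i : ℕ, i < 5 ∧
      q = qC u s * qC u (h.fC hu) ^ i := by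
  haveI := h.sBar_normal hu hu1
  obtain ⟨a, ha, b, hb, rfl⟩ := mem_sup_of_normal_left.1 (h.generated hu hu1 ▸ mem_top q)
  obtain ⟨s, hs, rfl⟩ := mem_map.1 ha
  obtain ⟨i, rfl⟩ := mem_zpowers_iff.1 hb
  refine ⟨s, mem_subgroupOf.1 hs, (i % 5).toNat, by omega, ?_⟩
  congr 1
  have h5 := h.qC_five hu hu1
  conv_lhs => rw [← Int.mul_ediv_add_emod i 5, zpow_add, zpow_mul, zpow_ofNat, h5, one_zpow, one_mul]
  rw [← zpow_natCast, Int.toNat_of_nonneg (by omega)]

include hu hu1 in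
/-- A power of `f` times an element of `S` centralizing an element outside `U` has exponent divisible by five. -/
theorem five_dvd_of_commute {s x : centralizer ({u} : Set G)} (hs : (s : G) ∈ (S : Subgroup G))
    (hx : (x : G) ∈ (S : Subgroup G)) (hxU : (x : G) ∉ U) {i : ℕ}
    (e : Commute (qC u s * qC u (h.fC hu) ^ i) (qC u x)) : 5 ∣ i := by
  by_contra hi
  set y : centralizer ({u} : Set G) := h.fC hu ^ i * x * (h.fC hu ^ i)⁻¹ with hy
  have hyv : (y : G) = f ^ i * x * (f ^ i)⁻¹ := by simp [hy]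
  have hyS : (y : G) ∈ (S : Subgroup G) := hyv ▸ h.norm_pow i hx
  have hq : qC u (s * y * s⁻¹) = qC u x := by
    rw [hy, map_mul, map_mul, map_mul, map_mul, map_inv, map_inv, map_pow]
    calc qC u s * (qC u (h.fC hu) ^ i * qC u x * (qC u (h.fC hu) ^ i)⁻¹) * (qC u s)⁻¹
        = qC u s * qC u (h.fC hu) ^ i * qC u x * (qC u s * qC u (h.fC hu) ^ i)⁻¹ := by group
      _ = qC u x := by rw [e.eq, mul_inv_cancel_right]
  have hsy := congrArg Subtype.val (h.qC_eq_of_mem (mul_mem (mul_mem hs hyS) (inv_mem hs)) hx hq)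
  refine h.moves hu hu1 hi hx hxU ?_
  rw [← hyv]
  push_cast at hsy
  have h2 := h.uFour.comm_mem (s : G) hs (y : G) hyS
  have : (y : G) * (x : G)⁻¹ = (y : G) * (⁅(s : G), (y : G)⁆ * y)⁻¹ := by
    rw [commutatorElement_def, inv_mul_cancel_right, hsy]
  rw [this, mul_inv_rev, mul_inv_cancel_left]
  exact inv_mem h2

include hu hu1 in
/-- The form is unique. -/
theorem form_unique {s t : centralizer ({u} : Set G)} (hs : (s : G) ∈ (S : Subgroup G))
    (ht : (t : G) ∈ (S : Subgroup G)) {i j : ℕ} (hi : i < 5) (hj : j < 5)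
    (e : qC u s * qC u (h.fC hu) ^ i = qC u t * qC u (h.fC hu) ^ j) : s = t ∧ i = j := by
  obtain ⟨x, hx, hxU⟩ := h.exists_not_mem
  have key : ∀ (s t : centralizer ({u} : Set G)), (s : G) ∈ (S : Subgroup G) → (t : G) ∈ (S : Subgroup G) →
      ∀ a b : ℕ, b ≤ a → a < 5 → qC u s * qC u (h.fC hu) ^ a = qC u t * qC u (h.fC hu) ^ b → a = b := by
    intro s t hs ht a b hba ha e
    have e' : qC u (h.fC hu) ^ (a - b) = qC u (s⁻¹ * t) := by
      rw [map_mul, map_inv]
      have h3 : qC u s * qC u (h.fC hu) ^ (a - b) = qC u t := by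
        refine mul_right_cancel (b := qC u (h.fC hu) ^ b) ?_
        rw [mul_assoc, ← pow_add, Nat.sub_add_cancel hba, e]
      rw [← h3, inv_mul_cancel_left]
    set w := s⁻¹ * t with hw
    have hwS : (w : G) ∈ (S : Subgroup G) := mul_mem (inv_mem hs) ht
    by_contra hne
    refine hne ?_
    have h5 : 5 ∣ a - b := by
      by_contra hd
      set xC : centralizer ({u} : Set G) := ⟨x, h.uFour.le_centralizer hu hx⟩
      set y : centralizer ({u} : Set G) := h.fC hu ^ (a - b) * xC * (h.fC hu ^ (a - b))⁻¹ with hy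
      have hyv : (y : G) = f ^ (a - b) * x * (f ^ (a - b))⁻¹ := by simp [hy, xC]
      have hq : qC u y = qC u (w * xC * w⁻¹) := by
        simp only [hy, map_mul, map_inv, map_pow, e']
      have hv := congrArg Subtype.val (h.qC_eq_of_mem (hyv ▸ h.norm_pow _ hx)
        (mul_mem (mul_mem hwS hx) (inv_mem hwS)) hq)
      refine h.moves hu hu1 hd hx hxU ?_
      rw [← hyv, hv]
      exact h.uFour.comm_mem _ hwS x hx
    omega
  have hij : i = j := by
    rcases le_total j i with h' | h'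
    · exact key s t hs ht i j h' hi e
    · exact (key t s ht hs j i h' hj e.symm).symm
  subst hij
  exact ⟨h.qC_eq_of_mem hs ht (mul_right_cancel e), rfl⟩

include hu hu1 in
/-- The quotient has order 320. -/
theorem card_quot :
    Nat.card (centralizer ({u} : Set G) ⧸ Cfsg.oddCore (centralizer ({u} : Set G))) = 320 := by
  have hle := h.uFour.le_centralizer hu
  rw [← Nat.card_eq_of_bijective (fun p : ↥(S : Subgroup G) × Fin 5 =>
    qC u ⟨p.1, hle p.1.2⟩ * qC u (h.fC hu) ^ (p.2 : ℕ)) ⟨?_, ?_⟩, Nat.card_prod, h.uFour.cardS,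
    Nat.card_fin]
  · rintro ⟨a, i⟩ ⟨b, j⟩ e
    obtain ⟨e1, e2⟩ := h.form_unique hu hu1 (s := ⟨a, hle a.2⟩) (t := ⟨b, hle b.2⟩) a.2 b.2 i.2 j.2 e
    exact Prod.ext (Subtype.ext (Subtype.mk.inj e1)) (Fin.ext e2)
  · intro q
    obtain ⟨s, hs, i, hi, rfl⟩ := h.exists_form hu hu1 q
    exact ⟨(⟨s, hs⟩, ⟨i, hi⟩), rfl⟩

include hu hu1 in
/-- An element squaring to one in the quotient lies over `U`. -/
theorem mem_of_sq {q : centralizer ({u} : Set G) ⧸ Cfsg.oddCore (centralizer ({u} : Set G))}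
    (hq : q * q = 1) : ∃ v : centralizer ({u} : Set G), (v : G) ∈ U ∧ q = qC u v := by
  obtain ⟨s, hs, i, hi, rfl⟩ := h.exists_form hu hu1 q
  set F := qC u (h.fC hu)
  set s' : centralizer ({u} : Set G) := h.fC hu ^ i * s * (h.fC hu ^ i)⁻¹ with hs'
  have hs'S : (s' : G) ∈ (S : Subgroup G) := by
    rw [show (s' : G) = f ^ i * s * (f ^ i)⁻¹ by simp [hs']]; exact h.norm_pow i hs
  have h1 : qC u (s * s') * F ^ ((2 * i) % 5) = qC u 1 * F ^ 0 := by
    rw [map_one, one_mul, pow_zero, ← hq, ← pow_eq_pow_mod (2 * i) (h.qC_five hu hu1), hs']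
    simp only [map_mul, map_inv, map_pow, F]
    rw [two_mul, pow_add]
    group
  obtain ⟨e1, e2⟩ := h.form_unique hu hu1 (s := s * s') (t := 1) (mul_mem hs hs'S) (one_mem _)
    (Nat.mod_lt _ (by norm_num)) (by norm_num) h1
  have hi0 : i = 0 := by omega
  subst hi0
  refine ⟨s, (h.uFour.mem_iff _ hs).2 ?_, by rw [pow_zero, mul_one]⟩
  have := congrArg Subtype.val e1
  simpa [hs'] using this

include hu hu1 in
theorem central_U {v : centralizer ({u} : Set G)} (hv : (v : G) ∈ U)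
    (q : centralizer ({u} : Set G) ⧸ Cfsg.oddCore (centralizer ({u} : Set G))) : Commute (qC u v) q := by
  obtain ⟨s, hs, i, -, rfl⟩ := h.exists_form hu hu1 q
  have h1 : Commute v s := Subtype.ext (h.uFour.central v hv s hs).symm
  have h2 : Commute v (h.fC hu) := Subtype.ext (h.fix v hv).symm
  exact (h1.map (qC u)).mul_right ((h2.map (qC u)).pow_right i)

include hu hu1 in
/-- The image of the Sylow subgroup is self-centralizing. -/
theorem sBar_selfCent : centralizer (sBar u S : Set _) ≤ sBar u S := by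
  intro q hq
  obtain ⟨s, hs, i, hi, rfl⟩ := h.exists_form hu hu1 q
  obtain ⟨x, hx, hxU⟩ := h.exists_not_mem
  have h5 : 5 ∣ i := h.five_dvd_of_commute hu hu1 hs (x := ⟨x, h.uFour.le_centralizer hu hx⟩) hx hxU
    ((mem_centralizer_iff.1 hq _ (mem_map_of_mem _ (mem_subgroupOf.2 hx))).symm)
  rw [show i = 0 by omega, pow_zero, mul_one]
  exact mem_map_of_mem _ (mem_subgroupOf.2 hs)

omit h in
theorem sBar_isPGroup : IsPGroup 2 (sBar u S) :=
  (S.isPGroup'.comap_of_injective (centralizer ({u} : Set G)).subtype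
    (centralizer ({u} : Set G)).subtype_injective).map (qC u)

include hu hu1 in
theorem conj_pow {i j : ℕ} (hi : i < 5) (hj : j < 5)
    (e : IsConj (qC u (h.fC hu) ^ i) (qC u (h.fC hu) ^ j)) : i = j := by
  obtain ⟨q, hq⟩ := isConj_iff.1 e
  obtain ⟨s, hs, l, -, rfl⟩ := h.exists_form hu hu1 q
  set F := qC u (h.fC hu)
  set s' : centralizer ({u} : Set G) := h.fC hu ^ i * s⁻¹ * (h.fC hu ^ i)⁻¹ with hs'
  have hs'S : (s' : G) ∈ (S : Subgroup G) := by
    rw [show (s' : G) = f ^ i * (s : G)⁻¹ * (f ^ i)⁻¹ by simp [hs']]; exact h.norm_pow i (inv_mem hs)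
  have h1 : qC u (s * s') * F ^ i = qC u 1 * F ^ j := by
    rw [map_one, one_mul, ← hq, hs']
    simp only [map_mul, map_inv, map_pow]
    calc qC u s * (F ^ i * (qC u s)⁻¹ * (F ^ i)⁻¹) * F ^ i = qC u s * F ^ i * (qC u s)⁻¹ := by group
      _ = qC u s * (F ^ l * F ^ i * (F ^ l)⁻¹) * (qC u s)⁻¹ := by
        rw [((Commute.refl F).pow_pow l i).eq, mul_inv_cancel_right]
      _ = qC u s * F ^ l * F ^ i * (qC u s * F ^ l)⁻¹ := by group
  exact (h.form_unique hu hu1 (s := s * s') (t := 1) (mul_mem hs hs'S) (one_mem _) hi hj h1).2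

include hu hu1 in
theorem card_cent {i : ℕ} (hi : ¬ 5 ∣ i) :
    Nat.card (centralizer ({qC u (h.fC hu) ^ i} :
      Set (centralizer ({u} : Set G) ⧸ Cfsg.oddCore (centralizer ({u} : Set G))))) = 20 := by
  have hle : U ≤ centralizer ({u} : Set G) := fun v hv => h.uFour.le_centralizer hu (h.uFour.le hv)
  have hmem : ∀ p : ↥U × Fin 5, qC u ⟨p.1, hle p.1.2⟩ * qC u (h.fC hu) ^ (p.2 : ℕ) ∈
      centralizer ({qC u (h.fC hu) ^ i} :
        Set (centralizer ({u} : Set G) ⧸ Cfsg.oddCore (centralizer ({u} : Set G)))) := fun p =>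
    mem_centralizer_singleton_iff.2
      ((h.central_U hu hu1 (v := ⟨p.1, hle p.1.2⟩) p.1.2 _).mul_left ((Commute.refl _).pow_pow _ i)).eq
  rw [← Nat.card_eq_of_bijective (fun p : ↥U × Fin 5 => (⟨_, hmem p⟩ :
    centralizer ({qC u (h.fC hu) ^ i} : Set _))) ⟨?_, ?_⟩, Nat.card_prod, h.uFour.cardU, Nat.card_fin]
  · rintro ⟨a, k⟩ ⟨b, l⟩ e
    obtain ⟨e1, e2⟩ := h.form_unique hu hu1 (s := ⟨a, hle a.2⟩) (t := ⟨b, hle b.2⟩) (h.uFour.le a.2)
      (h.uFour.le b.2) k.2 l.2 (congrArg Subtype.val e)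
    exact Prod.ext (Subtype.ext (Subtype.mk.inj e1)) (Fin.ext e2)
  · rintro ⟨q, hq⟩
    obtain ⟨s, hs, l, hl, rfl⟩ := h.exists_form hu hu1 q
    by_cases hsU : (s : G) ∈ U
    · exact ⟨(⟨s, hsU⟩, ⟨l, hl⟩), rfl⟩
    exfalso
    have hq' := mem_centralizer_singleton_iff.1 hq
    have hc : Commute (qC u 1 * qC u (h.fC hu) ^ i) (qC u s) := by
      rw [map_one, one_mul, commute_iff_eq]
      refine mul_right_cancel (b := qC u (h.fC hu) ^ l) ?_
      rw [mul_assoc, ← hq', mul_assoc, mul_assoc, ((Commute.refl _).pow_pow l i).eq]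
    exact hi (h.five_dvd_of_commute hu hu1 (s := 1) (one_mem _) hs hsU hc)

include hu hu1 in
theorem coreOne [Fintype G] [DecidableEq G] [Fintype (centralizer ({u} : Set G))] {M : Ideal Cfsg.AlgInt}
    [M.IsMaximal] (hM : Cfsg.IsPModular 2 M) : CoreOne M (centralizer ({u} : Set G)) := by
  haveI := h.sBar_normal hu hu1
  exact coreOne_of_selfCent hM (Q := sBar u S) sBar_isPGroup (h.sBar_selfCent hu hu1)

/-! ### The elements outside `U` -/

variable {x : G} (hx : x ∈ (S : Subgroup G)) (hxU : x ∉ U)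

omit h in
theorem sq_mem_cent {c : G} (hc : c ∈ centralizer ({x} : Set G)) : c ∈ centralizer ({x * x} : Set G) := by
  have e : Commute c x := mem_centralizer_singleton_iff.1 hc
  exact mem_centralizer_singleton_iff.2 (e.mul_right e).eq

include hx hxU in
/-- The odd elements of the centralizer of `x` lie in the core at `x * x`. -/
theorem odd_mem_core {c : G} (hc : c ∈ centralizer ({x} : Set G)) (ho : Odd (orderOf c)) :
    c ∈ coreC (x * x) := by
  set u := x * x with hxx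
  have hu : u ∈ U := h.uFour.sq_mem x hx
  have hu1 : u ≠ 1 := h.uFour.sq_ne_one hx hxU
  set cC : centralizer ({u} : Set G) := ⟨c, sq_mem_cent hc⟩
  set xC : centralizer ({u} : Set G) := ⟨x, h.uFour.le_centralizer hu hx⟩
  obtain ⟨s, hs, i, hi, e⟩ := h.exists_form hu hu1 (qC u cC)
  have hcx : Commute cC xC := Subtype.ext (mem_centralizer_singleton_iff.1 hc)
  have h5 : 5 ∣ i := h.five_dvd_of_commute hu hu1 hs (x := xC) hx hxU (e ▸ hcx.map (qC u))
  rw [show i = 0 by omega, pow_zero, mul_one] at e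
  have hq : qC u cC ∈ sBar u S := e ▸ mem_map_of_mem _ (mem_subgroupOf.2 hs)
  have hone : qC u cC = 1 := eq_one_of_odd sBar_isPGroup hq
    (ho.of_dvd_nat ((orderOf_map_dvd (qC u) cC).trans (by rw [← Subgroup.orderOf_coe])))
  exact mem_map.2 ⟨cC, (QuotientGroup.eq_one_iff cC).1 hone, rfl⟩

include hx hxU in
/-- The quotient of the centralizer of `x` by its odd core is a two-group of order sixteen. -/
theorem quot_x : IsPGroup 2 (centralizer ({x} : Set G) ⧸ Cfsg.oddCore (centralizer ({x} : Set G))) ∧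
    Nat.card (centralizer ({x} : Set G) ⧸ Cfsg.oddCore (centralizer ({x} : Set G))) = 16 := by
  haveI : Fact (Nat.Prime 2) := ⟨Nat.prime_two⟩
  set C := centralizer ({x} : Set G) with hC
  set N : Subgroup C := (coreC (x * x)).subgroupOf C with hN
  haveI : N.Normal := ⟨fun n hn g => by
    rw [hN, mem_subgroupOf] at hn ⊢
    obtain ⟨n', hn', e⟩ := mem_map.1 hn
    refine mem_map.2 ⟨⟨(g : G), sq_mem_cent g.2⟩ * n' * ⟨(g : G), sq_mem_cent g.2⟩⁻¹,
      (oddCore_normal _).conj_mem _ hn' _, ?_⟩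
    simp [← e]⟩
  have hodd : Odd (Nat.card N) := by
    refine (odd_card_oddCore (centralizer ({x * x} : Set G))).of_dvd_nat ?_
    rw [← card_map_of_injective C.subtype_injective (K := N),
      ← card_map_of_injective (centralizer ({x * x} : Set G)).subtype_injective
        (K := Cfsg.oddCore (centralizer ({x * x} : Set G))), hN, subgroupOf_map_subtype]
    exact card_dvd_of_le inf_le_left
  have hNK : N ≤ Cfsg.oddCore C :=
    CfsgLib.Coprime.le_pPrimeCore (Nat.coprime_two_right.2 hodd)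
  have hp : IsPGroup 2 (C ⧸ Cfsg.oddCore C) := by
    intro q
    obtain ⟨c, rfl⟩ := QuotientGroup.mk_surjective q
    obtain ⟨k, m, hm, hkm⟩ := Nat.exists_eq_two_pow_mul_odd (orderOf_pos c).ne'
    refine ⟨k, ?_⟩
    rw [← QuotientGroup.mk_pow, QuotientGroup.eq_one_iff]
    refine hNK (mem_subgroupOf.2 (h.odd_mem_core hx hxU (c ^ 2 ^ k).2 ?_))
    rw [Subgroup.orderOf_coe, orderOf_pow' _ (by positivity), hkm, Nat.gcd_eq_right (dvd_mul_right _ _),
      Nat.mul_div_cancel_left _ (by positivity)]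
    exact hm
  refine ⟨hp, ?_⟩
  obtain ⟨n, hn⟩ := hp.exists_card_eq
  have hc := card_eq_card_quotient_mul_card_subgroup (Cfsg.oddCore C)
  rw [hn] at hc
  have h16 := h.uFour.two_part_centralizer hx hxU
  rw [← hC, hc, Nat.factorization_mul (by positivity) Nat.card_pos.ne', Finsupp.coe_add, Pi.add_apply,
    Nat.Prime.factorization_pow Nat.prime_two, Finsupp.single_eq_same,
    Nat.factorization_eq_zero_of_not_dvd (fun hd => by
      have := (odd_card_oddCore C)
      exact (Nat.not_even_iff_odd.2 this) (even_iff_two_dvd.2 hd)), add_zero] at h16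
  rw [hn, h16]

include hx hxU in
theorem coreOne_x [Fintype G] [DecidableEq G] [Fintype (centralizer ({x} : Set G))] {M : Ideal Cfsg.AlgInt}
    [M.IsMaximal] (hM : Cfsg.IsPModular 2 M) : CoreOne M (centralizer ({x} : Set G)) :=
  coreOne_of_selfCent hM (Q := ⊤) ((h.quot_x hx hxU).1.to_subgroup _) le_top

end FiveLocal

end CfsgLib.UFourFive
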