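import Mathlib.Data.Nat.Notation
import Mathlib.Algebra.Order.Ring.Int
import Mathlib.Data.List.Basic

/-!
# The search behind the arithmetic of the rows

A row orbit gives a unit; a pattern is a multiset of units with the prescribed quadratic sums; the degrees
then range over residue classes modulo `64`, and interval arithmetic on ten equations excludes all of them.
-/

set_option autoImplicit false

namespace CfsgLib.UFourFive.Search

/-- An orbit of rows: length `L`, first coordinate `a`, sum `A` and squared norm `Q` of the other four,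
coordinate `b` and value `z`. -/
structure Row where
  L : ℤ
  a : ℤ
  A : ℤ
  b : ℤ
  z : ℤ
  Q : ℤ
deriving DecidableEq

/-- The seven quadratic sums. -/
structure Tot where
  aa : ℤ
  aA : ℤ
  ab : ℤ
  AA : ℤ
  Ab : ℤ
  bb : ℤ
  qq : ℤ
deriving DecidableEq

def Row.tot (u : Row) : Tot :=
  ⟨u.L * (u.a * u.a), u.L * (u.a * u.A), u.L * (u.a * u.b), u.L * (u.A * u.A), u.L * (u.A * u.b),
    u.L * (u.b * u.b), u.L * u.Q⟩

def Tot.sub (r s : Tot) : Tot :=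
  ⟨r.aa - s.aa, r.aA - s.aA, r.ab - s.ab, r.AA - s.AA, r.Ab - s.Ab, r.bb - s.bb, r.qq - s.qq⟩

def Tot.fits (r : Tot) : Bool :=
  decide (0 ≤ r.aa) && decide (0 ≤ r.AA) && decide (0 ≤ r.bb) && decide (0 ≤ r.qq) &&
    decide (r.aA * r.aA ≤ r.aa * r.AA) && decide (r.ab * r.ab ≤ r.aa * r.bb) &&
    decide (r.Ab * r.Ab ≤ r.AA * r.bb) && decide (r.AA ≤ 4 * r.qq)

def target : Tot := ⟨4, 4, 3, 32, 16, 15, 20⟩

/-- The rows up to sign: those with a positive value at the involution. -/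
def units : List Row := [
  ⟨1, -1, -4, -3, 5, 4⟩,
  ⟨1, -1, -4, -2, 10, 4⟩,
  ⟨1, -1, -4, -1, 15, 4⟩,
  ⟨1, -1, 0, 0, 4, 0⟩,
  ⟨1, -1, 0, 1, 9, 0⟩,
  ⟨1, -1, 0, 2, 14, 0⟩,
  ⟨1, -1, 4, 3, 3, 4⟩,
  ⟨1, 0, -4, -3, 1, 4⟩,
  ⟨1, 0, -4, -2, 6, 4⟩,
  ⟨1, 0, -4, -1, 11, 4⟩,
  ⟨1, 0, -4, 0, 16, 4⟩,
  ⟨1, 0, 0, 1, 5, 0⟩,
  ⟨1, 0, 0, 2, 10, 0⟩,
  ⟨1, 0, 0, 3, 15, 0⟩,
  ⟨1, 1, -4, -2, 2, 4⟩,
  ⟨1, 1, -4, -1, 7, 4⟩,
  ⟨1, 1, -4, 0, 12, 4⟩,
  ⟨1, 1, -4, 1, 17, 4⟩,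
  ⟨1, 1, 0, 1, 1, 0⟩,
  ⟨1, 1, 0, 2, 6, 0⟩,
  ⟨1, 1, 0, 3, 11, 0⟩,
  ⟨2, -1, -4, -2, 10, 8⟩,
  ⟨2, -1, -2, -2, 2, 2⟩,
  ⟨2, -1, -2, -2, 2, 10⟩,
  ⟨2, -1, -2, -1, 7, 2⟩,
  ⟨2, -1, -2, -1, 7, 10⟩,
  ⟨2, -1, -2, 0, 12, 2⟩,
  ⟨2, -1, -2, 0, 12, 10⟩,
  ⟨2, -1, 0, 0, 4, 4⟩,
  ⟨2, -1, 0, 1, 9, 4⟩,
  ⟨2, -1, 2, 1, 1, 2⟩,
  ⟨2, -1, 2, 1, 1, 10⟩,
  ⟨2, -1, 2, 2, 6, 2⟩,
  ⟨2, -1, 2, 2, 6, 10⟩,
  ⟨2, 0, -4, -2, 6, 8⟩,
  ⟨2, 0, -4, -1, 11, 8⟩,
  ⟨2, 0, -2, -1, 3, 2⟩,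
  ⟨2, 0, -2, -1, 3, 10⟩,
  ⟨2, 0, -2, 0, 8, 2⟩,
  ⟨2, 0, -2, 0, 8, 10⟩,
  ⟨2, 0, 0, 1, 5, 4⟩,
  ⟨2, 0, 0, 2, 10, 4⟩,
  ⟨2, 0, 2, 2, 2, 2⟩,
  ⟨2, 0, 2, 2, 2, 10⟩,
  ⟨2, 1, -4, -2, 2, 8⟩,
  ⟨2, 1, -4, -1, 7, 8⟩,
  ⟨2, 1, -4, 0, 12, 8⟩,
  ⟨2, 1, -2, 0, 4, 2⟩,
  ⟨2, 1, -2, 0, 4, 10⟩,
  ⟨2, 1, -2, 1, 9, 2⟩,
  ⟨2, 1, -2, 1, 9, 10⟩,
  ⟨2, 1, 0, 1, 1, 4⟩,
  ⟨2, 1, 0, 2, 6, 4⟩,
  ⟨4, -1, -2, -1, 7, 2⟩,
  ⟨4, -1, -2, -1, 7, 4⟩,
  ⟨4, -1, -1, -1, 3, 1⟩,
  ⟨4, -1, -1, -1, 3, 3⟩,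
  ⟨4, -1, -1, -1, 3, 5⟩,
  ⟨4, -1, -1, 0, 8, 1⟩,
  ⟨4, -1, -1, 0, 8, 3⟩,
  ⟨4, -1, -1, 0, 8, 5⟩,
  ⟨4, -1, 0, 0, 4, 2⟩,
  ⟨4, -1, 0, 0, 4, 4⟩,
  ⟨4, -1, 1, 1, 5, 1⟩,
  ⟨4, -1, 1, 1, 5, 3⟩,
  ⟨4, -1, 1, 1, 5, 5⟩,
  ⟨4, -1, 2, 1, 1, 2⟩,
  ⟨4, -1, 2, 1, 1, 4⟩,
  ⟨4, 0, -2, -1, 3, 2⟩,
  ⟨4, 0, -2, -1, 3, 4⟩,
  ⟨4, 0, -2, 0, 8, 2⟩,
  ⟨4, 0, -2, 0, 8, 4⟩,
  ⟨4, 0, -1, 0, 4, 1⟩,
  ⟨4, 0, -1, 0, 4, 3⟩,
  ⟨4, 0, -1, 0, 4, 5⟩,
  ⟨4, 0, 0, 1, 5, 2⟩,
  ⟨4, 0, 0, 1, 5, 4⟩,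
  ⟨4, 0, 1, 1, 1, 1⟩,
  ⟨4, 0, 1, 1, 1, 3⟩,
  ⟨4, 0, 1, 1, 1, 5⟩,
  ⟨4, 1, -2, 0, 4, 2⟩,
  ⟨4, 1, -2, 0, 4, 4⟩,
  ⟨4, 1, -1, 1, 5, 1⟩,
  ⟨4, 1, -1, 1, 5, 3⟩,
  ⟨4, 1, -1, 1, 5, 5⟩,
  ⟨4, 1, 0, 1, 1, 2⟩,
  ⟨4, 1, 0, 1, 1, 4⟩]

/-- Fill the coordinate `col` of the residual with units from `us`. -/
def fill (col : Tot → ℤ) : ℕ → List Row → Tot → List Row → List (Tot × List Row)
  | 0, _, r, acc => [(r, acc)]
  | fuel + 1, us, r, acc =>
    if col r = 0 then [(r, acc)] else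
      match us with
      | [] => []
      | u :: us' =>
        (if (r.sub u.tot).fits then fill col fuel (u :: us') (r.sub u.tot) (u :: acc) else []) ++
          fill col fuel us' r acc

def phase (col : Tot → ℤ) (st : List (Tot × List Row)) : List (Tot × List Row) :=
  st.flatMap fun p => fill col 200 (units.filter fun u => decide (col u.tot ≠ 0)) p.1 p.2

/-- All multisets of units with the prescribed sums. -/
def patterns : List (List Row) :=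
  ((phase Tot.qq (phase Tot.AA (phase Tot.bb (phase Tot.aa [(target, [])])))).filter
    fun p => decide (p.1 = ⟨0, 0, 0, 0, 0, 0, 0⟩)).map Prod.snd

/-- Equal adjacent units. -/
def group : List Row → List (Row × ℕ)
  | [] => []
  | u :: l =>
    match group l with
    | [] => [(u, 1)]
    | (v, m) :: g => if u = v then (v, m + 1) :: g else (u, 1) :: (v, m) :: g

def Row.neg (u : Row) : Row := ⟨u.L, -u.a, -u.A, -u.b, -u.z, u.Q⟩

/-- The degree and the value at the involution have the same even part, up to `2 ^ 5`. -/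
def evenPart (x z : ℤ) : Bool :=
  (decide (x % 2 = 0) == decide (z % 2 = 0)) && (decide (x % 4 = 0) == decide (z % 4 = 0)) &&
    (decide (x % 8 = 0) == decide (z % 8 = 0)) && (decide (x % 16 = 0) == decide (z % 16 = 0)) &&
    (decide (x % 32 = 0) == decide (z % 32 = 0))

def admB (x z b : ℤ) : Bool :=
  (List.range (((x - z) / 16).toNat + 1)).any fun m =>
    decide (16 * (m : ℤ) < x - z) && decide (0 ≤ 4 * (m : ℤ) + z) &&
      decide (4 * (4 * (m : ℤ) + z) ≤ x + 3 * z) &&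
      decide (64 * ((4 * (m : ℤ) + z) % 5) ≤ x + 3 * z + 60 * b)

def okX (x z b : ℤ) : Bool := decide (0 < x) && decide (-x ≤ z) && decide (z ≤ x) && admB x z b

/-- The residue of the degree. -/
def res (u : Row) : ℤ := (4 * u.b - 3 * u.z) % 64

/-- The smallest possible degree, if there is one. -/
def base (u : Row) : Option ℤ :=
  if evenPart (res u) u.z then
    match (List.range 8).find? fun k : ℕ => okX (res u + 64 * (k : ℤ)) u.z u.b with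
    | some k => some (res u + 64 * (k : ℤ))
    | none => some (res u + 512)
  else none

/-- A row with its range of degrees `x + 64 k`, `lo ≤ k ≤ hi`. -/
structure Var where
  row : Row
  x : ℤ
  lo : ℕ
  hi : Option ℕ

def Var.ofRow (u : Row) : List Var :=
  match base u with
  | some x => [⟨u, x, 0, none⟩]
  | none => []

/-- An equation or inequality `p * a + q * A + r * b` weighted by the degree, or by `z ^ 2 / x`. -/
inductive Kind
  | lin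
  | quad
  | neg
deriving DecidableEq

structure Eqn where
  kind : Kind
  p : ℤ
  q : ℤ
  r : ℤ

def eqns : List Eqn :=
  [⟨.lin, 1, 0, 0⟩, ⟨.lin, 0, 1, 0⟩, ⟨.lin, 0, 0, 1⟩, ⟨.quad, 0, 0, 1⟩, ⟨.neg, 1, 0, 0⟩,
    ⟨.quad, 4, -1, 0⟩, ⟨.lin, 0, 1, -1⟩, ⟨.lin, 1, 0, -1⟩, ⟨.quad, 4, -1, 1⟩, ⟨.quad, 4, -1, -1⟩]

/-- The scale of the reciprocals. -/
def scale : ℤ := 4294967296

def Eqn.coef (e : Eqn) (u : Row) : ℤ := u.L * (e.p * u.a + e.q * u.A + e.r * u.b)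

def Eqn.start (e : Eqn) : ℤ :=
  match e.kind with
  | .lin => e.p + e.r
  | _ => (e.p + e.r) * scale

/-- A lower bound for the contribution. -/
def lowerV (e : Eqn) (v : Var) : Option ℤ :=
  let c := e.coef v.row
  if c = 0 then some 0 else
  match e.kind with
  | .lin =>
    if 0 < c then some (c * (v.x + 64 * (v.lo : ℤ)))
    else v.hi.map fun h : ℕ => c * (v.x + 64 * (h : ℤ))
  | _ =>
    let n := c * (v.row.z * v.row.z) * scale
    if 0 < c then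
      match v.hi with
      | some h => some (n / (v.x + 64 * (h : ℤ)))
      | none => some 0
    else some (n / (v.x + 64 * (v.lo : ℤ)))

/-- An upper bound for the contribution. -/
def upperV (e : Eqn) (v : Var) : Option ℤ :=
  (lowerV ⟨e.kind, -e.p, -e.q, -e.r⟩ v).map Neg.neg

def addO : Option ℤ → Option ℤ → Option ℤ
  | some a, some b => some (a + b)
  | _, _ => none

def minO : Option ℤ → Option ℤ → Option ℤ
  | some a, some b => some (min a b)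
  | _, _ => none

def maxO : Option ℤ → Option ℤ → Option ℤ
  | some a, some b => some (max a b)
  | _, _ => none

/-- Open groups: the possible variants of a unit and its multiplicity. -/
abbrev Grp := List Var × ℕ

def lowerG (e : Eqn) : Grp → Option ℤ
  | ([], _) => some 0
  | ([v], m) => (lowerV e v).map ((m : ℤ) * ·)
  | (v :: w :: _, m) => (minO (lowerV e v) (lowerV e w)).map ((m : ℤ) * ·)

def upperG (e : Eqn) : Grp → Option ℤ
  | ([], _) => some 0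
  | ([v], m) => (upperV e v).map ((m : ℤ) * ·)
  | (v :: w :: _, m) => (maxO (upperV e v) (upperV e w)).map ((m : ℤ) * ·)

def lowerS (e : Eqn) (fx : List Var) (gs : List Grp) : Option ℤ :=
  gs.foldr (fun g t => addO (lowerG e g) t) (fx.foldr (fun v t => addO (lowerV e v) t) (some e.start))

def upperS (e : Eqn) (fx : List Var) (gs : List Grp) : Option ℤ :=
  gs.foldr (fun g t => addO (upperG e g) t) (fx.foldr (fun v t => addO (upperV e v) t) (some e.start))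

def deadEqn (e : Eqn) (fx : List Var) (gs : List Grp) : Bool :=
  match e.kind with
  | .neg =>
    match lowerS e fx gs with
    | some l => decide (0 ≤ l)
    | none => false
  | _ =>
    (match lowerS e fx gs with
    | some l => decide (0 < l)
    | none => false) ||
    (match upperS e fx gs with
    | some u => decide (u < 0)
    | none => false)

def dead (fx : List Var) (gs : List Grp) : Bool := eqns.any fun e => deadEqn e fx gs

def widthE (e : Eqn) (v : Var) : ℤ := (upperV e v).getD 0 - (lowerV e v).getD 0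

def width (v : Var) : ℤ :=
  match v.hi with
  | some h => if h ≤ v.lo then -1 else
    max (widthE ⟨.quad, 0, 0, 1⟩ v) (max (widthE ⟨.quad, 1, 0, 0⟩ v) (widthE ⟨.quad, 4, -1, 0⟩ v))
  | none => max (widthE ⟨.quad, 0, 0, 1⟩ v) (max (widthE ⟨.quad, 1, 0, 0⟩ v) (widthE ⟨.quad, 4, -1, 0⟩ v))

/-- The position of a variable of largest width, with that width. -/
def pick : List Var → ℕ × ℤ
  | [] => (0, -2)
  | v :: l =>
    let r := pick l
    if r.2 ≤ width v then (0, width v) else (r.1 + 1, r.2)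

def midpoint (v : Var) : ℕ :=
  match v.hi with
  | some h => (v.lo + h) / 2
  | none => if v.lo = 0 then 0 else 2 * v.lo

/-- Certify that there is no solution in the given ranges. -/
def kills : ℕ → List Var → List Grp → Bool
  | 0, _, _ => false
  | fuel + 1, fx, gs =>
    dead fx gs ||
      match gs with
      | ([], m) :: _ => decide (0 < m)
      | ([v], m) :: rest => kills fuel (List.replicate m v ++ fx) rest
      | ([v, w], m) :: rest =>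
        (List.range (m + 1)).all fun j => kills fuel (List.replicate j v ++ List.replicate (m - j) w ++ fx) rest
      | _ :: _ => false
      | [] =>
        let i := (pick fx).1
        match fx[i]? with
        | none => false
        | some v =>
          match v.hi with
          | some h =>
            if h ≤ v.lo then false else
              kills fuel (fx.set i ⟨v.row, v.x, v.lo, some (midpoint v)⟩) [] &&
                kills fuel (fx.set i ⟨v.row, v.x, midpoint v + 1, some h⟩) []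
          | none =>
            kills fuel (fx.set i ⟨v.row, v.x, v.lo, some (midpoint v)⟩) [] &&
              kills fuel (fx.set i ⟨v.row, v.x, midpoint v + 1, none⟩) []

def groupsOf (p : List Row) : List Grp :=
  (group p).map fun g => (Var.ofRow g.1 ++ Var.ofRow g.1.neg, g.2)

def checkPattern (p : List Row) : Bool := kills 400 [] (groupsOf p)

end CfsgLib.UFourFive.Search
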