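import Cfsg.Agent.Lib.CIT.UFourFive.Identify

/-!
# Simple groups with Sylow two-subgroups of the type of `PSU(3, 4)`

`CoreTheorem` is the statement of the core theorem on `FiveLocal`; the consumers take it as a hypothesis.
-/

set_option autoImplicit false

open Subgroup

namespace CfsgLib.UFourFive

open CfsgLib.TwoNilp (UFour)

universe u

/-- The statement of the core theorem. -/
def CoreTheorem : Prop :=
  ∀ {G : Type u} [Group G] [Finite G] [IsSimpleGroup G], ¬ IsMulCommutative G →
    ∀ {S : Sylow 2 G} {U : Subgroup G} {f : G}, FiveLocal S U f →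
      ∀ u ∈ U, u ≠ 1 → centralizer ({u} : Set G) ≤ centralizer (U : Set G)

/-- A simple group with a Sylow subgroup of type `PSU(3, 4)` is `PSU(3, 4)`. -/
theorem psu_of_sylow (hcore : CoreTheorem.{u}) {G : Type u} [Group G] [Finite G] [IsSimpleGroup G]
    {F : Type*} [Field F] [Fintype F] (hF : Fintype.card F = 16) (S : Sylow 2 G)
    (P : Sylow 2 (Cfsg.PSU 3 F 4))
    (hS : Nonempty (↥(S : Subgroup G) ≃* ↥(P : Subgroup (Cfsg.PSU 3 F 4)))) :
    Nonempty (G ≃* Cfsg.PSU 3 F 4) := by
  obtain ⟨e⟩ := hS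
  have h := CfsgLib.TwoNilp.uFour_of_mulEquiv hF P S e
  obtain ⟨f, hf⟩ := CfsgLib.TwoNilp.exists_fiveLocal (ne_comm_of_uFour h).1 h
  exact psu_of_centralizer_le hF h fun u hu hu1 => hcore (ne_comm_of_uFour h).1 hf u hu hu1

end CfsgLib.UFourFive
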