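import Cfsg.Agent.Lib.CIT.UFourFive.Search
import Mathlib

/-!
# Soundness of the search
-/

set_option autoImplicit false

namespace CfsgLib.UFourFive.Search

/-- A row with its degree. -/
abbrev Item := Row × ℤ

/-- The contribution of an item to an equation, scaled as in the interval arithmetic. -/
def term (e : Eqn) (it : Item) : ℚ :=
  match e.kind with
  | .lin => (e.coef it.1 : ℚ) * (it.2 : ℚ)
  | _ => (scale : ℚ) * ((e.coef it.1 : ℚ) * (it.1.z : ℚ) ^ 2 / (it.2 : ℚ))

def total (e : Eqn) (l : List Item) : ℚ := (e.start : ℚ) + (l.map (term e)).sum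

/-- The equations hold. -/
def Cons (l : List Item) : Prop :=
  ∀ e ∈ eqns, if e.kind = .neg then total e l < 0 else total e l = 0

def Var.Mem (v : Var) (it : Item) : Prop :=
  it.1 = v.row ∧ 0 < v.x ∧ ∃ k : ℕ, v.lo ≤ k ∧ (∀ h, v.hi = some h → k ≤ h) ∧ it.2 = v.x + 64 * (k : ℤ)

def GFits : List Grp → List Item → Prop
  | [], l => l = []
  | (alts, m) :: rest, l => ∃ a b, l = a ++ b ∧ a.length = m ∧
      (∀ it ∈ a, ∃ v ∈ alts, Var.Mem v it) ∧ GFits rest b

def Fits (fx : List Var) (gs : List Grp) (l : List Item) : Prop :=
  ∃ l1 l2, l.Perm (l1 ++ l2) ∧ List.Forall₂ Var.Mem fx l1 ∧ GFits gs l2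

theorem term_eq_div (e : Eqn) (hk : e.kind ≠ .lin) (it : Item) :
    term e it = ((e.coef it.1 * (it.1.z * it.1.z) * scale : ℤ) : ℚ) / (it.2 : ℚ) := by
  unfold term
  split
  · exact absurd ‹_› hk
  · push_cast; ring

theorem ediv_cast_le (n : ℤ) {x : ℤ} (hx : 0 < x) : ((n / x : ℤ) : ℚ) ≤ (n : ℚ) / (x : ℚ) := by
  rw [le_div_iff₀ (by exact_mod_cast hx)]
  exact_mod_cast Int.ediv_mul_le n hx.ne'

theorem lowerV_le {e : Eqn} {v : Var} {it : Item} (hm : v.Mem it) {w : ℤ} (h : lowerV e v = some w) :
    (w : ℚ) ≤ term e it := by
  obtain ⟨hr, hx, k, hlo, hhi, hit⟩ := hm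
  have hlo' : (v.lo : ℤ) ≤ (k : ℤ) := by exact_mod_cast hlo
  have hhi' : ∀ h', v.hi = some h' → (k : ℤ) ≤ (h' : ℤ) := fun h' e' => by exact_mod_cast hhi h' e'
  unfold lowerV at h
  simp only at h
  by_cases hc : e.coef v.row = 0
  · rw [if_pos hc, Option.some.injEq] at h
    subst h
    unfold term
    rw [hr, hc]
    split <;> simp
  rw [if_neg hc] at h
  have hpos : 0 < it.2 := by rw [hit]; omega
  rcases hk : e.kind with _ | _ | _
  all_goals rw [hk] at h
  · -- linear
    simp only at h
    have ht : term e it = ((e.coef v.row * it.2 : ℤ) : ℚ) := by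
      unfold term; rw [hk]; simp only; rw [hr]; push_cast; ring
    rw [ht]
    by_cases hp : 0 < e.coef v.row
    · rw [if_pos hp, Option.some.injEq] at h
      subst h
      exact_mod_cast mul_le_mul_of_nonneg_left (by rw [hit]; omega) hp.le
    · rw [if_neg hp, Option.map_eq_some_iff] at h
      obtain ⟨h', hh', rfl⟩ := h
      have := hhi' h' hh'
      exact_mod_cast mul_le_mul_of_nonpos_left (by rw [hit]; omega) (not_lt.1 hp)
  all_goals
    simp only at h
    rw [term_eq_div e (by rw [hk]; decide) it, hr]
    set n := e.coef v.row * (v.row.z * v.row.z) * scale with hn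
    have hsc : (0 : ℤ) < scale := by decide
    have hit' : (0 : ℚ) < (it.2 : ℚ) := by exact_mod_cast hpos
    by_cases hp : 0 < e.coef v.row
    · rw [if_pos hp] at h
      have hn0 : (0 : ℚ) ≤ (n : ℚ) := by
        exact_mod_cast (mul_nonneg (mul_nonneg hp.le (mul_self_nonneg _)) hsc.le : (0 : ℤ) ≤ n)
      rcases hh : v.hi with _ | h'
      · rw [hh, Option.some.injEq] at h
        subst h
        simpa using div_nonneg hn0 hit'.le
      · rw [hh, Option.some.injEq] at h
        subst h
        have := hhi' h' hh
        refine (ediv_cast_le n (by omega)).trans (div_le_div_of_nonneg_left hn0 hit' ?_)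
        exact_mod_cast (show it.2 ≤ v.x + 64 * (h' : ℤ) by rw [hit]; omega)
    · rw [if_neg hp, Option.some.injEq] at h
      subst h
      have hn0 : (n : ℚ) ≤ 0 := by
        exact_mod_cast (mul_nonpos_of_nonpos_of_nonneg
          (mul_nonpos_of_nonpos_of_nonneg (not_lt.1 hp) (mul_self_nonneg _)) hsc.le : n ≤ (0 : ℤ))
      refine (ediv_cast_le n (by omega)).trans ?_
      rw [← neg_le_neg_iff, ← neg_div, ← neg_div]
      refine div_le_div_of_nonneg_left (neg_nonneg.2 hn0) ?_ ?_
      · exact_mod_cast (show (0 : ℤ) < v.x + 64 * (v.lo : ℤ) by omega)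
      · exact_mod_cast (show v.x + 64 * (v.lo : ℤ) ≤ it.2 by rw [hit]; omega)

theorem term_neg (e : Eqn) (it : Item) : term ⟨e.kind, -e.p, -e.q, -e.r⟩ it = -term e it := by
  unfold term Eqn.coef
  simp only
  split <;> push_cast <;> ring

theorem le_upperV {e : Eqn} {v : Var} {it : Item} (hm : v.Mem it) {w : ℤ} (h : upperV e v = some w) :
    term e it ≤ (w : ℚ) := by
  unfold upperV at h
  rw [Option.map_eq_some_iff] at h
  obtain ⟨w', hw', rfl⟩ := h
  have := lowerV_le hm hw'
  rw [term_neg] at this
  push_cast
  linarith

theorem addO_eq_some {a b : Option ℤ} {w : ℤ} (h : addO a b = some w) :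
    ∃ x y, a = some x ∧ b = some y ∧ w = x + y := by
  cases a with
  | none => simp [addO] at h
  | some x => cases b with
    | none => simp [addO] at h
    | some y => exact ⟨x, y, rfl, rfl, by simpa [addO, eq_comm] using h⟩

theorem minO_eq_some {a b : Option ℤ} {w : ℤ} (h : minO a b = some w) :
    ∃ x y, a = some x ∧ b = some y ∧ w = min x y := by
  cases a with
  | none => simp [minO] at h
  | some x => cases b with
    | none => simp [minO] at h
    | some y => exact ⟨x, y, rfl, rfl, by simpa [minO, eq_comm] using h⟩

theorem maxO_eq_some {a b : Option ℤ} {w : ℤ} (h : maxO a b = some w) :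
    ∃ x y, a = some x ∧ b = some y ∧ w = max x y := by
  cases a with
  | none => simp [maxO] at h
  | some x => cases b with
    | none => simp [maxO] at h
    | some y => exact ⟨x, y, rfl, rfl, by simpa [maxO, eq_comm] using h⟩

/-- The groups of at most two variants, as produced by the search. -/
theorem lowerG_le {e : Eqn} {alts : List Var} {m : ℕ} {a : List Item} (hlen : a.length = m)
    (ha : ∀ it ∈ a, ∃ v ∈ alts, Var.Mem v it) (hal : alts.length ≤ 2) {w : ℤ}
    (h : lowerG e (alts, m) = some w) : (w : ℚ) ≤ (a.map (term e)).sum := by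
  have key : ∀ c : ℤ, (∀ it ∈ a, (c : ℚ) ≤ term e it) → ((m : ℤ) * c : ℚ) ≤ (a.map (term e)).sum := by
    intro c hc
    rw [← hlen]
    have := List.card_nsmul_le_sum (a.map (term e)) (c : ℚ) (fun x hx => by
      obtain ⟨it, hit, rfl⟩ := List.mem_map.1 hx; exact hc it hit)
    simpa [nsmul_eq_mul] using this
  match alts, hal with
  | [], _ =>
    simp only [lowerG, Option.some.injEq] at h
    subst h
    have : a = [] := List.eq_nil_iff_forall_not_mem.2 fun it hit => by simpa using ha it hit
    simp [this]
  | [v], _ =>
    simp only [lowerG, Option.map_eq_some_iff] at h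
    obtain ⟨c, hc, rfl⟩ := h
    push_cast
    exact_mod_cast key c fun it hit => by
      obtain ⟨v', hv', hm⟩ := ha it hit
      rw [List.mem_singleton] at hv'
      exact lowerV_le (hv' ▸ hm) hc
  | [v, v'], _ =>
    simp only [lowerG, Option.map_eq_some_iff] at h
    obtain ⟨c, hc, rfl⟩ := h
    obtain ⟨x, y, hx, hy, rfl⟩ := minO_eq_some hc
    push_cast
    exact_mod_cast key (min x y) fun it hit => by
      obtain ⟨u, hu, hm⟩ := ha it hit
      rcases List.mem_pair.1 hu with rfl | rfl
      · exact le_trans (by exact_mod_cast min_le_left x y) (lowerV_le hm hx)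
      · exact le_trans (by exact_mod_cast min_le_right x y) (lowerV_le hm hy)

theorem le_upperG {e : Eqn} {alts : List Var} {m : ℕ} {a : List Item} (hlen : a.length = m)
    (ha : ∀ it ∈ a, ∃ v ∈ alts, Var.Mem v it) (hal : alts.length ≤ 2) {w : ℤ}
    (h : upperG e (alts, m) = some w) : (a.map (term e)).sum ≤ (w : ℚ) := by
  have key : ∀ c : ℤ, (∀ it ∈ a, term e it ≤ (c : ℚ)) → (a.map (term e)).sum ≤ ((m : ℤ) * c : ℚ) := by
    intro c hc
    rw [← hlen]
    have := List.sum_le_card_nsmul (a.map (term e)) (c : ℚ) (fun x hx => by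
      obtain ⟨it, hit, rfl⟩ := List.mem_map.1 hx; exact hc it hit)
    simpa [nsmul_eq_mul] using this
  match alts, hal with
  | [], _ =>
    simp only [upperG, Option.some.injEq] at h
    subst h
    have : a = [] := List.eq_nil_iff_forall_not_mem.2 fun it hit => by simpa using ha it hit
    simp [this]
  | [v], _ =>
    simp only [upperG, Option.map_eq_some_iff] at h
    obtain ⟨c, hc, rfl⟩ := h
    push_cast
    exact_mod_cast key c fun it hit => by
      obtain ⟨v', hv', hm⟩ := ha it hit
      rw [List.mem_singleton] at hv'
      exact le_upperV (hv' ▸ hm) hc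
  | [v, v'], _ =>
    simp only [upperG, Option.map_eq_some_iff] at h
    obtain ⟨c, hc, rfl⟩ := h
    obtain ⟨x, y, hx, hy, rfl⟩ := maxO_eq_some hc
    push_cast
    exact_mod_cast key (max x y) fun it hit => by
      obtain ⟨u, hu, hm⟩ := ha it hit
      rcases List.mem_pair.1 hu with rfl | rfl
      · exact le_trans (le_upperV hm hx) (by exact_mod_cast le_max_left x y)
      · exact le_trans (le_upperV hm hy) (by exact_mod_cast le_max_right x y)

theorem lowerS_le {e : Eqn} {fx : List Var} {gs : List Grp} (hgs : ∀ g ∈ gs, g.1.length ≤ 2)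
    {l : List Item} (hl : Fits fx gs l) {w : ℤ} (h : lowerS e fx gs = some w) : (w : ℚ) ≤ total e l := by
  obtain ⟨l1, l2, hp, hf, hg⟩ := hl
  rw [total, (hp.map (term e)).sum_eq, List.map_append, List.sum_append]
  clear hp
  unfold lowerS at h
  induction gs generalizing l2 w with
  | nil =>
    simp only [GFits] at hg
    subst hg
    simp only [List.foldr_nil] at h
    simp only [List.map_nil, List.sum_nil, add_zero]
    clear hgs
    induction hf generalizing w with
    | nil => simp only [List.foldr_nil, Option.some.injEq] at h; subst h; simp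
    | cons hm _ ih =>
      simp only [List.foldr_cons] at h
      obtain ⟨x, y, hx, hy, rfl⟩ := addO_eq_some h
      have h1 := lowerV_le hm hx
      have h2 := ih hy
      simp only [List.map_cons, List.sum_cons]
      push_cast
      linarith
  | cons g gs ih =>
    obtain ⟨alts, m⟩ := g
    obtain ⟨a, b, rfl, hlen, ha, hb⟩ := hg
    simp only [List.foldr_cons] at h
    obtain ⟨x, y, hx, hy, rfl⟩ := addO_eq_some h
    have h1 := lowerG_le hlen ha (hgs _ List.mem_cons_self) hx
    have h2 := ih (fun g' hg' => hgs g' (List.mem_cons_of_mem _ hg')) (l2 := b) (w := y) hy hb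
    simp only [List.map_append, List.sum_append]
    push_cast
    linarith

theorem le_upperS {e : Eqn} {fx : List Var} {gs : List Grp} (hgs : ∀ g ∈ gs, g.1.length ≤ 2)
    {l : List Item} (hl : Fits fx gs l) {w : ℤ} (h : upperS e fx gs = some w) : total e l ≤ (w : ℚ) := by
  obtain ⟨l1, l2, hp, hf, hg⟩ := hl
  rw [total, (hp.map (term e)).sum_eq, List.map_append, List.sum_append]
  clear hp
  unfold upperS at h
  induction gs generalizing l2 w with
  | nil =>
    simp only [GFits] at hg
    subst hg
    simp only [List.foldr_nil] at h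
    simp only [List.map_nil, List.sum_nil, add_zero]
    clear hgs
    induction hf generalizing w with
    | nil => simp only [List.foldr_nil, Option.some.injEq] at h; subst h; simp
    | cons hm _ ih =>
      simp only [List.foldr_cons] at h
      obtain ⟨x, y, hx, hy, rfl⟩ := addO_eq_some h
      have h1 := le_upperV hm hx
      have h2 := ih hy
      simp only [List.map_cons, List.sum_cons]
      push_cast
      linarith
  | cons g gs ih =>
    obtain ⟨alts, m⟩ := g
    obtain ⟨a, b, rfl, hlen, ha, hb⟩ := hg
    simp only [List.foldr_cons] at h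
    obtain ⟨x, y, hx, hy, rfl⟩ := addO_eq_some h
    have h1 := le_upperG hlen ha (hgs _ List.mem_cons_self) hx
    have h2 := ih (fun g' hg' => hgs g' (List.mem_cons_of_mem _ hg')) (l2 := b) (w := y) hy hb
    simp only [List.map_append, List.sum_append]
    push_cast
    linarith

theorem not_cons_of_dead {fx : List Var} {gs : List Grp} (hgs : ∀ g ∈ gs, g.1.length ≤ 2)
    (h : dead fx gs = true) {l : List Item} (hl : Fits fx gs l) : ¬ Cons l := by
  intro hc
  rw [dead, List.any_eq_true] at h
  obtain ⟨e, he, hd⟩ := h
  have hce := hc e he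
  by_cases hk : e.kind = .neg
  · rw [if_pos hk] at hce
    unfold deadEqn at hd
    rw [hk] at hd
    simp only at hd
    rcases hw : lowerS e fx gs with _ | w
    · simp [hw] at hd
    · simp only [hw, decide_eq_true_eq] at hd
      have := lowerS_le hgs hl hw
      have : (0 : ℚ) ≤ w := by exact_mod_cast hd
      linarith
  · rw [if_neg hk] at hce
    have hd' : ((match lowerS e fx gs with | some l => decide (0 < l) | none => false) ||
        (match upperS e fx gs with | some u => decide (u < 0) | none => false)) = true := by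
      unfold deadEqn at hd
      rcases hk' : e.kind with _ | _ | _
      · rw [hk'] at hd; exact hd
      · rw [hk'] at hd; exact hd
      · exact absurd hk' hk
    rw [Bool.or_eq_true] at hd'
    rcases hd' with hd' | hd'
    · rcases hw : lowerS e fx gs with _ | w
      · simp [hw] at hd'
      · simp only [hw, decide_eq_true_eq] at hd'
        have := lowerS_le hgs hl hw
        have : (0 : ℚ) < w := by exact_mod_cast hd'
        linarith
    · rcases hw : upperS e fx gs with _ | w
      · simp [hw] at hd'
      · simp only [hw, decide_eq_true_eq] at hd'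
        have := le_upperS hgs hl hw
        have : (w : ℚ) < 0 := by exact_mod_cast hd'
        linarith

theorem forall₂_replicate {v : Var} {a : List Item} (h : ∀ it ∈ a, Var.Mem v it) :
    List.Forall₂ Var.Mem (List.replicate a.length v) a := by
  induction a with
  | nil => exact List.Forall₂.nil
  | cons it a ih =>
    exact List.Forall₂.cons (h it List.mem_cons_self) (ih fun x hx => h x (List.mem_cons_of_mem _ hx))

theorem forall₂_set {fx : List Var} {l : List Item} (h : List.Forall₂ Var.Mem fx l) {i : ℕ}
    {v v1 v2 : Var} (hi : fx[i]? = some v) (hv : ∀ it, Var.Mem v it → Var.Mem v1 it ∨ Var.Mem v2 it) :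
    List.Forall₂ Var.Mem (fx.set i v1) l ∨ List.Forall₂ Var.Mem (fx.set i v2) l := by
  induction h generalizing i with
  | nil => simp at hi
  | cons hm hr ih =>
    cases i with
    | zero =>
      simp only [List.getElem?_cons_zero, Option.some.injEq] at hi
      subst hi
      rcases hv _ hm with h1 | h1
      · exact Or.inl (List.Forall₂.cons h1 hr)
      · exact Or.inr (List.Forall₂.cons h1 hr)
    | succ i =>
      simp only [List.getElem?_cons_succ] at hi
      rcases ih hi with h1 | h1
      · exact Or.inl (List.Forall₂.cons hm h1)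
      · exact Or.inr (List.Forall₂.cons hm h1)

theorem kills_sound : ∀ (fuel : ℕ) (fx : List Var) (gs : List Grp), kills fuel fx gs = true →
    (∀ g ∈ gs, g.1.length ≤ 2) → ∀ l : List Item, Fits fx gs l → ¬ Cons l := by
  intro fuel
  induction fuel with
  | zero => intro fx gs h; simp [kills] at h
  | succ fuel ih =>
    intro fx gs h hgs l hl
    rw [kills.eq_def] at h
    simp only [Bool.or_eq_true] at h
    rcases h with h | h
    · exact not_cons_of_dead hgs h hl
    obtain ⟨l1, l2, hp, hf, hg⟩ := hl
    match gs with
    | ([], m) :: rest =>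
      simp only [decide_eq_true_eq] at h
      obtain ⟨a, b, -, hlen, ha, -⟩ := hg
      obtain ⟨it, hit⟩ := List.exists_mem_of_length_pos (by omega : 0 < a.length)
      simpa using ha it hit
    | ([v], m) :: rest =>
      simp only at h
      obtain ⟨a, b, rfl, hlen, ha, hb⟩ := hg
      refine ih _ _ h (fun g hg' => hgs g (List.mem_cons_of_mem _ hg')) l ⟨a ++ l1, b, hp.trans ?_, ?_, hb⟩
      · rw [← List.append_assoc]
        exact List.perm_append_comm.append_right b
      · refine List.rel_append ?_ hf
        rw [← hlen]
        exact forall₂_replicate fun it hit => by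
          obtain ⟨u, hu, hm⟩ := ha it hit
          rwa [List.mem_singleton.1 hu] at hm
    | ([v, w], m) :: rest =>
      simp only [List.all_eq_true, List.mem_range] at h
      obtain ⟨a, b, rfl, hlen, ha, hb⟩ := hg
      classical
      set a1 := a.filter fun it => decide (Var.Mem v it)
      set a2 := a.filter fun it => !decide (Var.Mem v it)
      have hperm : (a1 ++ a2).Perm a := List.filter_append_perm _ a
      have hlen2 : a1.length + a2.length = m := by rw [← List.length_append, hperm.length_eq, hlen]
      refine ih _ _ (h a1.length (by omega)) (fun g hg' => hgs g (List.mem_cons_of_mem _ hg')) l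
        ⟨a1 ++ a2 ++ l1, b, hp.trans ?_, ?_, hb⟩
      · rw [← List.append_assoc]
        exact ((hperm.symm.append_left l1).trans List.perm_append_comm).append_right b
      · refine List.rel_append (List.rel_append ?_ ?_) hf
        · exact forall₂_replicate fun it hit => of_decide_eq_true (List.mem_filter.1 hit).2
        · rw [show m - a1.length = a2.length by omega]
          refine forall₂_replicate fun it hit => ?_
          obtain ⟨hit1, hit2⟩ := List.mem_filter.1 hit
          obtain ⟨u, hu, hm⟩ := ha it hit1
          rcases List.mem_pair.1 hu with rfl | rfl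
          · simp [hm] at hit2
          · exact hm
    | (_ :: _ :: _ :: _, m) :: rest =>
      have := hgs _ List.mem_cons_self
      simp only [List.length_cons] at this
      omega
    | [] =>
      simp only at h
      rcases hi : fx[(pick fx).1]? with _ | v
      · simp [hi] at h
      simp only [hi] at h
      have split : ∀ v1 v2 : Var, (∀ it, Var.Mem v it → Var.Mem v1 it ∨ Var.Mem v2 it) →
          kills fuel (fx.set (pick fx).1 v1) [] = true → kills fuel (fx.set (pick fx).1 v2) [] = true →
          ¬ Cons l := by
        intro v1 v2 hv h1 h2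
        rcases forall₂_set hf hi hv with hf' | hf'
        · exact ih _ _ h1 hgs l ⟨l1, l2, hp, hf', hg⟩
        · exact ih _ _ h2 hgs l ⟨l1, l2, hp, hf', hg⟩
      have hv : ∀ (hi2 : Option ℕ), hi2 = v.hi → ∀ it, Var.Mem v it →
          Var.Mem ⟨v.row, v.x, v.lo, some (midpoint v)⟩ it ∨
            Var.Mem ⟨v.row, v.x, midpoint v + 1, hi2⟩ it := by
        rintro hi2 rfl it ⟨hr, hx, k, hlo, hhi, hit⟩
        by_cases hk : k ≤ midpoint v
        · exact Or.inl ⟨hr, hx, k, hlo, fun h' e => by
            simp only [Option.some.injEq] at e; omega, hit⟩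
        · exact Or.inr ⟨hr, hx, k, by simp only; omega, hhi, hit⟩
      rcases hh : v.hi with _ | h'
      · simp only [hh, Bool.and_eq_true] at h
        exact split _ _ (hv none hh.symm) h.1 h.2
      · simp only [hh] at h
        by_cases hle : h' ≤ v.lo
        · simp [hle] at h
        · simp only [hle, if_false, Bool.and_eq_true] at h
          exact split _ _ (hv (some h') hh.symm) h.1 h.2

end CfsgLib.UFourFive.Search
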